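import Mathlib
import Cfsg.Prelude.Def_Involutions
import Cfsg.Agent.Helper4.StronglyEmb
import Cfsg.Agent.S0209

set_option autoImplicit false
set_option linter.style.haveILetI false

/-!
Strongly embedded subgroups (helper21): involutions fix exactly one coset, counting involutions
swapping two cosets, transitivity of `H ∩ H^u` on the involutions of `H`.
-/

namespace Cfsg.Agent.Helper21

open Cfsg Cfsg.Agent.Helper4

variable {G : Type*} [Group G]

theorem invol_inv {x : G} (hx : orderOf x = 2) : x⁻¹ = x :=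
  inv_eq_self_of_sq_one (sq_one_of_orderOf_two hx)

theorem orderOf_conj_eq (g x : G) : orderOf (g * x * g⁻¹) = orderOf x := by
  have : g * x * g⁻¹ = (MulAut.conj g) x := by rw [MulAut.conj_apply]
  rw [this, MulEquiv.orderOf_eq]

theorem orderOf_conj_eq' (g x : G) : orderOf (g⁻¹ * x * g) = orderOf x := by
  have := orderOf_conj_eq g⁻¹ x
  rwa [inv_inv] at this

section
variable [Finite G] {H : Subgroup G}

/-- the key property of strongly embedded subgroups, in element form -/
theorem IsStronglyEmbedded.key (hH : IsStronglyEmbedded H) :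
    ∀ g t : G, t ∈ H → orderOf t = 2 → g⁻¹ * t * g ∈ H → g ∈ H :=
  (stronglyEmbedded_iff H hH.1 hH.2.1).1 hH

theorem IsStronglyEmbedded.exists_invol (hH : IsStronglyEmbedded H) :
    ∃ t ∈ H, orderOf t = 2 :=
  (even_card_iff_exists_invol H).1 hH.2.1

/-- the centralizer of an involution of `H` lies in `H` -/
theorem IsStronglyEmbedded.mem_of_commute (hH : IsStronglyEmbedded H) {t c : G} (ht : t ∈ H)
    (ht2 : orderOf t = 2) (hc : Commute c t) : c ∈ H := by
  apply IsStronglyEmbedded.key hH c t ht ht2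
  have : c⁻¹ * t * c = t := by
    rw [mul_assoc, ← hc.eq, ← mul_assoc, inv_mul_cancel, one_mul]
  rw [this]; exact ht

/-- uniqueness of the fixed coset of an involution -/
theorem IsStronglyEmbedded.fix_unique (hH : IsStronglyEmbedded H) {u x y : G}
    (hu : orderOf u = 2) (hx : x⁻¹ * u * x ∈ H) (hy : y⁻¹ * u * y ∈ H) : x⁻¹ * y ∈ H := by
  apply IsStronglyEmbedded.key hH (x⁻¹ * y) (x⁻¹ * u * x) hx (by rw [orderOf_conj_eq', hu])
  have : (x⁻¹ * y)⁻¹ * (x⁻¹ * u * x) * (x⁻¹ * y) = y⁻¹ * u * y := by group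
  rw [this]; exact hy

/-- `H` contains a Sylow 2-subgroup of `G`. -/
theorem IsStronglyEmbedded.exists_sylow_le (hH : IsStronglyEmbedded H) :
    ∃ S : Sylow 2 G, (S : Subgroup G) ≤ H := by
  haveI : Fact (Nat.Prime 2) := ⟨Nat.prime_two⟩
  obtain ⟨t, htH, ht2⟩ := IsStronglyEmbedded.exists_invol hH
  have htp : IsPGroup 2 (Subgroup.zpowers t) := by
    apply IsPGroup.of_card (n := 1)
    rw [Nat.card_zpowers, ht2, pow_one]
  obtain ⟨S, hS⟩ := htp.exists_le_sylow
  have htS : t ∈ (S : Subgroup G) := hS (Subgroup.mem_zpowers t)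
  refine ⟨S, ?_⟩
  -- a central involution of S
  haveI : Nontrivial (S : Subgroup G) := by
    rw [Subgroup.nontrivial_iff_ne_bot]
    intro h
    rw [h, Subgroup.mem_bot] at htS
    rw [htS, orderOf_one] at ht2
    omega
  haveI : Finite (S : Subgroup G) := inferInstance
  have hZ : Nontrivial (Subgroup.center (S : Subgroup G)) := S.isPGroup'.center_nontrivial
  have hZp : IsPGroup 2 (Subgroup.center (S : Subgroup G)) := S.isPGroup'.to_subgroup _
  obtain ⟨n, hn⟩ := IsPGroup.iff_card.1 hZp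
  have hn0 : n ≠ 0 := by
    rintro rfl
    rw [pow_zero] at hn
    have := (Nat.card_eq_one_iff_unique.1 hn).1
    exact not_subsingleton _ this
  have h2 : 2 ∣ Nat.card (Subgroup.center (S : Subgroup G)) := by
    rw [hn]; exact dvd_pow_self 2 hn0
  obtain ⟨z, hz⟩ := exists_prime_orderOf_dvd_card' 2 h2
  -- z as an element of G
  have hz2 : orderOf ((z : (S : Subgroup G)) : G) = 2 := by
    rw [Subgroup.orderOf_coe, Subgroup.orderOf_coe]; exact hz
  have hzc : ∀ s ∈ (S : Subgroup G), Commute s ((z : (S : Subgroup G)) : G) := by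
    intro s hs
    have := Subgroup.mem_center_iff.1 z.2 ⟨s, hs⟩
    exact congrArg Subtype.val this
  have hzH : ((z : (S : Subgroup G)) : G) ∈ H :=
    IsStronglyEmbedded.mem_of_commute hH htH ht2 (hzc t htS).symm
  intro s hs
  exact IsStronglyEmbedded.mem_of_commute hH hzH hz2 (hzc s hs)

/-- every involution of `G` is conjugate into `H` -/
theorem IsStronglyEmbedded.exists_conj_mem (hH : IsStronglyEmbedded H) {u : G}
    (hu : orderOf u = 2) : ∃ x : G, x⁻¹ * u * x ∈ H := by
  haveI : Fact (Nat.Prime 2) := ⟨Nat.prime_two⟩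
  obtain ⟨S, hS⟩ := IsStronglyEmbedded.exists_sylow_le hH
  have hup : IsPGroup 2 (Subgroup.zpowers u) := by
    apply IsPGroup.of_card (n := 1)
    rw [Nat.card_zpowers, hu, pow_one]
  obtain ⟨S', hS'⟩ := hup.exists_le_sylow
  obtain ⟨g, hg⟩ := MulAction.exists_smul_eq G S S'
  refine ⟨g, hS ?_⟩
  have huS' : u ∈ (S' : Subgroup G) := hS' (Subgroup.mem_zpowers u)
  rw [← hg, Sylow.coe_subgroup_smul, Subgroup.mem_pointwise_smul_iff_inv_smul_mem] at huS'
  simpa [MulAut.smul_def, mul_assoc] using huS'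

/-- two involutions whose product has even order have a common fixed coset -/
theorem IsStronglyEmbedded.exists_common_fix_of_even (hH : IsStronglyEmbedded H) {t i : G}
    (ht : orderOf t = 2) (hi : orderOf i = 2) (heven : Even (orderOf (t * i))) :
    ∃ x : G, x⁻¹ * t * x ∈ H ∧ x⁻¹ * i * x ∈ H := by
  obtain ⟨hc2, hct, hci⟩ := Cfsg.Agent.S0209.result t i ht hi heven
  set c := (t * i) ^ (orderOf (t * i) / 2) with hc
  obtain ⟨x, hx⟩ := IsStronglyEmbedded.exists_conj_mem hH hc2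
  have hx2 : orderOf (x⁻¹ * c * x) = 2 := by rw [orderOf_conj_eq', hc2]
  refine ⟨x, ?_, ?_⟩
  · apply IsStronglyEmbedded.mem_of_commute hH hx hx2
    have := hct.eq
    show x⁻¹ * t * x * (x⁻¹ * c * x) = x⁻¹ * c * x * (x⁻¹ * t * x)
    calc x⁻¹ * t * x * (x⁻¹ * c * x) = x⁻¹ * (t * c) * x := by group
      _ = x⁻¹ * (c * t) * x := by rw [this]
      _ = x⁻¹ * c * x * (x⁻¹ * t * x) := by group
  · apply IsStronglyEmbedded.mem_of_commute hH hx hx2
    have := hci.eq
    show x⁻¹ * i * x * (x⁻¹ * c * x) = x⁻¹ * c * x * (x⁻¹ * i * x)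
    calc x⁻¹ * i * x * (x⁻¹ * c * x) = x⁻¹ * (i * c) * x := by group
      _ = x⁻¹ * (c * i) * x := by rw [this]
      _ = x⁻¹ * c * x * (x⁻¹ * i * x) := by group

/-- an involution of `H` times an involution fixing a different coset has odd order -/
theorem IsStronglyEmbedded.odd_orderOf_mul (hH : IsStronglyEmbedded H) {t i g : G}
    (ht : orderOf t = 2) (htH : t ∈ H) (hi : orderOf i = 2) (hg : g ∉ H)
    (hig : g⁻¹ * i * g ∈ H) : Odd (orderOf (t * i)) := by
  rw [← Nat.not_even_iff_odd]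
  intro heven
  obtain ⟨x, hx1, hx2⟩ := IsStronglyEmbedded.exists_common_fix_of_even hH ht hi heven
  have hxH : x ∈ H := IsStronglyEmbedded.key hH x t htH ht hx1
  have h2 := IsStronglyEmbedded.fix_unique hH hi hx2 hig
  apply hg
  have : g = x * (x⁻¹ * g) := by group
  rw [this]
  exact H.mul_mem hxH h2

end

end Cfsg.Agent.Helper21

namespace Cfsg.Agent.Helper21

open Cfsg Cfsg.Agent.Helper4

variable {G : Type*} [Group G]

/-- For involutions `t`, `s` with `t * s` of odd order: the involution of `⟨t, s⟩` conjugating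
`t` to `s`. -/
noncomputable def mid (t s : G) : G := t * (t * s) ^ ((orderOf (t * s) + 1) / 2)

theorem invol_conj_mul_pow {t s : G} (ht : t * t = 1) (hs : s * s = 1) (m : ℕ) :
    t * (t * s) ^ m * t = ((t * s) ^ m)⁻¹ := by
  have hti : t⁻¹ = t := inv_eq_self_of_sq_one ht
  have hsi : s⁻¹ = s := inv_eq_self_of_sq_one hs
  have h1 : t * (t * s) * t⁻¹ = (t * s)⁻¹ := invol_conj_mul ht hs
  have h2 : t * (t * s) ^ m * t⁻¹ = ((t * s)⁻¹) ^ m := by rw [← conj_pow, h1]
  rw [hti] at h2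
  rw [h2, inv_pow]

theorem mid_mul_self {t s : G} (ht : t * t = 1) (hs : s * s = 1) :
    mid t s * mid t s = 1 := by
  unfold mid
  set m := (orderOf (t * s) + 1) / 2
  calc t * (t * s) ^ m * (t * (t * s) ^ m) = (t * (t * s) ^ m * t) * (t * s) ^ m := by group
    _ = 1 := by rw [invol_conj_mul_pow ht hs, inv_mul_cancel]

theorem mid_conj {t s : G} (ht : t * t = 1) (hs : s * s = 1) (hodd : Odd (orderOf (t * s))) :
    mid t s * t * mid t s = s := by
  unfold mid
  set m := (orderOf (t * s) + 1) / 2 with hm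
  have h2m : 2 * m = orderOf (t * s) + 1 := by
    obtain ⟨k, hk⟩ := hodd
    rw [hm, hk]; omega
  calc t * (t * s) ^ m * t * (t * (t * s) ^ m)
      = t * ((t * s) ^ m * (t * t) * (t * s) ^ m) := by group
    _ = t * ((t * s) ^ (2 * m)) := by rw [ht, mul_one, ← pow_add, two_mul]
    _ = t * (t * s) := by rw [h2m, pow_succ, pow_orderOf_eq_one, one_mul]
    _ = s := by rw [← mul_assoc, ht, one_mul]

theorem mid_of_conj {t j : G} (ht : t * t = 1) (hj : j * j = 1) (hodd : Odd (orderOf (t * j))) :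
    mid t (j * t * j) = j := by
  unfold mid
  have hr : t * (j * t * j) = (t * j) ^ 2 := by rw [pow_two]; group
  rw [hr]
  have hord : orderOf ((t * j) ^ 2) = orderOf (t * j) := by
    exact Nat.Coprime.orderOf_pow (Nat.coprime_two_right.2 hodd)
  rw [hord]
  set n := orderOf (t * j) with hn
  have h2m : 2 * ((n + 1) / 2) = n + 1 := by
    obtain ⟨k, hk⟩ := hodd
    rw [hk]; omega
  rw [← pow_mul, h2m, pow_succ, hn, pow_orderOf_eq_one, one_mul, ← mul_assoc, ht, one_mul]

section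
variable [Finite G] {H : Subgroup G}

/-- The involutions mapping the coset `H` to the coset `gH` (`g ∉ H`) are in bijection with the
involutions of `H`. -/
noncomputable def IsStronglyEmbedded.involEquiv (hH : IsStronglyEmbedded H) {g : G} (hg : g ∉ H)
    {t₀ : G} (ht₀ : orderOf t₀ = 2) (ht₀H : t₀ ∈ H) :
    {j : G // orderOf j = 2 ∧ g⁻¹ * j ∈ H} ≃ {s : G // orderOf s = 2 ∧ s ∈ H} where
  toFun j := ⟨g⁻¹ * (j.1 * t₀ * j.1) * g, by
    obtain ⟨j, hj2, hjH⟩ := j
    have hji : j⁻¹ = j := invol_inv hj2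
    have e : g⁻¹ * (j * t₀ * j) * g = (g⁻¹ * j) * t₀ * (g⁻¹ * j)⁻¹ := by
      rw [mul_inv_rev, inv_inv, hji]; group
    constructor
    · show orderOf (g⁻¹ * (j * t₀ * j) * g) = 2
      rw [e, orderOf_conj_eq, ht₀]
    · show g⁻¹ * (j * t₀ * j) * g ∈ H
      rw [e]
      exact H.mul_mem (H.mul_mem hjH ht₀H) (H.inv_mem hjH)⟩
  invFun s := ⟨mid t₀ (g * s.1 * g⁻¹), by
    obtain ⟨s, hs2, hsH⟩ := s
    have ht : t₀ * t₀ = 1 := sq_one_of_orderOf_two ht₀
    have hs'2 : orderOf (g * s * g⁻¹) = 2 := by rw [orderOf_conj_eq, hs2]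
    have hs' : (g * s * g⁻¹) * (g * s * g⁻¹) = 1 := sq_one_of_orderOf_two hs'2
    have hfix : g⁻¹ * (g * s * g⁻¹) * g ∈ H := by
      have : g⁻¹ * (g * s * g⁻¹) * g = s := by group
      rw [this]; exact hsH
    have hodd := IsStronglyEmbedded.odd_orderOf_mul hH ht₀ ht₀H hs'2 hg hfix
    have hsq := mid_mul_self ht hs'
    have hcj := mid_conj ht hs' hodd
    set j := mid t₀ (g * s * g⁻¹) with hj
    have hji : j⁻¹ = j := inv_eq_self_of_sq_one hsq
    have hw : (g⁻¹ * j) * t₀ * (g⁻¹ * j)⁻¹ = s := by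
      rw [mul_inv_rev, inv_inv, hji]
      calc g⁻¹ * j * t₀ * (j * g) = g⁻¹ * (j * t₀ * j) * g := by group
        _ = s := by rw [hcj]; group
    have hwH : g⁻¹ * j ∈ H := by
      have h1 := IsStronglyEmbedded.key hH (g⁻¹ * j)⁻¹ t₀ ht₀H ht₀ (by
        rw [inv_inv, hw]; exact hsH)
      simpa using H.inv_mem h1
    refine ⟨orderOf_two_of_sq_one hsq ?_, hwH⟩
    intro h1
    apply hg
    rw [h1, mul_one] at hwH
    simpa using H.inv_mem hwH⟩
  left_inv j := by
    obtain ⟨j, hj2, hjH⟩ := j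
    apply Subtype.ext
    show mid t₀ (g * (g⁻¹ * (j * t₀ * j) * g) * g⁻¹) = j
    have e : g * (g⁻¹ * (j * t₀ * j) * g) * g⁻¹ = j * t₀ * j := by group
    rw [e]
    apply mid_of_conj (sq_one_of_orderOf_two ht₀) (sq_one_of_orderOf_two hj2)
    obtain ⟨x, hx⟩ := IsStronglyEmbedded.exists_conj_mem hH hj2
    have hxH : x ∉ H := by
      intro hxH
      have hjH' : j ∈ H := by
        have : j = x * (x⁻¹ * j * x) * x⁻¹ := by group
        rw [this]
        exact H.mul_mem (H.mul_mem hxH hx) (H.inv_mem hxH)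
      apply hg
      have : g = j * (g⁻¹ * j)⁻¹ := by group
      rw [this]
      exact H.mul_mem hjH' (H.inv_mem hjH)
    exact IsStronglyEmbedded.odd_orderOf_mul hH ht₀ ht₀H hj2 hxH hx
  right_inv s := by
    obtain ⟨s, hs2, hsH⟩ := s
    apply Subtype.ext
    show g⁻¹ * (mid t₀ (g * s * g⁻¹) * t₀ * mid t₀ (g * s * g⁻¹)) * g = s
    have ht : t₀ * t₀ = 1 := sq_one_of_orderOf_two ht₀
    have hs'2 : orderOf (g * s * g⁻¹) = 2 := by rw [orderOf_conj_eq, hs2]
    have hs' : (g * s * g⁻¹) * (g * s * g⁻¹) = 1 := sq_one_of_orderOf_two hs'2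
    have hfix : g⁻¹ * (g * s * g⁻¹) * g ∈ H := by
      have : g⁻¹ * (g * s * g⁻¹) * g = s := by group
      rw [this]; exact hsH
    have hodd := IsStronglyEmbedded.odd_orderOf_mul hH ht₀ ht₀H hs'2 hg hfix
    rw [mid_conj ht hs' hodd]
    group

end

end Cfsg.Agent.Helper21
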