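import Mathlib
import Cfsg.Agent.Helper21.SE

set_option autoImplicit false
set_option linter.style.haveILetI false

/-!
Strongly embedded subgroups, part 2 (helper21): `H ∩ H^u` is transitive on the involutions of `H`;
all involutions are conjugate.
-/

namespace Cfsg.Agent.Helper21

open Cfsg Cfsg.Agent.Helper4

variable {G : Type*} [Group G] [Finite G] {H : Subgroup G}

/-- `D = H ∩ H^u` is transitive on the involutions of `H`. -/
theorem IsStronglyEmbedded.exists_conj_inf (hH : IsStronglyEmbedded H) {u : G}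
    (hu : orderOf u = 2) (huH : u ∉ H) {s t : G} (hs : orderOf s = 2) (hsH : s ∈ H)
    (ht : orderOf t = 2) (htH : t ∈ H) :
    ∃ d ∈ (H ⊓ H.map (MulAut.conj u).toMonoidHom), d * s * d⁻¹ = t := by
  set e := IsStronglyEmbedded.involEquiv hH huH hs hsH with he
  obtain ⟨⟨i, hi2, hiH⟩, hi⟩ := e.surjective ⟨t, ht, htH⟩
  have hval : u⁻¹ * (i * s * i) * u = t := congrArg Subtype.val hi
  have hii : i⁻¹ = i := invol_inv hi2
  have hui : u⁻¹ = u := invol_inv hu
  refine ⟨u⁻¹ * i, ?_, ?_⟩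
  · rw [mem_inf_conj]
    refine ⟨hiH, ?_⟩
    have : u⁻¹ * (u⁻¹ * i) * u = (u⁻¹ * i)⁻¹ := by
      rw [mul_inv_rev, inv_inv, hii, hui]
      have huu : u * u = 1 := sq_one_of_orderOf_two hu
      calc u * (u * i) * u = (u * u) * i * u := by group
        _ = i * u := by rw [huu, one_mul]
    rw [this]
    exact H.inv_mem hiH
  · rw [mul_inv_rev, inv_inv, hii, ← hval]
    group

/-- In a group with a strongly embedded subgroup all involutions are conjugate. -/
theorem IsStronglyEmbedded.isConj_of_invol (hH : IsStronglyEmbedded H) {u : G}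
    (hu : orderOf u = 2) (huH : u ∉ H) {a b : G} (ha : orderOf a = 2) (hb : orderOf b = 2) :
    IsConj a b := by
  obtain ⟨x, hx⟩ := IsStronglyEmbedded.exists_conj_mem hH ha
  obtain ⟨y, hy⟩ := IsStronglyEmbedded.exists_conj_mem hH hb
  obtain ⟨d, -, hd⟩ := IsStronglyEmbedded.exists_conj_inf hH hu huH
    (by rw [orderOf_conj_eq', ha]) hx (by rw [orderOf_conj_eq', hb]) hy
  rw [isConj_iff]
  refine ⟨y * d * x⁻¹, ?_⟩
  calc y * d * x⁻¹ * a * (y * d * x⁻¹)⁻¹ = y * (d * (x⁻¹ * a * x) * d⁻¹) * y⁻¹ := by group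
    _ = y * (y⁻¹ * b * y) * y⁻¹ := by rw [hd]
    _ = b := by group

end Cfsg.Agent.Helper21
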