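import Mathlib
import Cfsg.Agent.Helper21.SE2

set_option autoImplicit false
set_option linter.style.haveILetI false

/-!
Groups in which the centralizer of every involution is an elementary abelian 2-group (helper21).
-/

namespace Cfsg.Agent.Helper21

open Cfsg Cfsg.Agent.Helper4

variable {G : Type*} [Group G] [Finite G]

/-- the standing hypothesis: centralizers of involutions are elementary abelian 2-groups -/
def CITHyp (G : Type*) [Group G] : Prop :=
  ∀ t : G, orderOf t = 2 → IsMulCommutative (Subgroup.centralizer ({t} : Set G)) ∧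
    ∀ c ∈ Subgroup.centralizer ({t} : Set G), c ^ 2 = 1

theorem CITHyp.isPGroup_centralizer (hC : CITHyp G) {t : G} (ht : orderOf t = 2) :
    IsPGroup 2 (Subgroup.centralizer ({t} : Set G)) := by
  rintro ⟨c, hc⟩
  refine ⟨1, ?_⟩
  apply Subtype.ext
  simpa using (hC t ht).2 c hc

theorem sylow_ne_bot_of_not_isCyclic (T : Sylow 2 G) (hnc : ¬ IsCyclic (T : Subgroup G)) :
    (T : Subgroup G) ≠ ⊥ := by
  intro h
  apply hnc
  haveI : Subsingleton (T : Subgroup G) := by
    rw [h]; infer_instance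
  exact isCyclic_of_subsingleton

/-- there is an involution `z ∈ T` with `C(z) = T` -/
theorem CITHyp.exists_centralizer_eq (hC : CITHyp G) (T : Sylow 2 G)
    (hT : (T : Subgroup G) ≠ ⊥) :
    ∃ z ∈ (T : Subgroup G), orderOf z = 2 ∧ Subgroup.centralizer ({z} : Set G) = T := by
  haveI : Fact (Nat.Prime 2) := ⟨Nat.prime_two⟩
  haveI : Nontrivial (T : Subgroup G) := (Subgroup.nontrivial_iff_ne_bot _).2 hT
  have hZ : Nontrivial (Subgroup.center (T : Subgroup G)) := T.isPGroup'.center_nontrivial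
  have hZp : IsPGroup 2 (Subgroup.center (T : Subgroup G)) := T.isPGroup'.to_subgroup _
  obtain ⟨n, hn⟩ := IsPGroup.iff_card.1 hZp
  have hn0 : n ≠ 0 := by
    rintro rfl
    rw [pow_zero] at hn
    have := (Nat.card_eq_one_iff_unique.1 hn).1
    exact not_subsingleton _ this
  have h2 : 2 ∣ Nat.card (Subgroup.center (T : Subgroup G)) := by
    rw [hn]; exact dvd_pow_self 2 hn0
  obtain ⟨z, hz⟩ := exists_prime_orderOf_dvd_card' 2 h2
  have hz2 : orderOf ((z : (T : Subgroup G)) : G) = 2 := by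
    rw [Subgroup.orderOf_coe, Subgroup.orderOf_coe]; exact hz
  refine ⟨((z : (T : Subgroup G)) : G), (z : (T : Subgroup G)).2, hz2, ?_⟩
  have hle : (T : Subgroup G) ≤ Subgroup.centralizer ({((z : (T : Subgroup G)) : G)} : Set G) := by
    intro s hs
    rw [Subgroup.mem_centralizer_iff]
    intro y hy
    rw [Set.mem_singleton_iff] at hy
    subst hy
    have := Subgroup.mem_center_iff.1 z.2 ⟨s, hs⟩
    exact (congrArg Subtype.val this).symm
  exact T.is_maximal' (CITHyp.isPGroup_centralizer hC hz2) hle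

theorem CITHyp.sq_eq_one (hC : CITHyp G) (T : Sylow 2 G) (hT : (T : Subgroup G) ≠ ⊥) {x : G}
    (hx : x ∈ (T : Subgroup G)) : x ^ 2 = 1 := by
  obtain ⟨z, _, hz2, hz⟩ := CITHyp.exists_centralizer_eq hC T hT
  exact (hC z hz2).2 x (by rw [hz]; exact hx)

theorem CITHyp.comm (hC : CITHyp G) (T : Sylow 2 G) (hT : (T : Subgroup G) ≠ ⊥) {x y : G}
    (hx : x ∈ (T : Subgroup G)) (hy : y ∈ (T : Subgroup G)) : x * y = y * x := by
  obtain ⟨z, _, hz2, hz⟩ := CITHyp.exists_centralizer_eq hC T hT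
  have h1 := (hC z hz2).1
  have hx' : x ∈ Subgroup.centralizer ({z} : Set G) := by rw [hz]; exact hx
  have hy' : y ∈ Subgroup.centralizer ({z} : Set G) := by rw [hz]; exact hy
  have := h1.is_comm.comm ⟨x, hx'⟩ ⟨y, hy'⟩
  exact congrArg Subtype.val this

theorem CITHyp.orderOf_eq_two (hC : CITHyp G) (T : Sylow 2 G) (hT : (T : Subgroup G) ≠ ⊥) {x : G}
    (hx : x ∈ (T : Subgroup G)) (hx1 : x ≠ 1) : orderOf x = 2 :=
  orderOf_eq_prime (CITHyp.sq_eq_one hC T hT hx) hx1

/-- `C(t) = T` for every involution `t ∈ T` -/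
theorem CITHyp.centralizer_eq (hC : CITHyp G) (T : Sylow 2 G) (hT : (T : Subgroup G) ≠ ⊥) {t : G}
    (ht : t ∈ (T : Subgroup G)) (ht2 : orderOf t = 2) :
    Subgroup.centralizer ({t} : Set G) = T := by
  apply T.is_maximal' (CITHyp.isPGroup_centralizer hC ht2)
  intro s hs
  rw [Subgroup.mem_centralizer_iff]
  intro y hy
  rw [Set.mem_singleton_iff] at hy
  subst hy
  exact CITHyp.comm hC T hT ht hs

/-- Sylow 2-subgroups are TI. -/
theorem CITHyp.mem_normalizer_of_conj_mem (hC : CITHyp G) (T : Sylow 2 G)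
    (hT : (T : Subgroup G) ≠ ⊥) {g t : G} (ht : t ∈ (T : Subgroup G)) (ht1 : t ≠ 1)
    (hgt : g⁻¹ * t * g ∈ (T : Subgroup G)) : g ∈ Subgroup.normalizer ((T : Subgroup G) : Set G) := by
  have ht2 := CITHyp.orderOf_eq_two hC T hT ht ht1
  have ht2' : orderOf (g⁻¹ * t * g) = 2 := by rw [orderOf_conj_eq', ht2]
  have h1 := CITHyp.centralizer_eq hC T hT ht ht2
  have h2 := CITHyp.centralizer_eq hC T hT hgt ht2'
  -- x ∈ T ↔ g x g⁻¹ ∈ T
  have key : ∀ x : G, x ∈ (T : Subgroup G) ↔ g * x * g⁻¹ ∈ (T : Subgroup G) := by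
    intro x
    have e1 : x ∈ (T : Subgroup G) ↔ g⁻¹ * t * g * x = x * (g⁻¹ * t * g) := by
      rw [← h2, Subgroup.mem_centralizer_iff]
      simp only [Set.mem_singleton_iff, forall_eq]
    have e2 : g * x * g⁻¹ ∈ (T : Subgroup G) ↔ t * (g * x * g⁻¹) = g * x * g⁻¹ * t := by
      rw [← h1, Subgroup.mem_centralizer_iff]
      simp only [Set.mem_singleton_iff, forall_eq]
    rw [e1, e2]
    constructor
    · intro h
      calc t * (g * x * g⁻¹) = g * ((g⁻¹ * t * g) * x) * g⁻¹ := by group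
        _ = g * (x * (g⁻¹ * t * g)) * g⁻¹ := by rw [h]
        _ = g * x * g⁻¹ * t := by group
    · intro h
      calc g⁻¹ * t * g * x = g⁻¹ * (t * (g * x * g⁻¹)) * g := by group
        _ = g⁻¹ * ((g * x * g⁻¹) * t) * g := by rw [h]
        _ = x * (g⁻¹ * t * g) := by group
  rw [Subgroup.mem_normalizer_iff]
  exact key

/-- involutions (indeed 2-elements) of `N(T)` lie in `T` -/
theorem mem_sylow_of_mem_normalizer (T : Sylow 2 G) {t : G}
    (ht : t ∈ Subgroup.normalizer ((T : Subgroup G) : Set G)) (ht2 : orderOf t = 2) :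
    t ∈ (T : Subgroup G) := by
  haveI : Fact (Nat.Prime 2) := ⟨Nat.prime_two⟩
  have htp : IsPGroup 2 (Subgroup.zpowers t) := by
    apply IsPGroup.of_card (n := 1)
    rw [Nat.card_zpowers, ht2, pow_one]
  have h1 := htp.inf_normalizer_sylow T
  have h2 : t ∈ Subgroup.zpowers t ⊓ Subgroup.normalizer ((T : Subgroup G) : Set G) :=
    ⟨Subgroup.mem_zpowers t, ht⟩
  have h3 : t ∈ Subgroup.zpowers t ⊓ (T : Subgroup G) := by
    rw [← h1]; exact h2
  exact h3.2

/-- `N_G(T)` is strongly embedded. -/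
theorem CITHyp.isStronglyEmbedded (hC : CITHyp G) (T : Sylow 2 G)
    (hnc : ¬ IsCyclic (T : Subgroup G)) (hnn : ¬ (T : Subgroup G).Normal) :
    IsStronglyEmbedded (Subgroup.normalizer ((T : Subgroup G) : Set G)) := by
  have hT := sylow_ne_bot_of_not_isCyclic T hnc
  set N := Subgroup.normalizer ((T : Subgroup G) : Set G) with hN
  have hNtop : N ≠ ⊤ := by
    intro h
    exact hnn (Subgroup.normalizer_eq_top_iff.1 h)
  have hTN : (T : Subgroup G) ≤ N := Subgroup.le_normalizer
  have heven : Even (Nat.card N) := by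
    rw [even_card_iff_exists_invol]
    obtain ⟨z, hzT, hz2, -⟩ := CITHyp.exists_centralizer_eq hC T hT
    exact ⟨z, hTN hzT, hz2⟩
  rw [stronglyEmbedded_iff N hNtop heven]
  intro g t htN ht2 hgt
  have h1 : t ∈ (T : Subgroup G) := mem_sylow_of_mem_normalizer T htN ht2
  have h2 : g⁻¹ * t * g ∈ (T : Subgroup G) :=
    mem_sylow_of_mem_normalizer T hgt (by rw [orderOf_conj_eq', ht2])
  exact CITHyp.mem_normalizer_of_conj_mem hC T hT h1 (ne_one_of_orderOf_two ht2) h2

end Cfsg.Agent.Helper21
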