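import Mathlib
import Cfsg.Agent.Helper21.CIT

set_option autoImplicit false
set_option linter.style.haveILetI false
set_option linter.unusedSectionVars false
set_option linter.unusedVariables false

/-!
Structure of `N_G(T)` in a group whose involution centralizers are elementary abelian (helper21).
-/

namespace Cfsg.Agent.Helper21

open Cfsg Cfsg.Agent.Helper4

variable {G : Type*} [Group G] [Finite G]

theorem card_subtype_ne_one (α : Type*) [Finite α] (a : α) :
    Nat.card {x : α // x ≠ a} = Nat.card α - 1 := by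
  classical
  have h := Nat.card_congr (Equiv.optionSubtypeNe a)
  rw [Finite.card_option] at h
  omega

/-- the involutions of `N(T)` are the nonidentity elements of `T` -/
theorem CITHyp.card_invol (hC : CITHyp G) (T : Sylow 2 G) (hT : (T : Subgroup G) ≠ ⊥) :
    Nat.card {s : G // orderOf s = 2 ∧ s ∈ Subgroup.normalizer ((T : Subgroup G) : Set G)} =
      Nat.card T - 1 := by
  have e : {s : G // orderOf s = 2 ∧ s ∈ Subgroup.normalizer ((T : Subgroup G) : Set G)} ≃
      {x : (T : Subgroup G) // x ≠ 1} :=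
    { toFun := fun s => ⟨⟨s.1, mem_sylow_of_mem_normalizer T s.2.2 s.2.1⟩, by
        intro h
        have h' := congrArg Subtype.val h
        exact ne_one_of_orderOf_two s.2.1 h'⟩
      invFun := fun x => ⟨x.1.1, CITHyp.orderOf_eq_two hC T hT x.1.2 (by
        intro h; exact x.2 (Subtype.ext h)), Subgroup.le_normalizer x.1.2⟩
      left_inv := fun s => rfl
      right_inv := fun x => rfl }
  rw [Nat.card_congr e]
  exact card_subtype_ne_one _ _

/-- `D ∩ T = 1`. -/
theorem CITHyp.eq_one_of_mem_inf_of_mem (hC : CITHyp G) (T : Sylow 2 G)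
    (hnc : ¬ IsCyclic (T : Subgroup G)) (hnn : ¬ (T : Subgroup G).Normal)
    {u : G} (huH : u ∉ Subgroup.normalizer ((T : Subgroup G) : Set G)) {d : G}
    (hd : d ∈ Subgroup.normalizer ((T : Subgroup G) : Set G) ⊓
      (Subgroup.normalizer ((T : Subgroup G) : Set G)).map (MulAut.conj u).toMonoidHom)
    (hdT : d ∈ (T : Subgroup G)) : d = 1 := by
  have hT := sylow_ne_bot_of_not_isCyclic T hnc
  have hH := CITHyp.isStronglyEmbedded hC T hnc hnn
  by_contra h1
  have hd2 := CITHyp.orderOf_eq_two hC T hT hdT h1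
  obtain ⟨hdN, hdu⟩ := (mem_inf_conj _ u d).1 hd
  exact huH (IsStronglyEmbedded.key hH u d hdN hd2 hdu)

/-- `|D| = |T| - 1`, `u` inverts `D`, and `N(T) = D T`. -/
theorem CITHyp.structure (hC : CITHyp G) (T : Sylow 2 G)
    (hnc : ¬ IsCyclic (T : Subgroup G)) (hnn : ¬ (T : Subgroup G).Normal)
    {u : G} (hu : orderOf u = 2) (huH : u ∉ Subgroup.normalizer ((T : Subgroup G) : Set G)) :
    (∀ d ∈ Subgroup.normalizer ((T : Subgroup G) : Set G) ⊓
      (Subgroup.normalizer ((T : Subgroup G) : Set G)).map (MulAut.conj u).toMonoidHom,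
        u * d * u⁻¹ = d⁻¹) ∧
    Nat.card (Subgroup.normalizer ((T : Subgroup G) : Set G) ⊓
      (Subgroup.normalizer ((T : Subgroup G) : Set G)).map (MulAut.conj u).toMonoidHom :
        Subgroup G) = Nat.card T - 1 ∧
    (∀ h ∈ Subgroup.normalizer ((T : Subgroup G) : Set G),
      ∃ d ∈ Subgroup.normalizer ((T : Subgroup G) : Set G) ⊓
        (Subgroup.normalizer ((T : Subgroup G) : Set G)).map (MulAut.conj u).toMonoidHom,
      ∃ t ∈ (T : Subgroup G), h = d * t) := by
  have hT := sylow_ne_bot_of_not_isCyclic T hnc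
  have hH := CITHyp.isStronglyEmbedded hC T hnc hnn
  set N := Subgroup.normalizer ((T : Subgroup G) : Set G) with hN
  set D := N ⊓ N.map (MulAut.conj u).toMonoidHom with hD
  have hTN : (T : Subgroup G) ≤ N := Subgroup.le_normalizer
  obtain ⟨t₀, ht₀T, ht₀2, hCt₀⟩ := CITHyp.exists_centralizer_eq hC T hT
  have ht₀N : t₀ ∈ N := hTN ht₀T
  have hcardI := CITHyp.card_invol hC T hT
  rw [← hN] at hcardI
  -- the map D → I_H
  have hconjmem : ∀ d : D, orderOf ((d : G) * t₀ * (d : G)⁻¹) = 2 ∧ (d : G) * t₀ * (d : G)⁻¹ ∈ N := by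
    intro d
    refine ⟨by rw [orderOf_conj_eq, ht₀2], ?_⟩
    have hdN : (d : G) ∈ N := d.2.1
    exact N.mul_mem (N.mul_mem hdN ht₀N) (N.inv_mem hdN)
  let f : D → {s : G // orderOf s = 2 ∧ s ∈ N} := fun d => ⟨(d : G) * t₀ * (d : G)⁻¹, hconjmem d⟩
  have hfinj : Function.Injective f := by
    intro d d' hdd
    have h1 : (d : G) * t₀ * (d : G)⁻¹ = (d' : G) * t₀ * (d' : G)⁻¹ := congrArg Subtype.val hdd
    have h2 : (d' : G)⁻¹ * (d : G) ∈ Subgroup.centralizer ({t₀} : Set G) := by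
      rw [Subgroup.mem_centralizer_iff]
      intro y hy
      rw [Set.mem_singleton_iff] at hy
      subst hy
      calc y * ((d' : G)⁻¹ * (d : G)) = (d' : G)⁻¹ * ((d' : G) * y * (d' : G)⁻¹) * (d : G) := by
            group
        _ = (d' : G)⁻¹ * ((d : G) * y * (d : G)⁻¹) * (d : G) := by rw [h1]
        _ = (d' : G)⁻¹ * (d : G) * y := by group
    rw [hCt₀] at h2
    have h3 : (d' : G)⁻¹ * (d : G) ∈ D := D.mul_mem (D.inv_mem d'.2) d.2
    have h4 := CITHyp.eq_one_of_mem_inf_of_mem hC T hnc hnn huH h3 h2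
    apply Subtype.ext
    have : (d : G) = (d' : G) * ((d' : G)⁻¹ * (d : G)) := by group
    rw [this, h4, mul_one]
  have hfsurj : Function.Surjective f := by
    rintro ⟨s, hs2, hsN⟩
    obtain ⟨d, hdD, hd⟩ := IsStronglyEmbedded.exists_conj_inf hH hu huH ht₀2 ht₀N hs2 hsN
    exact ⟨⟨d, hdD⟩, Subtype.ext hd⟩
  have hcardD : Nat.card D = Nat.card T - 1 := by
    rw [← hcardI]
    exact Nat.card_eq_of_bijective f ⟨hfinj, hfsurj⟩
  -- the map N_u → D
  have hui : u⁻¹ = u := invol_inv hu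
  have hmemD : ∀ j : {j : G // orderOf j = 2 ∧ u⁻¹ * j ∈ N}, u⁻¹ * (j : G) ∈ D := by
    rintro ⟨j, hj2, hjN⟩
    rw [hD, mem_inf_conj]
    refine ⟨hjN, ?_⟩
    have hji : j⁻¹ = j := invol_inv hj2
    have : u⁻¹ * (u⁻¹ * j) * u = (u⁻¹ * j)⁻¹ := by
      rw [mul_inv_rev, inv_inv, hji, hui]
      have huu : u * u = 1 := sq_one_of_orderOf_two hu
      rw [← mul_assoc, huu, one_mul]
    rw [this]
    exact N.inv_mem hjN
  let g : {j : G // orderOf j = 2 ∧ u⁻¹ * j ∈ N} → D := fun j => ⟨u⁻¹ * (j : G), hmemD j⟩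
  have hginj : Function.Injective g := by
    intro j j' hjj
    have h1 : u⁻¹ * (j : G) = u⁻¹ * (j' : G) := congrArg Subtype.val hjj
    exact Subtype.ext (mul_left_cancel h1)
  have hcardNu : Nat.card {j : G // orderOf j = 2 ∧ u⁻¹ * j ∈ N} = Nat.card T - 1 := by
    rw [← hcardI]
    exact Nat.card_congr (IsStronglyEmbedded.involEquiv hH huH ht₀2 ht₀N)
  have hgbij : Function.Bijective g :=
    hginj.bijective_of_nat_card_le (by rw [hcardD, hcardNu])
  refine ⟨?_, hcardD, ?_⟩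
  · intro d hd
    obtain ⟨⟨j, hj2, hjN⟩, hj⟩ := hgbij.2 ⟨d, hd⟩
    have hjd : u⁻¹ * j = d := congrArg Subtype.val hj
    have hji : j⁻¹ = j := invol_inv hj2
    rw [← hjd, mul_inv_rev, inv_inv, hji, hui]
    have huu : u * u = 1 := sq_one_of_orderOf_two hu
    rw [← mul_assoc, huu, one_mul]
  · intro h hhN
    have hs2 : orderOf (h * t₀ * h⁻¹) = 2 := by rw [orderOf_conj_eq, ht₀2]
    have hsN : h * t₀ * h⁻¹ ∈ N := N.mul_mem (N.mul_mem hhN ht₀N) (N.inv_mem hhN)
    obtain ⟨d, hdD, hd⟩ := IsStronglyEmbedded.exists_conj_inf hH hu huH ht₀2 ht₀N hs2 hsN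
    refine ⟨d, hdD, d⁻¹ * h, ?_, by group⟩
    rw [← hCt₀, Subgroup.mem_centralizer_iff]
    intro y hy
    rw [Set.mem_singleton_iff] at hy
    subst hy
    calc y * (d⁻¹ * h) = d⁻¹ * (d * y * d⁻¹) * h := by group
      _ = d⁻¹ * (h * y * h⁻¹) * h := by rw [hd]
      _ = d⁻¹ * h * y := by group

end Cfsg.Agent.Helper21
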