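import Mathlib
import Cfsg.Agent.S0680
import Cfsg.Agent.Helper21.CIT2

set_option autoImplicit false
set_option linter.style.haveILetI false
set_option linter.unusedSectionVars false
set_option linter.unusedVariables false
set_option maxHeartbeats 1600000

/-!
A sharply 3-transitive group of degree `2^f + 1`, `f ≥ 2`, satisfies the CIT hypotheses (helper21).
-/

namespace Cfsg.Agent.Helper21

open Cfsg MulAction

section
variable {Γ : Type*} [Group Γ] {Ω : Type*} [MulAction Γ Ω]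

/-- action of a point stabilizer on the remaining points -/
@[reducible] def stabAction (o : Ω) : MulAction (stabilizer Γ o) {x : Ω // x ≠ o} where
  smul h x := ⟨(h : Γ) • x.1, fun hx => x.2
    (smul_left_cancel (h : Γ) (hx.trans (mem_stabilizer_iff.1 h.2).symm))⟩
  one_smul x := Subtype.ext (one_smul Γ x.1)
  mul_smul a b x := Subtype.ext (mul_smul (a : Γ) (b : Γ) x.1)

/-- a 2-element fixing two points of a set of odd size, in a group where only the identity fixes
three points, is trivial -/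
theorem eq_one_of_two_fixed [Finite Ω]
    (h3S : ∀ (g : Γ) (a1 a2 a3 : Ω), a1 ≠ a2 → a1 ≠ a3 → a2 ≠ a3 → g • a1 = a1 → g • a2 = a2 →
      g • a3 = a3 → g = 1)
    (hodd : ¬ 2 ∣ Nat.card Ω) {g : Γ} {n : ℕ} (hg : g ^ 2 ^ n = 1) {a b : Ω} (hab : a ≠ b)
    (ha : g • a = a) (hb : g • b = b) : g = 1 := by
  haveI : Fact (Nat.Prime 2) := ⟨Nat.prime_two⟩
  have hP : IsPGroup 2 (Subgroup.zpowers g) := by
    have hdvd : orderOf g ∣ 2 ^ n := orderOf_dvd_of_pow_eq_one hg
    obtain ⟨m, -, hm⟩ := (Nat.dvd_prime_pow Nat.prime_two).1 hdvd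
    apply IsPGroup.of_card (n := m)
    rw [Nat.card_zpowers, hm]
  have hmod := hP.card_modEq_card_fixedPoints Ω
  have hfix : ∀ x : Ω, g • x = x → x ∈ fixedPoints (Subgroup.zpowers g) Ω := by
    intro x hx
    rw [mem_fixedPoints]
    intro h
    have : Subgroup.zpowers g ≤ stabilizer Γ x := by
      rw [Subgroup.zpowers_le]; exact mem_stabilizer_iff.2 hx
    exact mem_stabilizer_iff.1 (this h.2)
  by_contra hne
  have hall : ∀ c ∈ fixedPoints (Subgroup.zpowers g) Ω, c = a ∨ c = b := by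
    intro c hc
    by_contra hcon
    push Not at hcon
    apply hne
    have hgc : g • c = c := (mem_fixedPoints.1 hc) ⟨g, Subgroup.mem_zpowers g⟩
    exact h3S g a b c hab (Ne.symm hcon.1) (Ne.symm hcon.2) ha hb hgc
  have hset : fixedPoints (Subgroup.zpowers g) Ω = {a, b} := by
    ext c
    constructor
    · intro hc
      rcases hall c hc with h | h
      · rw [h]; exact Set.mem_insert _ _
      · rw [h]; exact Set.mem_insert_of_mem _ rfl
    · rintro (h | h)
      · rw [h]; exact hfix a ha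
      · rw [Set.mem_singleton_iff] at h
        rw [h]; exact hfix b hb
  rw [hset, Nat.card_coe_set_eq, Set.ncard_pair hab] at hmod
  apply hodd
  exact (Nat.modEq_zero_iff_dvd.1 (hmod.trans (by decide : 2 ≡ 0 [MOD 2])))

end

section
variable {Γ : Type*} [Group Γ] [Finite Γ] {Ω : Type*} [MulAction Γ Ω] [Finite Ω]

theorem sharp3_cit (f : ℕ) (hf : 2 ≤ f) (hcard : Nat.card Ω = 2 ^ f + 1)
    (h3T : ∀ a1 a2 a3 b1 b2 b3 : Ω, a1 ≠ a2 → a1 ≠ a3 → a2 ≠ a3 → b1 ≠ b2 → b1 ≠ b3 → b2 ≠ b3 →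
      ∃ g : Γ, g • a1 = b1 ∧ g • a2 = b2 ∧ g • a3 = b3)
    (h3S : ∀ (g : Γ) (a1 a2 a3 : Ω), a1 ≠ a2 → a1 ≠ a3 → a2 ≠ a3 → g • a1 = a1 → g • a2 = a2 →
      g • a3 = a3 → g = 1) :
    ∃ T : Sylow 2 Γ, Nat.card T = 2 ^ f ∧ ¬ IsCyclic (T : Subgroup Γ) ∧
      ¬ (T : Subgroup Γ).Normal ∧ CITHyp Γ := by
  classical
  haveI : Fact (Nat.Prime 2) := ⟨Nat.prime_two⟩
  haveI : Fintype Ω := Fintype.ofFinite Ω
  have h4 : 4 ≤ 2 ^ f := by
    calc 4 = 2 ^ 2 := by norm_num
      _ ≤ 2 ^ f := Nat.pow_le_pow_right (by norm_num) hf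
  have hodd : ¬ 2 ∣ Nat.card Ω := by
    rw [hcard]
    intro h
    have h2 : 2 ∣ 2 ^ f := dvd_pow_self 2 (by omega)
    have := (Nat.dvd_add_right h2).1 h
    omega
  -- three distinct points
  have h3pts : ∃ a b c : Ω, a ≠ b ∧ a ≠ c ∧ b ≠ c := by
    rw [← Fintype.two_lt_card_iff, ← Nat.card_eq_fintype_card, hcard]; omega
  have hothers : ∀ x : Ω, ∃ y z : Ω, x ≠ y ∧ x ≠ z ∧ y ≠ z := by
    intro x
    obtain ⟨a, b, c, hab, hac, hbc⟩ := h3pts
    by_cases hxa : x = a
    · subst hxa; exact ⟨b, c, hab, hac, hbc⟩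
    · by_cases hxb : x = b
      · subst hxb; exact ⟨a, c, hab.symm, hbc, hac⟩
      · by_cases hxc : x = c
        · subst hxc; exact ⟨a, b, hac.symm, hbc.symm, hab⟩
        · exact ⟨a, b, hxa, hxb, hab⟩
  have htrans : ∀ x y : Ω, ∃ g : Γ, g • x = y := by
    intro x y
    obtain ⟨x', x'', h1, h2, h3⟩ := hothers x
    obtain ⟨y', y'', k1, k2, k3⟩ := hothers y
    obtain ⟨g, hg, -, -⟩ := h3T x x' x'' y y' y'' h1 h2 h3 k1 k2 k3
    exact ⟨g, hg⟩
  obtain ⟨o, -, -, -, -, -⟩ := h3pts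
  obtain ⟨x0, x1, hx0, hx1, hx01⟩ := hothers o
  set H := stabilizer Γ o with hH
  letI := stabAction (Γ := Γ) o
  haveI : Fintype H := Fintype.ofFinite H
  haveI : Fintype {x : Ω // x ≠ o} := Fintype.ofFinite _
  have hT' : ∀ a b c d : {x : Ω // x ≠ o}, a ≠ b → c ≠ d → ∃ g : H, g • a = c ∧ g • b = d := by
    intro a b c d hab hcd
    obtain ⟨g, h1, h2, h3⟩ := h3T o a.1 b.1 o c.1 d.1 a.2.symm b.2.symm
      (fun h => hab (Subtype.ext h)) c.2.symm d.2.symm (fun h => hcd (Subtype.ext h))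
    exact ⟨⟨g, mem_stabilizer_iff.2 h1⟩, Subtype.ext h2, Subtype.ext h3⟩
  have hF' : ∀ g : H, g ≠ 1 → ∀ a b : {x : Ω // x ≠ o}, g • a = a → g • b = b → a = b := by
    intro g hg a b ha hb
    by_contra hab
    apply hg
    have := h3S (g : Γ) o a.1 b.1 a.2.symm b.2.symm (fun h => hab (Subtype.ext h))
      (mem_stabilizer_iff.1 g.2) (congrArg Subtype.val ha) (congrArg Subtype.val hb)
    exact Subtype.ext this
  set K := Cfsg.Agent.S0680.kernelSub hT' hF' with hK
  have hcardΩ' : Fintype.card {x : Ω // x ≠ o} = 2 ^ f := by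
    rw [← Nat.card_eq_fintype_card, card_subtype_ne_one, hcard]; omega
  obtain ⟨p, j, hp, hj, hpj, hKcard, hKexp, hKcomm⟩ :=
    Cfsg.Agent.S0680.kernelSub_structure hT' hF' (by rw [hcardΩ']; omega)
  have hp2 : p = 2 := by
    have h1 : p ∣ 2 ^ f := by
      rw [← hcardΩ', hpj]; exact dvd_pow_self p (by omega)
    exact (Nat.prime_dvd_prime_iff_eq hp Nat.prime_two).1 (hp.dvd_of_dvd_pow h1)
  subst hp2
  have hKcard' : Nat.card K = 2 ^ f := by rw [hKcard, ← hpj, hcardΩ']
  -- the subgroup T0 of Γ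
  set T0 := K.map H.subtype with hT0
  have hT0card : Nat.card T0 = 2 ^ f := by
    rw [hT0, Subgroup.card_map_of_injective H.subtype_injective, hKcard']
  have hT0p : IsPGroup 2 T0 := IsPGroup.of_card hT0card
  have T0_fix : ∀ x ∈ T0, x • o = o := by
    rintro _ ⟨k, -, rfl⟩
    exact mem_stabilizer_iff.1 k.2
  have T0_der : ∀ x ∈ T0, x ≠ 1 → ∀ y : Ω, y ≠ o → x • y ≠ y := by
    rintro _ ⟨k, hk, rfl⟩ hk1 y hy hfix
    rcases (Cfsg.Agent.S0680.mem_kernelSub hT' hF' k).1 hk with h | h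
    · apply hk1; rw [h]; rfl
    · exact h ⟨y, hy⟩ (Subtype.ext hfix)
  have T0_of_der : ∀ x : Γ, x • o = o → (∀ y : Ω, y ≠ o → x • y ≠ y) → x ∈ T0 := by
    intro x hxo hx
    refine ⟨⟨x, mem_stabilizer_iff.2 hxo⟩,
      (Cfsg.Agent.S0680.mem_kernelSub hT' hF' _).2 (Or.inr ?_), rfl⟩
    intro c hc
    exact hx c.1 c.2 (congrArg Subtype.val hc)
  have T0_trans : ∀ y z : Ω, y ≠ o → z ≠ o → ∃ t ∈ T0, t • y = z := by
    intro y z hy hz
    obtain ⟨k, hk, hkyz⟩ := Cfsg.Agent.S0680.kernelSub_transitive hT' hF' ⟨y, hy⟩ ⟨z, hz⟩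
    exact ⟨(k : Γ), ⟨k, hk, rfl⟩, congrArg Subtype.val hkyz⟩
  have T0_sq : ∀ x ∈ T0, x * x = 1 := by
    rintro _ ⟨k, hk, rfl⟩
    have := hKexp k hk
    rw [pow_two] at this
    have h2 := congrArg Subtype.val this
    simpa using h2
  have T0_comm : ∀ x ∈ T0, ∀ y ∈ T0, x * y = y * x := by
    rintro _ ⟨k, hk, rfl⟩ _ ⟨k', hk', rfl⟩
    have := hKcomm k hk k' hk'
    have h2 := congrArg Subtype.val this
    simpa using h2
  -- a nonidentity element of T0
  have hT0nt : ∃ t ∈ T0, t ≠ 1 := by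
    have h1 : 1 < Nat.card T0 := by rw [hT0card]; omega
    haveI : Nontrivial T0 := Finite.one_lt_card_iff_nontrivial.1 h1
    obtain ⟨t, ht⟩ := exists_ne (1 : T0)
    exact ⟨t, t.2, fun h => ht (Subtype.ext h)⟩
  obtain ⟨t₁, ht₁T, ht₁1⟩ := hT0nt
  have hL := fun (g : Γ) (n : ℕ) (hg : g ^ 2 ^ n = 1) (a b : Ω) (hab : a ≠ b) (ha : g • a = a)
    (hb : g • b = b) => eq_one_of_two_fixed h3S hodd hg hab ha hb
  -- centralizers of nonidentity elements of T0 lie in T0
  have hcent : ∀ t' ∈ T0, t' ≠ 1 → ∀ c : Γ, c * t' = t' * c → c ∈ T0 := by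
    intro t' ht' ht'1 c hc
    have ht'o := T0_fix t' ht'
    have hco : c • o = o := by
      by_contra hne
      apply T0_der t' ht' ht'1 (c • o) hne
      rw [← mul_smul, ← hc, mul_smul, ht'o]
    have hcx0 : c • x0 ≠ o := by
      intro h
      apply hx0
      have : c • x0 = c • o := h.trans hco.symm
      exact (smul_left_cancel c this).symm
    obtain ⟨k, hk, hkx⟩ := T0_trans x0 (c • x0) hx0.symm hcx0
    have hkt : k * t' = t' * k := T0_comm k hk t' ht'
    have hc'1 : k⁻¹ * c = 1 := by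
      have e1 : (k⁻¹ * c) • o = o := by
        rw [mul_smul, hco, inv_smul_eq_iff, T0_fix k hk]
      have e2 : (k⁻¹ * c) • x0 = x0 := by
        rw [mul_smul, inv_smul_eq_iff, hkx]
      have hcomm : (k⁻¹ * c) * t' = t' * (k⁻¹ * c) := by
        have hk' : k⁻¹ * t' = t' * k⁻¹ := by
          calc k⁻¹ * t' = k⁻¹ * (t' * k) * k⁻¹ := by group
            _ = k⁻¹ * (k * t') * k⁻¹ := by rw [hkt]
            _ = t' * k⁻¹ := by group
        calc (k⁻¹ * c) * t' = k⁻¹ * (c * t') := by group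
          _ = k⁻¹ * (t' * c) := by rw [hc]
          _ = (k⁻¹ * t') * c := by group
          _ = (t' * k⁻¹) * c := by rw [hk']
          _ = t' * (k⁻¹ * c) := by group
      have e3 : (k⁻¹ * c) • (t' • x0) = t' • x0 := by
        rw [← mul_smul, hcomm, mul_smul, e2]
      have hd1 : t' • x0 ≠ x0 := T0_der t' ht' ht'1 x0 hx0.symm
      have hd2 : t' • x0 ≠ o := by
        intro h
        apply hx0
        have : t' • x0 = t' • o := h.trans ht'o.symm
        exact (smul_left_cancel t' this).symm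
      exact h3S _ o x0 (t' • x0) hx0 (Ne.symm hd2) (Ne.symm hd1) e1 e2 e3
    have : c = k := by
      calc c = k * (k⁻¹ * c) := by group
        _ = k := by rw [hc'1, mul_one]
    rw [this]; exact hk
  -- the Sylow subgroup
  let T : Sylow 2 Γ :=
    { toSubgroup := T0
      isPGroup' := hT0p
      is_maximal' := by
        intro Q hQ hle
        apply le_antisymm _ hle
        obtain ⟨x, hx⟩ := hQ.nonempty_fixed_point_of_prime_not_dvd_card Ω hodd
        have hxo : x = o := by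
          by_contra hne
          exact T0_der t₁ ht₁T ht₁1 x hne ((mem_fixedPoints.1 hx) ⟨t₁, hle ht₁T⟩)
        subst hxo
        intro h hhQ
        have hho : h • x = x := (mem_fixedPoints.1 hx) ⟨h, hhQ⟩
        have hhx0 : h • x0 ≠ x := by
          intro hh
          apply hx0
          have : h • x0 = h • x := hh.trans hho.symm
          exact (smul_left_cancel h this).symm
        obtain ⟨k, hk, hkx⟩ := T0_trans x0 (h • x0) hx0.symm hhx0
        have hkQ : k ∈ Q := hle hk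
        have hh'Q : k⁻¹ * h ∈ Q := Q.mul_mem (Q.inv_mem hkQ) hhQ
        obtain ⟨n, hn⟩ := hQ ⟨k⁻¹ * h, hh'Q⟩
        have hn' : (k⁻¹ * h) ^ 2 ^ n = 1 := by
          have := congrArg Subtype.val hn
          simpa using this
        have e1 : (k⁻¹ * h) • x = x := by
          rw [mul_smul, hho, inv_smul_eq_iff, T0_fix k hk]
        have e2 : (k⁻¹ * h) • x0 = x0 := by
          rw [mul_smul, inv_smul_eq_iff, hkx]
        have h1 := hL _ n hn' x x0 hx0 e1 e2
        have : h = k := by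
          calc h = k * (k⁻¹ * h) := by group
            _ = k := by rw [h1, mul_one]
        rw [this]; exact hk }
  refine ⟨T, hT0card, ?_, ?_, ?_⟩
  · -- not cyclic
    intro hcyc
    obtain ⟨g, hg⟩ := hcyc.exists_generator
    have h1 : Nat.card T0 = orderOf g := by
      rw [← Nat.card_zpowers]
      have : Subgroup.zpowers g = ⊤ := by
        rw [Subgroup.eq_top_iff']; exact hg
      rw [this]
      exact (Nat.card_congr Subgroup.topEquiv.toEquiv).symm
    have h2 : g ^ 2 = 1 := by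
      apply Subtype.ext
      have := T0_sq g.1 g.2
      rw [pow_two]
      simpa using this
    have h3 : orderOf g ∣ 2 := orderOf_dvd_of_pow_eq_one h2
    have h5 := Nat.le_of_dvd (by norm_num) h3
    rw [hT0card] at h1
    omega
  · -- not normal
    intro hnorm
    obtain ⟨g, hg⟩ := htrans x0 o
    have h1 : g * t₁ * g⁻¹ ∈ T0 := hnorm.conj_mem t₁ ht₁T g
    -- g t₁ g⁻¹ fixes o, so t₁ fixes g⁻¹ o = x0
    have h2 := T0_fix _ h1
    apply T0_der t₁ ht₁T ht₁1 x0 hx0.symm
    have h3 : g⁻¹ • o = x0 := by rw [inv_smul_eq_iff, hg]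
    rw [mul_smul, mul_smul, h3] at h2
    exact smul_left_cancel g (h2.trans hg.symm)
  · -- CIT
    intro t ht
    have ht2 : t ^ 2 ^ 1 = 1 := by
      rw [pow_one, ← ht]; exact pow_orderOf_eq_one t
    -- t has a fixed point
    have hP : IsPGroup 2 (Subgroup.zpowers t) := by
      apply IsPGroup.of_card (n := 1)
      rw [Nat.card_zpowers, ht, pow_one]
    obtain ⟨x, hx⟩ := hP.nonempty_fixed_point_of_prime_not_dvd_card Ω hodd
    have htx : t • x = x := (mem_fixedPoints.1 hx) ⟨t, Subgroup.mem_zpowers t⟩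
    obtain ⟨g, hg⟩ := htrans x o
    set t' := g * t * g⁻¹ with ht'
    have ht'o : t' • o = o := by
      have h3 : g⁻¹ • o = x := by rw [inv_smul_eq_iff, hg]
      rw [ht', mul_smul, mul_smul, h3, htx, hg]
    have ht'1 : t' ≠ 1 := by
      intro h
      have h1 : t = 1 := by
        calc t = g⁻¹ * t' * g := by rw [ht']; group
          _ = 1 := by rw [h]; group
      rw [h1, orderOf_one] at ht
      omega
    have ht'2 : t' ^ 2 ^ 1 = 1 := by
      rw [ht', conj_pow, ht2]; group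
    have ht'T : t' ∈ T0 := by
      apply T0_of_der t' ht'o
      intro y hy hfix
      exact ht'1 (hL t' 1 ht'2 o y (Ne.symm hy) ht'o hfix)
    have hconj : ∀ c ∈ Subgroup.centralizer ({t} : Set Γ), g * c * g⁻¹ ∈ T0 := by
      intro c hc
      apply hcent t' ht'T ht'1
      have hct : t * c = c * t := by
        rw [Subgroup.mem_centralizer_iff] at hc
        exact hc t rfl
      rw [ht']
      calc g * c * g⁻¹ * (g * t * g⁻¹) = g * (c * t) * g⁻¹ := by group
        _ = g * (t * c) * g⁻¹ := by rw [hct]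
        _ = g * t * g⁻¹ * (g * c * g⁻¹) := by group
    constructor
    · refine ⟨⟨fun a b => ?_⟩⟩
      apply Subtype.ext
      have := T0_comm _ (hconj a.1 a.2) _ (hconj b.1 b.2)
      show (a : Γ) * (b : Γ) = (b : Γ) * (a : Γ)
      calc (a : Γ) * (b : Γ) = g⁻¹ * ((g * a * g⁻¹) * (g * b * g⁻¹)) * g := by group
        _ = g⁻¹ * ((g * b * g⁻¹) * (g * a * g⁻¹)) * g := by rw [this]
        _ = (b : Γ) * (a : Γ) := by group
    · intro c hc
      have := T0_sq _ (hconj c hc)
      rw [pow_two]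
      calc c * c = g⁻¹ * ((g * c * g⁻¹) * (g * c * g⁻¹)) * g := by group
        _ = 1 := by rw [this]; group

end

end Cfsg.Agent.Helper21
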