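import Mathlib
import Cfsg.Agent.Helper21.CIT2

set_option autoImplicit false
set_option linter.style.haveILetI false
set_option linter.unusedSectionVars false
set_option linter.unusedVariables false

/-!
`N_G(D)` and the fixed points of `D` (helper21).
-/

namespace Cfsg.Agent.Helper21

open Cfsg Cfsg.Agent.Helper4

variable {G : Type*} [Group G] [Finite G]

theorem two_lt_card_of_not_isCyclic (T : Sylow 2 G) (hnc : ¬ IsCyclic (T : Subgroup G)) :
    2 < Nat.card T := by
  by_contra h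
  have hpos : 0 < Nat.card T := Nat.card_pos
  have h12 : Nat.card T = 1 ∨ Nat.card T = 2 := by omega
  rcases h12 with h1 | h2
  · apply hnc
    haveI : Subsingleton (T : Subgroup G) := (Nat.card_eq_one_iff_unique.1 h1).1
    exact isCyclic_of_subsingleton
  · apply hnc
    haveI : Fact (Nat.Prime 2) := ⟨Nat.prime_two⟩
    exact isCyclic_of_prime_card h2

section
variable (hC : CITHyp G) (T : Sylow 2 G)
    (hnc : ¬ IsCyclic (T : Subgroup G)) (hnn : ¬ (T : Subgroup G).Normal)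
    {u : G} (hu : orderOf u = 2) (huH : u ∉ Subgroup.normalizer ((T : Subgroup G) : Set G))

include hC hnc hnn hu huH

theorem CITHyp.exists_ne_one_inf :
    ∃ d ∈ Subgroup.normalizer ((T : Subgroup G) : Set G) ⊓
      (Subgroup.normalizer ((T : Subgroup G) : Set G)).map (MulAut.conj u).toMonoidHom, d ≠ 1 := by
  obtain ⟨-, h2, -⟩ := CITHyp.structure hC T hnc hnn hu huH
  have h3 := two_lt_card_of_not_isCyclic T hnc
  set D := Subgroup.normalizer ((T : Subgroup G) : Set G) ⊓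
      (Subgroup.normalizer ((T : Subgroup G) : Set G)).map (MulAut.conj u).toMonoidHom
  have : 1 < Nat.card D := by rw [h2]; omega
  haveI : Nontrivial D := Finite.one_lt_card_iff_nontrivial.1 this
  obtain ⟨d, hd⟩ := exists_ne (1 : D)
  refine ⟨d, d.2, ?_⟩
  intro h
  exact hd (Subtype.ext h)

theorem CITHyp.inf_comm {d e : G}
    (hd : d ∈ Subgroup.normalizer ((T : Subgroup G) : Set G) ⊓
      (Subgroup.normalizer ((T : Subgroup G) : Set G)).map (MulAut.conj u).toMonoidHom)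
    (he : e ∈ Subgroup.normalizer ((T : Subgroup G) : Set G) ⊓
      (Subgroup.normalizer ((T : Subgroup G) : Set G)).map (MulAut.conj u).toMonoidHom) :
    d * e = e * d := by
  obtain ⟨h1, -, -⟩ := CITHyp.structure hC T hnc hnn hu huH
  have hd' := h1 d hd
  have he' := h1 e he
  have hde := h1 (d * e) (Subgroup.mul_mem _ hd he)
  have h2 : u * (d * e) * u⁻¹ = (u * d * u⁻¹) * (u * e * u⁻¹) := by group
  rw [h2, hd', he', mul_inv_rev] at hde
  have h3 := congrArg (fun x => x⁻¹) hde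
  simp only [mul_inv_rev, inv_inv] at h3
  exact h3.symm

theorem CITHyp.eq_one_of_sq_eq_one_inf {d : G}
    (hd : d ∈ Subgroup.normalizer ((T : Subgroup G) : Set G) ⊓
      (Subgroup.normalizer ((T : Subgroup G) : Set G)).map (MulAut.conj u).toMonoidHom)
    (hd2 : d * d = 1) : d = 1 := by
  by_contra h1
  have h2 : orderOf d = 2 := orderOf_two_of_sq_one hd2 h1
  have hdT : d ∈ (T : Subgroup G) := mem_sylow_of_mem_normalizer T hd.1 h2
  exact h1 (CITHyp.eq_one_of_mem_inf_of_mem hC T hnc hnn huH hd hdT)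

theorem CITHyp.eq_one_of_commute_inf {d t : G}
    (hd : d ∈ Subgroup.normalizer ((T : Subgroup G) : Set G) ⊓
      (Subgroup.normalizer ((T : Subgroup G) : Set G)).map (MulAut.conj u).toMonoidHom)
    (ht : t ∈ (T : Subgroup G)) (ht1 : t ≠ 1) (hdt : d * t = t * d) : d = 1 := by
  have hT := sylow_ne_bot_of_not_isCyclic T hnc
  have ht2 := CITHyp.orderOf_eq_two hC T hT ht ht1
  have hCt := CITHyp.centralizer_eq hC T hT ht ht2
  have hdT : d ∈ (T : Subgroup G) := by
    rw [← hCt, Subgroup.mem_centralizer_iff]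
    intro y hy
    rw [Set.mem_singleton_iff] at hy
    subst hy
    exact hdt.symm
  exact CITHyp.eq_one_of_mem_inf_of_mem hC T hnc hnn huH hd hdT

/-- an element of `T` normalizing `D` is trivial -/
theorem CITHyp.eq_one_of_mem_sylow_of_normalizes {t : G} (ht : t ∈ (T : Subgroup G))
    (hn : ∀ d ∈ Subgroup.normalizer ((T : Subgroup G) : Set G) ⊓
      (Subgroup.normalizer ((T : Subgroup G) : Set G)).map (MulAut.conj u).toMonoidHom,
      t * d * t⁻¹ ∈ Subgroup.normalizer ((T : Subgroup G) : Set G) ⊓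
      (Subgroup.normalizer ((T : Subgroup G) : Set G)).map (MulAut.conj u).toMonoidHom) :
    t = 1 := by
  obtain ⟨d, hd, hd1⟩ := CITHyp.exists_ne_one_inf hC T hnc hnn hu huH
  by_contra ht1
  apply hd1
  apply CITHyp.eq_one_of_commute_inf hC T hnc hnn hu huH hd ht ht1
  -- t d t⁻¹ d⁻¹ ∈ D ∩ T
  have h1 : t * d * t⁻¹ * d⁻¹ ∈ Subgroup.normalizer ((T : Subgroup G) : Set G) ⊓
      (Subgroup.normalizer ((T : Subgroup G) : Set G)).map (MulAut.conj u).toMonoidHom :=
    Subgroup.mul_mem _ (hn d hd) (Subgroup.inv_mem _ hd)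
  have h2 : t * d * t⁻¹ * d⁻¹ ∈ (T : Subgroup G) := by
    have hdN : d ∈ Subgroup.normalizer ((T : Subgroup G) : Set G) := hd.1
    have h3 : d * t⁻¹ * d⁻¹ ∈ (T : Subgroup G) :=
      (Subgroup.mem_normalizer_iff.1 hdN t⁻¹).1 ((T : Subgroup G).inv_mem ht)
    have : t * d * t⁻¹ * d⁻¹ = t * (d * t⁻¹ * d⁻¹) := by group
    rw [this]
    exact (T : Subgroup G).mul_mem ht h3
  have h4 := CITHyp.eq_one_of_mem_inf_of_mem hC T hnc hnn huH h1 h2
  calc d * t = (t * d * t⁻¹ * d⁻¹)⁻¹ * (t * d) := by group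
    _ = t * d := by rw [h4, inv_one, one_mul]

/-- `C_G(D) ≤ N(T)` -/
theorem CITHyp.mem_normalizer_of_centralizes_inf {x : G}
    (hx : ∀ d ∈ Subgroup.normalizer ((T : Subgroup G) : Set G) ⊓
      (Subgroup.normalizer ((T : Subgroup G) : Set G)).map (MulAut.conj u).toMonoidHom,
      x * d = d * x) :
    x ∈ Subgroup.normalizer ((T : Subgroup G) : Set G) := by
  have hT := sylow_ne_bot_of_not_isCyclic T hnc
  have hH := CITHyp.isStronglyEmbedded hC T hnc hnn
  obtain ⟨h1, h2, h3⟩ := CITHyp.structure hC T hnc hnn hu huH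
  have hcomm := fun d e hd he => CITHyp.inf_comm hC T hnc hnn hu huH (d := d) (e := e) hd he
  set N := Subgroup.normalizer ((T : Subgroup G) : Set G) with hN
  set D := N ⊓ N.map (MulAut.conj u).toMonoidHom with hD
  by_contra hxN
  obtain ⟨t₀, ht₀T, ht₀2, -⟩ := CITHyp.exists_centralizer_eq hC T hT
  have ht₀N : t₀ ∈ N := Subgroup.le_normalizer ht₀T
  -- an involution w with x⁻¹ w ∈ N
  obtain ⟨w, hw2, hwx⟩ := (IsStronglyEmbedded.involEquiv hH hxN ht₀2 ht₀N).symm ⟨t₀, ht₀2, ht₀N⟩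
  have hwN : w ∉ N := by
    intro hwN
    apply hxN
    have : x = w * (x⁻¹ * w)⁻¹ := by group
    rw [this]
    exact N.mul_mem hwN (N.inv_mem hwx)
  obtain ⟨k1, k2, -⟩ := CITHyp.structure hC T hnc hnn hw2 hwN
  rw [← hN] at k1 k2
  set D' := N ⊓ N.map (MulAut.conj w).toMonoidHom with hD'
  have hDD' : D ≤ D' := by
    intro d hd
    rw [hD', mem_inf_conj]
    refine ⟨hd.1, ?_⟩
    have : w⁻¹ * d * w = (x⁻¹ * w)⁻¹ * d * (x⁻¹ * w) := by
      have := hx d hd
      calc w⁻¹ * d * w = w⁻¹ * (d * x) * x⁻¹ * w := by group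
        _ = w⁻¹ * (x * d) * x⁻¹ * w := by rw [this]
        _ = (x⁻¹ * w)⁻¹ * d * (x⁻¹ * w) := by group
    rw [this]
    exact N.mul_mem (N.mul_mem (N.inv_mem hwx) hd.1) hwx
  have hDeq : D = D' := Subgroup.eq_of_le_of_card_ge hDD' (by rw [h2, k2])
  -- h := x⁻¹ w inverts D
  have hinv : ∀ d ∈ D, (x⁻¹ * w) * d * (x⁻¹ * w)⁻¹ = d⁻¹ := by
    intro d hd
    have hd' : d ∈ D' := hDeq ▸ hd
    have e1 := k1 d hd'
    have e2 := hx d⁻¹ (D.inv_mem hd)
    calc (x⁻¹ * w) * d * (x⁻¹ * w)⁻¹ = x⁻¹ * (w * d * w⁻¹) * x := by group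
      _ = x⁻¹ * (d⁻¹ * x) := by rw [e1]; group
      _ = x⁻¹ * (x * d⁻¹) := by rw [e2]
      _ = d⁻¹ := by group
  obtain ⟨d', hd'D, t, htT, hdt⟩ := h3 (x⁻¹ * w) hwx
  -- t inverts D
  have htinv : ∀ d ∈ D, t * d * t⁻¹ = d⁻¹ := by
    intro d hd
    have ht : t = d'⁻¹ * (x⁻¹ * w) := by rw [hdt]; group
    have e1 := hinv d hd
    have e2 := hcomm d'⁻¹ d⁻¹ (D.inv_mem hd'D) (D.inv_mem hd)
    calc t * d * t⁻¹ = d'⁻¹ * ((x⁻¹ * w) * d * (x⁻¹ * w)⁻¹) * d' := by rw [ht]; group
      _ = d'⁻¹ * d⁻¹ * d' := by rw [e1]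
      _ = d⁻¹ * d'⁻¹ * d' := by rw [e2]
      _ = d⁻¹ := by group
  have ht1 : t = 1 := by
    apply CITHyp.eq_one_of_mem_sylow_of_normalizes hC T hnc hnn hu huH htT
    intro d hd
    rw [htinv d hd]
    exact D.inv_mem hd
  obtain ⟨d, hd, hd1⟩ := CITHyp.exists_ne_one_inf hC T hnc hnn hu huH
  apply hd1
  apply CITHyp.eq_one_of_sq_eq_one_inf hC T hnc hnn hu huH hd
  have := htinv d hd
  rw [ht1, one_mul, inv_one, mul_one] at this
  calc d * d = d * d⁻¹ := by rw [← this]
    _ = 1 := mul_inv_cancel d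

/-- if `D` fixes the coset `gH`, `g ∉ H`, then `gH = uH`. -/
theorem CITHyp.mem_of_fixed {g : G} (hg : g ∉ Subgroup.normalizer ((T : Subgroup G) : Set G))
    (hfix : ∀ d ∈ Subgroup.normalizer ((T : Subgroup G) : Set G) ⊓
      (Subgroup.normalizer ((T : Subgroup G) : Set G)).map (MulAut.conj u).toMonoidHom,
      g⁻¹ * d * g ∈ Subgroup.normalizer ((T : Subgroup G) : Set G)) :
    u⁻¹ * g ∈ Subgroup.normalizer ((T : Subgroup G) : Set G) := by
  have hT := sylow_ne_bot_of_not_isCyclic T hnc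
  have hH := CITHyp.isStronglyEmbedded hC T hnc hnn
  obtain ⟨h1, h2, h3⟩ := CITHyp.structure hC T hnc hnn hu huH
  set N := Subgroup.normalizer ((T : Subgroup G) : Set G) with hN
  set D := N ⊓ N.map (MulAut.conj u).toMonoidHom with hD
  obtain ⟨t₀, ht₀T, ht₀2, -⟩ := CITHyp.exists_centralizer_eq hC T hT
  have ht₀N : t₀ ∈ N := Subgroup.le_normalizer ht₀T
  obtain ⟨w, hw2, hwg⟩ := (IsStronglyEmbedded.involEquiv hH hg ht₀2 ht₀N).symm ⟨t₀, ht₀2, ht₀N⟩
  have hwN : w ∉ N := by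
    intro hwN
    apply hg
    have : g = w * (g⁻¹ * w)⁻¹ := by group
    rw [this]
    exact N.mul_mem hwN (N.inv_mem hwg)
  obtain ⟨k1, k2, -⟩ := CITHyp.structure hC T hnc hnn hw2 hwN
  rw [← hN] at k1 k2
  set D' := N ⊓ N.map (MulAut.conj w).toMonoidHom with hD'
  have hDD' : D ≤ D' := by
    intro d hd
    rw [hD', mem_inf_conj]
    refine ⟨hd.1, ?_⟩
    have : w⁻¹ * d * w = (g⁻¹ * w)⁻¹ * (g⁻¹ * d * g) * (g⁻¹ * w) := by group
    rw [this]
    exact N.mul_mem (N.mul_mem (N.inv_mem hwg) (hfix d hd)) hwg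
  have hDeq : D = D' := Subgroup.eq_of_le_of_card_ge hDD' (by rw [h2, k2])
  have hcent : ∀ d ∈ D, (u⁻¹ * w) * d = d * (u⁻¹ * w) := by
    intro d hd
    have hd' : d ∈ D' := hDeq ▸ hd
    have e1 := k1 d hd'
    have e2 := h1 d⁻¹ (D.inv_mem hd)
    rw [inv_inv] at e2
    have hui : u⁻¹ = u := invol_inv hu
    calc (u⁻¹ * w) * d = u⁻¹ * (w * d * w⁻¹) * w := by group
      _ = u⁻¹ * d⁻¹ * w := by rw [e1]
      _ = u * d⁻¹ * w := by rw [hui]
      _ = (u * d⁻¹ * u⁻¹) * u * w := by group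
      _ = d * u * w := by rw [e2]
      _ = d * (u⁻¹ * w) := by rw [hui, mul_assoc]
  have huw := CITHyp.mem_normalizer_of_centralizes_inf hC T hnc hnn hu huH hcent
  have : u⁻¹ * g = (u⁻¹ * w) * (g⁻¹ * w)⁻¹ := by group
  rw [this]
  exact N.mul_mem huw (N.inv_mem hwg)

/-- `N_H(D) = D` -/
theorem CITHyp.mem_inf_of_normalizes {n : G}
    (hnN : n ∈ Subgroup.normalizer ((T : Subgroup G) : Set G))
    (hn : n ∈ Subgroup.normalizer ((Subgroup.normalizer ((T : Subgroup G) : Set G) ⊓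
      (Subgroup.normalizer ((T : Subgroup G) : Set G)).map (MulAut.conj u).toMonoidHom :
        Subgroup G) : Set G)) :
    n ∈ Subgroup.normalizer ((T : Subgroup G) : Set G) ⊓
      (Subgroup.normalizer ((T : Subgroup G) : Set G)).map (MulAut.conj u).toMonoidHom := by
  obtain ⟨h1, h2, h3⟩ := CITHyp.structure hC T hnc hnn hu huH
  set N := Subgroup.normalizer ((T : Subgroup G) : Set G) with hN
  set D := N ⊓ N.map (MulAut.conj u).toMonoidHom with hD
  obtain ⟨d', hd'D, t, htT, hdt⟩ := h3 n hnN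
  have ht : t = d'⁻¹ * n := by rw [hdt]; group
  have ht1 : t = 1 := by
    apply CITHyp.eq_one_of_mem_sylow_of_normalizes hC T hnc hnn hu huH htT
    intro d hd
    have e : t * d * t⁻¹ = d'⁻¹ * (n * d * n⁻¹) * d' := by rw [ht]; group
    rw [e]
    exact D.mul_mem (D.mul_mem (D.inv_mem hd'D) ((Subgroup.mem_normalizer_iff.1 hn d).1 hd)) hd'D
  rw [hdt, ht1, mul_one]
  exact hd'D

theorem CITHyp.normalizer_inf :
    Subgroup.normalizer ((Subgroup.normalizer ((T : Subgroup G) : Set G) ⊓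
      (Subgroup.normalizer ((T : Subgroup G) : Set G)).map (MulAut.conj u).toMonoidHom :
        Subgroup G) : Set G) =
    (Subgroup.normalizer ((T : Subgroup G) : Set G) ⊓
      (Subgroup.normalizer ((T : Subgroup G) : Set G)).map (MulAut.conj u).toMonoidHom) ⊔
      Subgroup.zpowers u := by
  obtain ⟨h1, h2, h3⟩ := CITHyp.structure hC T hnc hnn hu huH
  set N := Subgroup.normalizer ((T : Subgroup G) : Set G) with hN
  set D := N ⊓ N.map (MulAut.conj u).toMonoidHom with hD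
  have hui : u⁻¹ = u := invol_inv hu
  have huD : u ∈ Subgroup.normalizer (D : Set G) := by
    rw [Subgroup.mem_normalizer_iff]
    intro d
    constructor
    · intro hd
      rw [h1 d hd]
      exact D.inv_mem hd
    · intro hd
      have := h1 _ hd
      have e : u * (u * d * u⁻¹) * u⁻¹ = d := by
        have huu : u * u = 1 := sq_one_of_orderOf_two hu
        calc u * (u * d * u⁻¹) * u⁻¹ = (u * u) * d * (u⁻¹ * u⁻¹) := by group
          _ = d := by rw [hui, huu, one_mul, mul_one]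
      rw [e] at this
      have h4 := D.inv_mem hd
      rw [← this] at h4
      exact h4
  apply le_antisymm
  · intro n hn
    by_cases hnN : n ∈ N
    · exact Subgroup.mem_sup_left (CITHyp.mem_inf_of_normalizes hC T hnc hnn hu huH hnN hn)
    · have hn' : n⁻¹ ∈ Subgroup.normalizer (D : Set G) := Subgroup.inv_mem _ hn
      have hfix : ∀ d ∈ D, n⁻¹ * d * n ∈ N := by
        intro d hd
        have := (Subgroup.mem_normalizer_iff.1 hn' d).1 hd
        rw [inv_inv] at this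
        exact this.1
      have h5 := CITHyp.mem_of_fixed hC T hnc hnn hu huH hnN hfix
      have h6 : u⁻¹ * n ∈ Subgroup.normalizer (D : Set G) :=
        Subgroup.mul_mem _ (Subgroup.inv_mem _ huD) hn
      have h7 := CITHyp.mem_inf_of_normalizes hC T hnc hnn hu huH h5 h6
      have : n = u * (u⁻¹ * n) := by group
      rw [this]
      exact Subgroup.mul_mem _ (Subgroup.mem_sup_right (Subgroup.mem_zpowers u))
        (Subgroup.mem_sup_left h7)
  · rw [sup_le_iff]
    refine ⟨Subgroup.le_normalizer, ?_⟩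
    rw [Subgroup.zpowers_le]
    exact huD

end

end Cfsg.Agent.Helper21
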