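import Mathlib
import Cfsg.Agent.Helper21.CIT3

set_option autoImplicit false
set_option linter.style.haveILetI false
set_option linter.unusedSectionVars false
set_option linter.unusedVariables false

/-!
Triple transitivity of a CIT-group on the cosets of `N_G(T)` (helper21).
-/

namespace Cfsg.Agent.Helper21

open Cfsg Cfsg.Agent.Helper4

variable {G : Type*} [Group G] [Finite G]

omit [Finite G] in
theorem smul_mk_eq_iff (N : Subgroup G) (g a b : G) :
    g • (QuotientGroup.mk a : G ⧸ N) = QuotientGroup.mk b ↔ a⁻¹ * g⁻¹ * b ∈ N := by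
  rw [MulAction.Quotient.smul_mk, QuotientGroup.eq]
  have : (g • a)⁻¹ * b = a⁻¹ * g⁻¹ * b := by rw [smul_eq_mul]; group
  rw [this]

omit [Finite G] in
theorem mk_eq_one_iff' (N : Subgroup G) (a : G) :
    (QuotientGroup.mk a : G ⧸ N) = QuotientGroup.mk 1 ↔ a ∈ N := by
  rw [QuotientGroup.eq, mul_one]
  exact ⟨fun h => by simpa using N.inv_mem h, fun h => N.inv_mem h⟩

/-- every nontrivial coset of a strongly embedded subgroup contains an involution -/
theorem IsStronglyEmbedded.exists_invol_coset {H : Subgroup G} (hH : IsStronglyEmbedded H)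
    {g : G} (hg : g ∉ H) : ∃ w : G, orderOf w = 2 ∧ g⁻¹ * w ∈ H ∧ w ∉ H := by
  obtain ⟨t₀, ht₀H, ht₀2⟩ := IsStronglyEmbedded.exists_invol hH
  obtain ⟨w, hw2, hwg⟩ := (IsStronglyEmbedded.involEquiv hH hg ht₀2 ht₀H).symm ⟨t₀, ht₀2, ht₀H⟩
  refine ⟨w, hw2, hwg, ?_⟩
  intro hwH
  apply hg
  have : g = w * (g⁻¹ * w)⁻¹ := by group
  rw [this]
  exact H.mul_mem hwH (H.inv_mem hwg)

theorem IsStronglyEmbedded.exists_invol_not_mem {H : Subgroup G} (hH : IsStronglyEmbedded H) :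
    ∃ w : G, orderOf w = 2 ∧ w ∉ H := by
  have h1 : H ≠ ⊤ := hH.1
  have : ∃ g : G, g ∉ H := by
    by_contra h
    push_neg at h
    exact h1 (eq_top_iff.2 fun x _ => h x)
  obtain ⟨g, hg⟩ := this
  obtain ⟨w, hw2, -, hw⟩ := IsStronglyEmbedded.exists_invol_coset hH hg
  exact ⟨w, hw2, hw⟩

section
variable (hC : CITHyp G) (T : Sylow 2 G)
    (hnc : ¬ IsCyclic (T : Subgroup G)) (hnn : ¬ (T : Subgroup G).Normal)
    {u : G} (hu : orderOf u = 2) (huH : u ∉ Subgroup.normalizer ((T : Subgroup G) : Set G))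

include hC hnc hnn hu huH

/-- `C_H(d) ≤ D` for `1 ≠ d ∈ D` -/
theorem CITHyp.mem_inf_of_commute {h d : G}
    (hh : h ∈ Subgroup.normalizer ((T : Subgroup G) : Set G))
    (hd : d ∈ Subgroup.normalizer ((T : Subgroup G) : Set G) ⊓
      (Subgroup.normalizer ((T : Subgroup G) : Set G)).map (MulAut.conj u).toMonoidHom)
    (hd1 : d ≠ 1) (hhd : h * d = d * h) :
    h ∈ Subgroup.normalizer ((T : Subgroup G) : Set G) ⊓
      (Subgroup.normalizer ((T : Subgroup G) : Set G)).map (MulAut.conj u).toMonoidHom := by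
  obtain ⟨h1, h2, h3⟩ := CITHyp.structure hC T hnc hnn hu huH
  obtain ⟨e, heD, t, htT, het⟩ := h3 h hh
  have hed := CITHyp.inf_comm hC T hnc hnn hu huH heD hd
  have htd : d * t = t * d := by
    have ht : t = e⁻¹ * h := by rw [het]; group
    rw [ht]
    calc d * (e⁻¹ * h) = e⁻¹ * (e * d) * e⁻¹ * h := by group
      _ = e⁻¹ * (d * e) * e⁻¹ * h := by rw [hed]
      _ = e⁻¹ * (d * h) := by group
      _ = e⁻¹ * (h * d) := by rw [hhd]
      _ = e⁻¹ * h * d := by group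
  have ht1 : t = 1 := by
    by_contra ht1
    exact hd1 (CITHyp.eq_one_of_commute_inf hC T hnc hnn hu huH hd htT ht1 htd)
  rw [het, ht1, mul_one]
  exact heD

/-- a nonidentity element of `D` fixes only the cosets `H` and `uH` -/
theorem CITHyp.mem_of_fixed_elt {g d : G}
    (hg : g ∉ Subgroup.normalizer ((T : Subgroup G) : Set G))
    (hd : d ∈ Subgroup.normalizer ((T : Subgroup G) : Set G) ⊓
      (Subgroup.normalizer ((T : Subgroup G) : Set G)).map (MulAut.conj u).toMonoidHom)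
    (hd1 : d ≠ 1) (hfix : g⁻¹ * d * g ∈ Subgroup.normalizer ((T : Subgroup G) : Set G)) :
    u⁻¹ * g ∈ Subgroup.normalizer ((T : Subgroup G) : Set G) := by
  have hH := CITHyp.isStronglyEmbedded hC T hnc hnn
  obtain ⟨h1, h2, h3⟩ := CITHyp.structure hC T hnc hnn hu huH
  set N := Subgroup.normalizer ((T : Subgroup G) : Set G) with hN
  set D := N ⊓ N.map (MulAut.conj u).toMonoidHom with hD
  obtain ⟨w, hw2, hwg, hwN⟩ := IsStronglyEmbedded.exists_invol_coset hH hg
  obtain ⟨k1, k2, -⟩ := CITHyp.structure hC T hnc hnn hw2 hwN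
  rw [← hN] at k1 k2
  set D' := N ⊓ N.map (MulAut.conj w).toMonoidHom with hD'
  have hdD' : d ∈ D' := by
    rw [hD', mem_inf_conj]
    refine ⟨hd.1, ?_⟩
    have : w⁻¹ * d * w = (g⁻¹ * w)⁻¹ * (g⁻¹ * d * g) * (g⁻¹ * w) := by group
    rw [this]
    exact N.mul_mem (N.mul_mem (N.inv_mem hwg) hfix) hwg
  have hD'D : D' ≤ D := by
    intro e he
    apply CITHyp.mem_inf_of_commute hC T hnc hnn hu huH he.1 hd hd1
    exact CITHyp.inf_comm hC T hnc hnn hw2 hwN he hdD'
  have hDeq : D' = D := Subgroup.eq_of_le_of_card_ge hD'D (by rw [h2, k2])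
  apply CITHyp.mem_of_fixed hC T hnc hnn hu huH hg
  intro e he
  have he' : e ∈ D' := hDeq ▸ he
  have h4 := ((mem_inf_conj N w e).1 he').2
  have : g⁻¹ * e * g = (g⁻¹ * w) * (w⁻¹ * e * w) * (g⁻¹ * w)⁻¹ := by group
  rw [this]
  exact N.mul_mem (N.mul_mem hwg h4) (N.inv_mem hwg)

/-- every element of `H ∖ T` is `T`-conjugate into `D` -/
theorem CITHyp.exists_conj_mem_inf {h : G}
    (hh : h ∈ Subgroup.normalizer ((T : Subgroup G) : Set G)) (hhT : h ∉ (T : Subgroup G)) :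
    ∃ s ∈ (T : Subgroup G), s * h * s⁻¹ ∈ Subgroup.normalizer ((T : Subgroup G) : Set G) ⊓
      (Subgroup.normalizer ((T : Subgroup G) : Set G)).map (MulAut.conj u).toMonoidHom := by
  have hT := sylow_ne_bot_of_not_isCyclic T hnc
  obtain ⟨h1, h2, h3⟩ := CITHyp.structure hC T hnc hnn hu huH
  obtain ⟨e, heD, t, htT, het⟩ := h3 h hh
  have he1 : e ≠ 1 := by
    rintro rfl
    apply hhT
    rw [het, one_mul]; exact htT
  have heN : e ∈ Subgroup.normalizer ((T : Subgroup G) : Set G) := heD.1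
  have hmap : ∀ s : (T : Subgroup G), e⁻¹ * (s : G) * e * (s : G)⁻¹ ∈ (T : Subgroup G) := by
    intro s
    have h4 : e⁻¹ * (s : G) * e ∈ (T : Subgroup G) := by
      have := (Subgroup.mem_normalizer_iff.1 (Subgroup.inv_mem _ heN) (s : G)).1 s.2
      rwa [inv_inv] at this
    exact (T : Subgroup G).mul_mem h4 ((T : Subgroup G).inv_mem s.2)
  let φ : ↥(T : Subgroup G) → ↥(T : Subgroup G) := fun s => ⟨e⁻¹ * (s : G) * e * (s : G)⁻¹, hmap s⟩
  have hφinj : Function.Injective φ := by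
    intro s s' hss
    have h5 : e⁻¹ * (s : G) * e * (s : G)⁻¹ = e⁻¹ * (s' : G) * e * (s' : G)⁻¹ :=
      congrArg Subtype.val hss
    have h6 : e * ((s' : G)⁻¹ * (s : G)) = ((s' : G)⁻¹ * (s : G)) * e := by
      symm
      calc ((s' : G)⁻¹ * (s : G)) * e
          = (s' : G)⁻¹ * (e * (e⁻¹ * (s : G) * e * (s : G)⁻¹)) * (s : G) := by group
        _ = (s' : G)⁻¹ * (e * (e⁻¹ * (s' : G) * e * (s' : G)⁻¹)) * (s : G) := by
            rw [h5]
        _ = e * ((s' : G)⁻¹ * (s : G)) := by group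
    have h7 : (s' : G)⁻¹ * (s : G) = 1 := by
      by_contra hne
      exact he1 (CITHyp.eq_one_of_commute_inf hC T hnc hnn hu huH heD
        ((T : Subgroup G).mul_mem ((T : Subgroup G).inv_mem s'.2) s.2) hne h6)
    apply Subtype.ext
    have : (s : G) = (s' : G) * ((s' : G)⁻¹ * (s : G)) := by group
    rw [this, h7, mul_one]
  have hφsurj : Function.Surjective φ := Finite.injective_iff_surjective.1 hφinj
  obtain ⟨s, hs⟩ := hφsurj ⟨t⁻¹, (T : Subgroup G).inv_mem htT⟩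
  have hs' : e⁻¹ * (s : G) * e * (s : G)⁻¹ = t⁻¹ := congrArg Subtype.val hs
  refine ⟨s, s.2, ?_⟩
  have hcomm : t * (s : G)⁻¹ = (s : G)⁻¹ * t :=
    CITHyp.comm hC T hT htT ((T : Subgroup G).inv_mem s.2)
  have : (s : G) * h * (s : G)⁻¹ = e := by
    rw [het]
    calc (s : G) * (e * t) * (s : G)⁻¹ = (s : G) * e * (t * (s : G)⁻¹) := by group
      _ = (s : G) * e * ((s : G)⁻¹ * t) := by rw [hcomm]
      _ = e * (e⁻¹ * (s : G) * e * (s : G)⁻¹) * t := by group
      _ = e := by rw [hs']; group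
  rw [this]
  exact heD

/-- `T` is transitive on the cosets different from `H` -/
theorem CITHyp.exists_sylow_smul {g : G}
    (hg : g ∉ Subgroup.normalizer ((T : Subgroup G) : Set G)) :
    ∃ s ∈ (T : Subgroup G), u⁻¹ * (s * g) ∈ Subgroup.normalizer ((T : Subgroup G) : Set G) := by
  have hH := CITHyp.isStronglyEmbedded hC T hnc hnn
  set N := Subgroup.normalizer ((T : Subgroup G) : Set G) with hN
  obtain ⟨w, hw2, hwg, hwN⟩ := IsStronglyEmbedded.exists_invol_coset hH hg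
  obtain ⟨d₂, hd₂, hd₂1⟩ := CITHyp.exists_ne_one_inf hC T hnc hnn hw2 hwN
  have hd₂T : d₂ ∉ (T : Subgroup G) := fun h =>
    hd₂1 (CITHyp.eq_one_of_mem_inf_of_mem hC T hnc hnn hwN hd₂ h)
  obtain ⟨s, hsT, hsD⟩ := CITHyp.exists_conj_mem_inf hC T hnc hnn hu huH hd₂.1 hd₂T
  refine ⟨s, hsT, ?_⟩
  have hsN : s ∈ N := Subgroup.le_normalizer hsT
  have hsg : s * g ∉ N := by
    intro h
    apply hg
    have : g = s⁻¹ * (s * g) := by group
    rw [this]
    exact N.mul_mem (N.inv_mem hsN) h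
  apply CITHyp.mem_of_fixed_elt hC T hnc hnn hu huH hsg hsD
  · intro h
    apply hd₂1
    have : d₂ = s⁻¹ * (s * d₂ * s⁻¹) * s := by group
    rw [this, h]; group
  · have h4 := ((mem_inf_conj N w d₂).1 hd₂).2
    have : (s * g)⁻¹ * (s * d₂ * s⁻¹) * (s * g) = (g⁻¹ * w) * (w⁻¹ * d₂ * w) * (g⁻¹ * w)⁻¹ := by
      group
    rw [this]
    exact N.mul_mem (N.mul_mem hwg h4) (N.inv_mem hwg)

/-- normalizing two points -/
theorem CITHyp.exists_smul_eq_pair
    (x₁ x₂ : G ⧸ Subgroup.normalizer ((T : Subgroup G) : Set G)) (hx : x₁ ≠ x₂) :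
    ∃ c : G, c • x₁ = QuotientGroup.mk 1 ∧ c • x₂ = QuotientGroup.mk u := by
  induction x₁ using QuotientGroup.induction_on with
  | H a =>
  induction x₂ using QuotientGroup.induction_on with
  | H b =>
  set N := Subgroup.normalizer ((T : Subgroup G) : Set G) with hN
  have hab : a⁻¹ * b ∉ N := fun h => hx (QuotientGroup.eq.2 h)
  obtain ⟨s, hsT, hs⟩ := CITHyp.exists_sylow_smul hC T hnc hnn hu huH hab
  have hsN : s ∈ N := Subgroup.le_normalizer hsT
  refine ⟨s * a⁻¹, ?_, ?_⟩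
  · rw [smul_mk_eq_iff]
    have : a⁻¹ * (s * a⁻¹)⁻¹ * 1 = s⁻¹ := by group
    rw [this]
    exact N.inv_mem hsN
  · rw [smul_mk_eq_iff]
    have : b⁻¹ * (s * a⁻¹)⁻¹ * u = (u⁻¹ * (s * (a⁻¹ * b)))⁻¹ := by group
    rw [this]
    exact N.inv_mem hs

omit hC hnc hnn hu huH in
theorem CITHyp.mem_inf_of_smul_eq {g : G}
    (h1 : g • (QuotientGroup.mk 1 : G ⧸ Subgroup.normalizer ((T : Subgroup G) : Set G)) =
      QuotientGroup.mk 1)
    (h2 : g • (QuotientGroup.mk u : G ⧸ Subgroup.normalizer ((T : Subgroup G) : Set G)) =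
      QuotientGroup.mk u) :
    g ∈ Subgroup.normalizer ((T : Subgroup G) : Set G) ⊓
      (Subgroup.normalizer ((T : Subgroup G) : Set G)).map (MulAut.conj u).toMonoidHom := by
  set N := Subgroup.normalizer ((T : Subgroup G) : Set G) with hN
  rw [smul_mk_eq_iff] at h1 h2
  rw [mem_inf_conj]
  constructor
  · have := N.inv_mem h1
    simpa using this
  · have := N.inv_mem h2
    have e : (u⁻¹ * g⁻¹ * u)⁻¹ = u⁻¹ * g * u := by group
    rwa [e] at this

omit hC hnc hnn hu huH in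
theorem CITHyp.smul_eq_of_mem_inf {d : G}
    (hd : d ∈ Subgroup.normalizer ((T : Subgroup G) : Set G) ⊓
      (Subgroup.normalizer ((T : Subgroup G) : Set G)).map (MulAut.conj u).toMonoidHom) :
    d • (QuotientGroup.mk 1 : G ⧸ Subgroup.normalizer ((T : Subgroup G) : Set G)) =
      QuotientGroup.mk 1 ∧
    d • (QuotientGroup.mk u : G ⧸ Subgroup.normalizer ((T : Subgroup G) : Set G)) =
      QuotientGroup.mk u := by
  set N := Subgroup.normalizer ((T : Subgroup G) : Set G) with hN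
  rw [smul_mk_eq_iff, smul_mk_eq_iff]
  obtain ⟨h1, h2⟩ := (mem_inf_conj N u d).1 hd
  constructor
  · have := N.inv_mem h1
    simpa using this
  · have := N.inv_mem h2
    have e : (u⁻¹ * d * u)⁻¹ = u⁻¹ * d⁻¹ * u := by group
    rwa [e] at this

theorem CITHyp.eq_of_smul_eq {d : G}
    (hd : d ∈ Subgroup.normalizer ((T : Subgroup G) : Set G) ⊓
      (Subgroup.normalizer ((T : Subgroup G) : Set G)).map (MulAut.conj u).toMonoidHom)
    (hd1 : d ≠ 1) (x : G ⧸ Subgroup.normalizer ((T : Subgroup G) : Set G)) (hx : d • x = x) :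
    x = QuotientGroup.mk 1 ∨ x = QuotientGroup.mk u := by
  induction x using QuotientGroup.induction_on with
  | H b =>
  set N := Subgroup.normalizer ((T : Subgroup G) : Set G) with hN
  rw [smul_mk_eq_iff] at hx
  by_cases hb : b ∈ N
  · left
    exact (mk_eq_one_iff' N b).2 hb
  · right
    have hd' : d⁻¹ ∈ N ⊓ N.map (MulAut.conj u).toMonoidHom := Subgroup.inv_mem _ hd
    have hd1' : d⁻¹ ≠ 1 := by
      intro h; exact hd1 (inv_eq_one.1 h)
    have := CITHyp.mem_of_fixed_elt hC T hnc hnn hu huH hb hd' hd1' hx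
    exact (QuotientGroup.eq.2 this).symm

omit hu huH in
/-- `T` acts regularly on the cosets different from `H` -/
theorem CITHyp.existsUnique_sylow_smul
    (x y : G ⧸ Subgroup.normalizer ((T : Subgroup G) : Set G))
    (hx : x ≠ QuotientGroup.mk 1) (hy : y ≠ QuotientGroup.mk 1) :
    ∃! t : G, t ∈ T ∧ t • x = y := by
  have hT := sylow_ne_bot_of_not_isCyclic T hnc
  have hH := CITHyp.isStronglyEmbedded hC T hnc hnn
  obtain ⟨u, hu, huH⟩ := IsStronglyEmbedded.exists_invol_not_mem hH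
  induction x using QuotientGroup.induction_on with
  | H a =>
  induction y using QuotientGroup.induction_on with
  | H b =>
  set N := Subgroup.normalizer ((T : Subgroup G) : Set G) with hN
  have ha : a ∉ N := fun h => hx ((mk_eq_one_iff' N a).2 h)
  have hb : b ∉ N := fun h => hy ((mk_eq_one_iff' N b).2 h)
  obtain ⟨sa, hsaT, hsa⟩ := CITHyp.exists_sylow_smul hC T hnc hnn hu huH ha
  obtain ⟨sb, hsbT, hsb⟩ := CITHyp.exists_sylow_smul hC T hnc hnn hu huH hb
  refine ⟨sb⁻¹ * sa, ⟨(T : Subgroup G).mul_mem ((T : Subgroup G).inv_mem hsbT) hsaT, ?_⟩, ?_⟩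
  · rw [smul_mk_eq_iff]
    have : a⁻¹ * (sb⁻¹ * sa)⁻¹ * b = (u⁻¹ * (sa * a))⁻¹ * (u⁻¹ * (sb * b)) := by group
    rw [this]
    exact N.mul_mem (N.inv_mem hsa) hsb
  · rintro t ⟨htT, ht⟩
    have h1 : (sb⁻¹ * sa) • (QuotientGroup.mk a : G ⧸ N) = QuotientGroup.mk b := by
      rw [smul_mk_eq_iff]
      have : a⁻¹ * (sb⁻¹ * sa)⁻¹ * b = (u⁻¹ * (sa * a))⁻¹ * (u⁻¹ * (sb * b)) := by group
      rw [this]
      exact N.mul_mem (N.inv_mem hsa) hsb
    -- r = t⁻¹ * (sb⁻¹ sa) fixes mk a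
    have hr : (t⁻¹ * (sb⁻¹ * sa)) • (QuotientGroup.mk a : G ⧸ N) = QuotientGroup.mk a := by
      rw [mul_smul, h1, ← ht, ← mul_smul, inv_mul_cancel, one_smul]
    have hrT : t⁻¹ * (sb⁻¹ * sa) ∈ (T : Subgroup G) :=
      (T : Subgroup G).mul_mem ((T : Subgroup G).inv_mem htT)
        ((T : Subgroup G).mul_mem ((T : Subgroup G).inv_mem hsbT) hsaT)
    have hr1 : t⁻¹ * (sb⁻¹ * sa) = 1 := by
      by_contra hne
      have h2 := CITHyp.orderOf_eq_two hC T hT hrT hne
      rw [smul_mk_eq_iff] at hr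
      apply ha
      have h3 : a⁻¹ * (t⁻¹ * (sb⁻¹ * sa)) * a ∈ N := by
        have := N.inv_mem hr
        have e : (a⁻¹ * (t⁻¹ * (sb⁻¹ * sa))⁻¹ * a)⁻¹ = a⁻¹ * (t⁻¹ * (sb⁻¹ * sa)) * a := by group
        rwa [e] at this
      exact IsStronglyEmbedded.key hH a _ (Subgroup.le_normalizer hrT) h2 h3
    have : t = t * (t⁻¹ * (sb⁻¹ * sa)) := by rw [hr1, mul_one]
    rw [this]; group

/-- `D` is transitive on the cosets different from `H`, `uH` -/
theorem CITHyp.exists_inf_smul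
    (z z' : G ⧸ Subgroup.normalizer ((T : Subgroup G) : Set G))
    (hz1 : z ≠ QuotientGroup.mk 1) (hzu : z ≠ QuotientGroup.mk u)
    (hz'1 : z' ≠ QuotientGroup.mk 1) (hz'u : z' ≠ QuotientGroup.mk u) :
    ∃ d ∈ Subgroup.normalizer ((T : Subgroup G) : Set G) ⊓
      (Subgroup.normalizer ((T : Subgroup G) : Set G)).map (MulAut.conj u).toMonoidHom,
      d • z = z' := by
  have hT := sylow_ne_bot_of_not_isCyclic T hnc
  have hH := CITHyp.isStronglyEmbedded hC T hnc hnn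
  have hu1 : (QuotientGroup.mk u : G ⧸ Subgroup.normalizer ((T : Subgroup G) : Set G)) ≠
      QuotientGroup.mk 1 := fun h => huH ((mk_eq_one_iff' _ u).1 h)
  obtain ⟨t, ⟨htT, ht⟩, -⟩ := CITHyp.existsUnique_sylow_smul hC T hnc hnn _ z hu1 hz1
  obtain ⟨t', ⟨ht'T, ht'⟩, -⟩ := CITHyp.existsUnique_sylow_smul hC T hnc hnn _ z' hu1 hz'1
  have ht1 : t ≠ 1 := by
    rintro rfl
    rw [one_smul] at ht
    exact hzu ht.symm
  have ht'1 : t' ≠ 1 := by
    rintro rfl
    rw [one_smul] at ht'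
    exact hz'u ht'.symm
  have ht2 := CITHyp.orderOf_eq_two hC T hT htT ht1
  have ht'2 := CITHyp.orderOf_eq_two hC T hT ht'T ht'1
  obtain ⟨d, hdD, hd⟩ := IsStronglyEmbedded.exists_conj_inf hH hu huH ht2
    (Subgroup.le_normalizer htT) ht'2 (Subgroup.le_normalizer ht'T)
  refine ⟨d, hdD, ?_⟩
  have hdu := (CITHyp.smul_eq_of_mem_inf T hdD).2
  have e : d * t = t' * d := by rw [← hd]; group
  rw [← ht, ← mul_smul, e, mul_smul, hdu, ht']

end

end Cfsg.Agent.Helper21
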