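import Mathlib
import Cfsg.Agent.Helper21.CIT4

set_option autoImplicit false
set_option linter.style.haveILetI false
set_option linter.unusedSectionVars false
set_option linter.unusedVariables false

/-!
The field attached to a CIT-group (helper21): on the Sylow 2-subgroup `T`, addition is the group
law, multiplication comes from the regular action of `D = H ∩ H^u` on `T ∖ 1`.
-/

namespace Cfsg.Agent.Helper21

open Cfsg Cfsg.Agent.Helper4

/-- the data -/
structure CITData (G : Type*) [Group G] [Finite G] where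
  hC : CITHyp G
  T : Sylow 2 G
  hnc : ¬ IsCyclic (T : Subgroup G)
  hnn : ¬ (T : Subgroup G).Normal
  u : G
  hu : orderOf u = 2
  huH : u ∉ Subgroup.normalizer ((T : Subgroup G) : Set G)
  e : G
  heT : e ∈ (T : Subgroup G)
  he1 : e ≠ 1

namespace CITData

variable {G : Type*} [Group G] [Finite G] (c : CITData G)

/-- `N_G(T)` -/
abbrev N : Subgroup G := Subgroup.normalizer ((c.T : Subgroup G) : Set G)

/-- `D = N ∩ N^u` -/
abbrev D : Subgroup G := c.N ⊓ c.N.map (MulAut.conj c.u).toMonoidHom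

theorem hT : (c.T : Subgroup G) ≠ ⊥ := sylow_ne_bot_of_not_isCyclic c.T c.hnc

theorem hH : IsStronglyEmbedded c.N := CITHyp.isStronglyEmbedded c.hC c.T c.hnc c.hnn

theorem T_le_N : (c.T : Subgroup G) ≤ c.N := Subgroup.le_normalizer

theorem D_le_N : c.D ≤ c.N := inf_le_left

theorem T_comm {x y : G} (hx : x ∈ (c.T : Subgroup G)) (hy : y ∈ (c.T : Subgroup G)) :
    x * y = y * x := CITHyp.comm c.hC c.T c.hT hx hy

theorem T_sq {x : G} (hx : x ∈ (c.T : Subgroup G)) : x * x = 1 := by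
  have := CITHyp.sq_eq_one c.hC c.T c.hT hx
  rwa [pow_two] at this

theorem T_inv {x : G} (hx : x ∈ (c.T : Subgroup G)) : x⁻¹ = x :=
  inv_eq_self_of_sq_one (c.T_sq hx)

theorem conj_mem_T {d t : G} (hd : d ∈ c.D) (ht : t ∈ (c.T : Subgroup G)) :
    d * t * d⁻¹ ∈ (c.T : Subgroup G) :=
  (Subgroup.mem_normalizer_iff.1 (c.D_le_N hd) t).1 ht

theorem D_comm {d d' : G} (hd : d ∈ c.D) (hd' : d' ∈ c.D) : d * d' = d' * d :=
  CITHyp.inf_comm c.hC c.T c.hnc c.hnn c.hu c.huH hd hd'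

theorem D_free {d t : G} (hd : d ∈ c.D) (ht : t ∈ (c.T : Subgroup G)) (ht1 : t ≠ 1)
    (hdt : d * t = t * d) : d = 1 :=
  CITHyp.eq_one_of_commute_inf c.hC c.T c.hnc c.hnn c.hu c.huH hd ht ht1 hdt

theorem D_trans {s t : G} (hs : s ∈ (c.T : Subgroup G)) (hs1 : s ≠ 1)
    (ht : t ∈ (c.T : Subgroup G)) (ht1 : t ≠ 1) : ∃ d ∈ c.D, d * s * d⁻¹ = t :=
  IsStronglyEmbedded.exists_conj_inf c.hH c.hu c.huH
    (CITHyp.orderOf_eq_two c.hC c.T c.hT hs hs1) (c.T_le_N hs)
    (CITHyp.orderOf_eq_two c.hC c.T c.hT ht ht1) (c.T_le_N ht)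

theorem D_unique {d d' t : G} (hd : d ∈ c.D) (hd' : d' ∈ c.D) (ht : t ∈ (c.T : Subgroup G))
    (ht1 : t ≠ 1) (h : d * t * d⁻¹ = d' * t * d'⁻¹) : d = d' := by
  have h1 : d'⁻¹ * d ∈ c.D := c.D.mul_mem (c.D.inv_mem hd') hd
  have h2 : (d'⁻¹ * d) * t = t * (d'⁻¹ * d) := by
    calc (d'⁻¹ * d) * t = d'⁻¹ * (d * t * d⁻¹) * d := by group
      _ = d'⁻¹ * (d' * t * d'⁻¹) * d := by rw [h]
      _ = t * (d'⁻¹ * d) := by group
  have h3 := c.D_free h1 ht ht1 h2
  calc d = d' * (d'⁻¹ * d) := by group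
    _ = d' := by rw [h3, mul_one]

/-- the element of `D` carrying `e` to `a` (and `1` if `a = 1`) -/
noncomputable def dOf (a : G) : G := by
  classical
  exact if h : a ∈ (c.T : Subgroup G) ∧ a ≠ 1 then
    Classical.choose (c.D_trans c.heT c.he1 h.1 h.2) else 1

theorem dOf_spec {a : G} (ha : a ∈ (c.T : Subgroup G)) (ha1 : a ≠ 1) :
    c.dOf a ∈ c.D ∧ c.dOf a * c.e * (c.dOf a)⁻¹ = a := by
  unfold dOf
  rw [dif_pos ⟨ha, ha1⟩]
  exact Classical.choose_spec (c.D_trans c.heT c.he1 ha ha1)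

theorem dOf_one : c.dOf 1 = 1 := by
  unfold dOf
  rw [dif_neg]
  rintro ⟨-, h⟩
  exact h rfl

theorem dOf_mem (a : G) : c.dOf a ∈ c.D := by
  by_cases h : a ∈ (c.T : Subgroup G) ∧ a ≠ 1
  · exact (c.dOf_spec h.1 h.2).1
  · unfold dOf
    rw [dif_neg h]
    exact c.D.one_mem

theorem dOf_eq {a d : G} (hd : d ∈ c.D) (h : d * c.e * d⁻¹ = a) : c.dOf a = d := by
  have ha : a ∈ (c.T : Subgroup G) := by rw [← h]; exact c.conj_mem_T hd c.heT
  have ha1 : a ≠ 1 := by
    intro h1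
    rw [h1] at h
    apply c.he1
    calc c.e = d⁻¹ * (d * c.e * d⁻¹) * d := by group
      _ = 1 := by rw [h]; group
  obtain ⟨h1, h2⟩ := c.dOf_spec ha ha1
  exact c.D_unique h1 hd c.heT c.he1 (h2.trans h.symm)

theorem dOf_e : c.dOf c.e = 1 := c.dOf_eq c.D.one_mem (by group)

/-- the "multiplication by `a`" endomorphism of `T` -/
noncomputable def mu (a b : G) : G := by
  classical
  exact if a = 1 then 1 else c.dOf a * b * (c.dOf a)⁻¹

theorem mu_one_left (b : G) : c.mu 1 b = 1 := by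
  unfold mu; rw [if_pos rfl]

theorem mu_of_ne {a : G} (ha : a ≠ 1) (b : G) : c.mu a b = c.dOf a * b * (c.dOf a)⁻¹ := by
  unfold mu; rw [if_neg ha]

theorem mu_one_right (a : G) : c.mu a 1 = 1 := by
  by_cases ha : a = 1
  · rw [ha, mu_one_left]
  · rw [c.mu_of_ne ha]; group

theorem mu_mem (a : G) {b : G} (hb : b ∈ (c.T : Subgroup G)) : c.mu a b ∈ (c.T : Subgroup G) := by
  by_cases ha : a = 1
  · rw [ha, mu_one_left]; exact Subgroup.one_mem _
  · rw [c.mu_of_ne ha]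
    exact c.conj_mem_T (c.dOf_mem a) hb

theorem mu_e {a : G} (ha : a ∈ (c.T : Subgroup G)) : c.mu a c.e = a := by
  by_cases ha1 : a = 1
  · rw [ha1, mu_one_left]
  · rw [c.mu_of_ne ha1]
    exact (c.dOf_spec ha ha1).2

theorem mu_mul (a b b' : G) : c.mu a (b * b') = c.mu a b * c.mu a b' := by
  by_cases ha1 : a = 1
  · rw [ha1, mu_one_left, mu_one_left, mu_one_left, mul_one]
  · rw [c.mu_of_ne ha1, c.mu_of_ne ha1, c.mu_of_ne ha1]; group

theorem mu_comm (a b x : G) : c.mu a (c.mu b x) = c.mu b (c.mu a x) := by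
  by_cases ha1 : a = 1
  · rw [ha1, mu_one_left, mu_one_left, mu_one_right]
  by_cases hb1 : b = 1
  · rw [hb1, mu_one_left, mu_one_left, mu_one_right]
  rw [c.mu_of_ne ha1, c.mu_of_ne hb1, c.mu_of_ne ha1, c.mu_of_ne hb1]
  have h := c.D_comm (c.dOf_mem a) (c.dOf_mem b)
  calc c.dOf a * (c.dOf b * x * (c.dOf b)⁻¹) * (c.dOf a)⁻¹
      = (c.dOf a * c.dOf b) * x * (c.dOf a * c.dOf b)⁻¹ := by group
    _ = (c.dOf b * c.dOf a) * x * (c.dOf b * c.dOf a)⁻¹ := by rw [h]
    _ = c.dOf b * (c.dOf a * x * (c.dOf a)⁻¹) * (c.dOf b)⁻¹ := by group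

theorem mu_ne_one {a b : G} (ha1 : a ≠ 1) (hb1 : b ≠ 1) : c.mu a b ≠ 1 := by
  rw [c.mu_of_ne ha1]
  intro h
  apply hb1
  calc b = (c.dOf a)⁻¹ * (c.dOf a * b * (c.dOf a)⁻¹) * c.dOf a := by group
    _ = 1 := by rw [h]; group

theorem dOf_mu {a b : G} (ha : a ∈ (c.T : Subgroup G)) (ha1 : a ≠ 1)
    (hb : b ∈ (c.T : Subgroup G)) (hb1 : b ≠ 1) : c.dOf (c.mu a b) = c.dOf a * c.dOf b := by
  apply c.dOf_eq (c.D.mul_mem (c.dOf_mem a) (c.dOf_mem b))
  rw [c.mu_of_ne ha1]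
  have h2 := (c.dOf_spec hb hb1).2
  calc c.dOf a * c.dOf b * c.e * (c.dOf a * c.dOf b)⁻¹
      = c.dOf a * (c.dOf b * c.e * (c.dOf b)⁻¹) * (c.dOf a)⁻¹ := by group
    _ = c.dOf a * b * (c.dOf a)⁻¹ := by rw [h2]

theorem mu_mu {a b : G} (ha : a ∈ (c.T : Subgroup G)) (hb : b ∈ (c.T : Subgroup G)) (x : G) :
    c.mu (c.mu a b) x = c.mu a (c.mu b x) := by
  by_cases ha1 : a = 1
  · rw [ha1, mu_one_left, mu_one_left, mu_one_left]
  by_cases hb1 : b = 1
  · rw [hb1, mu_one_right, mu_one_left, mu_one_right]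
  rw [c.mu_of_ne (c.mu_ne_one ha1 hb1), c.dOf_mu ha ha1 hb hb1, c.mu_of_ne ha1, c.mu_of_ne hb1]
  group

theorem mu_symm {a b : G} (ha : a ∈ (c.T : Subgroup G)) (hb : b ∈ (c.T : Subgroup G)) :
    c.mu a b = c.mu b a := by
  calc c.mu a b = c.mu a (c.mu b c.e) := by rw [c.mu_e hb]
    _ = c.mu b (c.mu a c.e) := c.mu_comm a b c.e
    _ = c.mu b a := by rw [c.mu_e ha]

/-- the underlying type of the field -/
structure F (c : CITData G) where
  val : G
  mem : val ∈ (c.T : Subgroup G)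

theorem F.ext' {c : CITData G} {x y : c.F} (h : x.val = y.val) : x = y := by
  cases x; cases y; cases h; rfl

instance : Add c.F := ⟨fun x y => ⟨x.val * y.val, (c.T : Subgroup G).mul_mem x.mem y.mem⟩⟩
instance : Zero c.F := ⟨⟨1, (c.T : Subgroup G).one_mem⟩⟩
instance : Neg c.F := ⟨fun x => x⟩
noncomputable instance : Mul c.F := ⟨fun x y => ⟨c.mu x.val y.val, c.mu_mem x.val y.mem⟩⟩
instance : One c.F := ⟨⟨c.e, c.heT⟩⟩
open Classical in
/-- inverse -/
noncomputable def invF (x : c.F) : c.F :=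
  if x.val = 1 then ⟨1, (c.T : Subgroup G).one_mem⟩ else
    ⟨(c.dOf x.val)⁻¹ * c.e * c.dOf x.val, by
      have := c.conj_mem_T (c.D.inv_mem (c.dOf_mem x.val)) c.heT
      rwa [inv_inv] at this⟩
noncomputable instance : Inv c.F := ⟨c.invF⟩

@[simp] theorem add_val (x y : c.F) : (x + y).val = x.val * y.val := rfl
@[simp] theorem zero_val : (0 : c.F).val = 1 := rfl
@[simp] theorem neg_val (x : c.F) : (-x).val = x.val := rfl
@[simp] theorem mul_val (x y : c.F) : (x * y).val = c.mu x.val y.val := rfl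
@[simp] theorem one_val : (1 : c.F).val = c.e := rfl

theorem inv_val_of_ne {x : c.F} (hx : x.val ≠ 1) :
    (x⁻¹).val = (c.dOf x.val)⁻¹ * c.e * c.dOf x.val := by
  show (c.invF x).val = _
  unfold invF
  rw [if_neg hx]

theorem inv_val_of_eq {x : c.F} (hx : x.val = 1) : (x⁻¹).val = 1 := by
  show (c.invF x).val = _
  unfold invF
  rw [if_pos hx]

noncomputable instance instField : Field c.F :=
  Field.ofMinimalAxioms c.F
    (fun a b d => F.ext' (by simp [mul_assoc]))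
    (fun a => F.ext' (by simp))
    (fun a => F.ext' (by simpa using c.T_sq a.mem))
    (fun a b d => F.ext' (by
      simp only [mul_val]
      exact c.mu_mu a.mem b.mem d.val))
    (fun a b => F.ext' (by
      simp only [mul_val]
      exact c.mu_symm a.mem b.mem))
    (fun a => F.ext' (by
      simp only [mul_val, one_val]
      rw [c.mu_of_ne c.he1, c.dOf_e]; group))
    (fun a ha => F.ext' (by
      have ha1 : a.val ≠ 1 := fun h => ha (F.ext' h)
      simp only [mul_val, one_val]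
      rw [c.inv_val_of_ne ha1, c.mu_of_ne ha1]
      group))
    (F.ext' (by rw [c.inv_val_of_eq rfl]; rfl))
    (fun a b d => F.ext' (by
      simp only [mul_val, add_val]
      exact c.mu_mul _ _ _))
    ⟨0, 1, fun h => c.he1 (congrArg F.val h).symm⟩

/-- `F ≃ T` -/
def equivT : c.F ≃ ↥(c.T : Subgroup G) where
  toFun x := ⟨x.val, x.mem⟩
  invFun t := ⟨t.1, t.2⟩
  left_inv _ := rfl
  right_inv _ := rfl

instance : Finite c.F := Finite.of_equiv _ c.equivT.symm

theorem card_F : Nat.card c.F = Nat.card (c.T : Subgroup G) := Nat.card_congr c.equivT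

theorem two_eq_zero : (2 : c.F) = 0 := by
  have h : (1 : c.F) + 1 = 0 := F.ext' (by simpa using c.T_sq c.heT)
  rw [← h]; norm_num

end CITData

end Cfsg.Agent.Helper21
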