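import Mathlib
import Cfsg.Agent.Helper5.PSL2

set_option autoImplicit false
set_option linter.style.haveILetI false
set_option linter.unusedSectionVars false
set_option linter.unusedVariables false

/-!
Möbius action of `SL(2,K)` on `OnePoint K` and a recognition theorem for `PSL(2,K)` in
characteristic 2 (helper21).
-/

namespace Cfsg.Agent.Helper21

open Matrix OnePoint

section
variable {K : Type*} [Field K] [DecidableEq K]

theorem sl_smul_some (A : SpecialLinearGroup (Fin 2) K) (k : K) :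
    (SpecialLinearGroup.toGL A) • (k : OnePoint K) =
      if A.1 1 0 * k + A.1 1 1 = 0 then ∞ else
        (((A.1 0 0 * k + A.1 0 1) / (A.1 1 0 * k + A.1 1 1) : K) : OnePoint K) := by
  rw [OnePoint.smul_some_eq_ite]; rfl

theorem sl_smul_infty (A : SpecialLinearGroup (Fin 2) K) :
    (SpecialLinearGroup.toGL A) • (∞ : OnePoint K) =
      if A.1 1 0 = 0 then ∞ else ((A.1 0 0 / A.1 1 0 : K) : OnePoint K) := by
  rw [OnePoint.smul_infty_eq_ite]; rfl

/-- translation `x ↦ x + b` -/
def mTransl (b : K) : SpecialLinearGroup (Fin 2) K := ⟨!![1, b; 0, 1], by simp [det_fin_two]⟩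

theorem mTransl_smul_some (b x : K) :
    (SpecialLinearGroup.toGL (mTransl b)) • (x : OnePoint K) = ((x + b : K) : OnePoint K) := by
  rw [sl_smul_some]
  simp [mTransl]

theorem mTransl_smul_infty (b : K) :
    (SpecialLinearGroup.toGL (mTransl b)) • (∞ : OnePoint K) = ∞ := by
  rw [sl_smul_infty]
  simp [mTransl]

/-- dilation `x ↦ s² x` -/
def mDil (s : K) (hs : s ≠ 0) : SpecialLinearGroup (Fin 2) K :=
  ⟨!![s, 0; 0, s⁻¹], by simp [det_fin_two, hs]⟩

theorem mDil_smul_some (s : K) (hs : s ≠ 0) (x : K) :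
    (SpecialLinearGroup.toGL (mDil s hs)) • (x : OnePoint K) = ((s * s * x : K) : OnePoint K) := by
  rw [sl_smul_some]
  simp [mDil, hs]
  field_simp

theorem mDil_smul_infty (s : K) (hs : s ≠ 0) :
    (SpecialLinearGroup.toGL (mDil s hs)) • (∞ : OnePoint K) = ∞ := by
  rw [sl_smul_infty]
  simp [mDil]

/-- the swap `x ↦ r² / x` in characteristic 2 -/
def mSwap (r : K) (hr : r ≠ 0) (h2 : (2 : K) = 0) : SpecialLinearGroup (Fin 2) K :=
  ⟨!![0, r; r⁻¹, 0], by
    simp [det_fin_two, hr]
    have : (1 : K) + 1 = 0 := by rw [← h2]; norm_num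
    linear_combination (-1 : K) * this⟩

theorem mSwap_smul_some (r : K) (hr : r ≠ 0) (h2 : (2 : K) = 0) (x : K) (hx : x ≠ 0) :
    (SpecialLinearGroup.toGL (mSwap r hr h2)) • (x : OnePoint K) =
      ((r * r * x⁻¹ : K) : OnePoint K) := by
  rw [sl_smul_some]
  simp [mSwap, hr, hx]
  field_simp

theorem mSwap_smul_zero (r : K) (hr : r ≠ 0) (h2 : (2 : K) = 0) :
    (SpecialLinearGroup.toGL (mSwap r hr h2)) • ((0 : K) : OnePoint K) = ∞ := by
  rw [sl_smul_some]
  simp [mSwap]

theorem mSwap_smul_infty (r : K) (hr : r ≠ 0) (h2 : (2 : K) = 0) :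
    (SpecialLinearGroup.toGL (mSwap r hr h2)) • (∞ : OnePoint K) = ((0 : K) : OnePoint K) := by
  rw [sl_smul_infty]
  simp [mSwap, hr]

end

/-- Recognition of `PSL(2,K)`, `K` finite of characteristic 2, from an action on `OnePoint K` by
Möbius transformations. -/
theorem nonempty_mulEquiv_PSL2 {G : Type*} [Group G] [Finite G] {X : Type*} [MulAction G X]
    (hfaith : ∀ g : G, (∀ x : X, g • x = x) → g = 1)
    {K : Type*} [Field K] [Finite K] [DecidableEq K] (h2 : (2 : K) = 0)
    (ι : OnePoint K ≃ X)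
    (hstar : ∀ g : G, ∃ A : SpecialLinearGroup (Fin 2) K, ∀ x : OnePoint K,
      ι ((SpecialLinearGroup.toGL A) • x) = g • ι x)
    (hcard : Nat.card G = Nat.card K * (Nat.card K ^ 2 - 1)) :
    Nonempty (G ≃* Matrix.ProjectiveSpecialLinearGroup (Fin 2) K) := by
  haveI : Fintype K := Fintype.ofFinite K
  let ρ : G →* Equiv.Perm (OnePoint K) :=
    (ι.symm.permCongrHom.toMonoidHom).comp (MulAction.toPermHom G X)
  let σ : SpecialLinearGroup (Fin 2) K →* Equiv.Perm (OnePoint K) :=
    (MulAction.toPermHom (GL (Fin 2) K) (OnePoint K)).comp SpecialLinearGroup.toGL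
  have hρ : ∀ g x, ρ g x = ι.symm (g • ι x) := fun g x => rfl
  have hσ : ∀ A x, σ A x = (SpecialLinearGroup.toGL A) • x := fun _ _ => rfl
  have hρinj : Function.Injective ρ := by
    rw [injective_iff_map_eq_one]
    intro g hg
    apply hfaith
    intro x
    have h1 : ρ g (ι.symm x) = ι.symm x := by rw [hg]; rfl
    rw [hρ, Equiv.apply_symm_apply] at h1
    exact ι.symm.injective h1
  have hle : ρ.range ≤ σ.range := by
    rintro _ ⟨g, rfl⟩
    obtain ⟨A, hA⟩ := hstar g
    refine ⟨A, ?_⟩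
    ext x
    rw [hσ, hρ, ← hA, Equiv.symm_apply_apply]
  have hcardSL : Nat.card (SpecialLinearGroup (Fin 2) K) = Nat.card G := by
    rw [hcard, Cfsg.Agent.Helper5.card_SL2, Nat.card_eq_fintype_card]
  have hcardρ : Nat.card ρ.range = Nat.card G :=
    Nat.card_congr (MonoidHom.ofInjective hρinj).symm.toEquiv
  have hcardσ : Nat.card σ.range ≤ Nat.card (SpecialLinearGroup (Fin 2) K) :=
    Nat.card_le_card_of_surjective σ.rangeRestrict σ.rangeRestrict_surjective
  have heq : ρ.range = σ.range := Subgroup.eq_of_le_of_card_ge hle (by omega)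
  have hσinj : Function.Injective σ := by
    have hb := σ.rangeRestrict_surjective.bijective_of_nat_card_le
      (by rw [← heq, hcardρ, hcardSL])
    intro a b hab
    apply hb.1
    exact Subtype.ext hab
  have hcenter : Subgroup.center (SpecialLinearGroup (Fin 2) K) = ⊥ :=
    Subgroup.card_eq_one.1 (Cfsg.Agent.Helper5.card_center_SL2_of_two_eq_zero h2)
  exact ⟨(MonoidHom.ofInjective hρinj).trans ((MulEquiv.subgroupCongr heq).trans
    ((MonoidHom.ofInjective hσinj).symm.trans ((QuotientGroup.quotientBot).symm.trans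
      (QuotientGroup.quotientMulEquivOfEq hcenter.symm))))⟩

end Cfsg.Agent.Helper21
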