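import Mathlib
import Cfsg.Agent.Helper21.CITField
import Cfsg.Agent.Helper21.Moebius

set_option autoImplicit false
set_option linter.style.haveILetI false
set_option linter.unusedSectionVars false
set_option linter.unusedVariables false

/-!
A CIT-group acts on the projective line over its field by Möbius transformations (helper21).
-/

namespace Cfsg.Agent.Helper21

open Cfsg Cfsg.Agent.Helper4 Matrix OnePoint

namespace CITData

variable {G : Type*} [Group G] [Finite G] (c : CITData G)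

/-- identification of the projective line with the coset space -/
noncomputable def iota (x : OnePoint c.F) : G ⧸ c.N :=
  x.elim (QuotientGroup.mk 1) (fun a => QuotientGroup.mk (a.val * c.u))

theorem iota_infty : c.iota ∞ = QuotientGroup.mk 1 := rfl

theorem iota_coe (a : c.F) : c.iota (a : OnePoint c.F) = QuotientGroup.mk (a.val * c.u) := rfl

theorem mk_u_ne : (QuotientGroup.mk c.u : G ⧸ c.N) ≠ QuotientGroup.mk 1 := fun h =>
  c.huH ((mk_eq_one_iff' c.N c.u).1 h)

theorem iota_coe_ne (a : c.F) : c.iota (a : OnePoint c.F) ≠ QuotientGroup.mk 1 := by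
  rw [iota_coe]
  intro h
  have h1 := (mk_eq_one_iff' c.N _).1 h
  apply c.huH
  have : c.u = a.val⁻¹ * (a.val * c.u) := by group
  rw [this]
  exact c.N.mul_mem (c.N.inv_mem (c.T_le_N a.mem)) h1

theorem iota_coe_eq_smul (a : c.F) :
    c.iota (a : OnePoint c.F) = a.val • (QuotientGroup.mk c.u : G ⧸ c.N) := rfl

theorem iota_injective : Function.Injective c.iota := by
  intro x y hxy
  cases x with
  | infty =>
    cases y with
    | infty => rfl
    | coe b => exact absurd hxy.symm (c.iota_coe_ne b)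
  | coe a =>
    cases y with
    | infty => exact absurd hxy (c.iota_coe_ne a)
    | coe b =>
      rw [iota_coe_eq_smul, iota_coe_eq_smul] at hxy
      obtain ⟨t, -, ht⟩ := CITHyp.existsUnique_sylow_smul c.hC c.T c.hnc c.hnn
        (QuotientGroup.mk c.u) (a.val • (QuotientGroup.mk c.u : G ⧸ c.N)) c.mk_u_ne
        (by rw [← iota_coe_eq_smul]; exact c.iota_coe_ne a)
      have h1 := ht a.val ⟨a.mem, rfl⟩
      have h2 := ht b.val ⟨b.mem, hxy.symm⟩
      have : a = b := F.ext' (h1.trans h2.symm)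
      rw [this]

theorem iota_surjective : Function.Surjective c.iota := by
  intro y
  by_cases hy : y = QuotientGroup.mk 1
  · exact ⟨∞, hy.symm⟩
  · obtain ⟨t, ⟨htT, ht⟩, -⟩ := CITHyp.existsUnique_sylow_smul c.hC c.T c.hnc c.hnn
      (QuotientGroup.mk c.u) y c.mk_u_ne hy
    exact ⟨((⟨t, htT⟩ : c.F) : OnePoint c.F), ht⟩

/-- `iota` as an equivalence -/
noncomputable def iotaEquiv : OnePoint c.F ≃ G ⧸ c.N :=
  Equiv.ofBijective c.iota ⟨c.iota_injective, c.iota_surjective⟩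

/-- elements of `T` act as translations -/
theorem smul_iota_T {t : G} (ht : t ∈ (c.T : Subgroup G)) (a : c.F) :
    t • c.iota (a : OnePoint c.F) = c.iota ((a + ⟨t, ht⟩ : c.F) : OnePoint c.F) := by
  rw [iota_coe, iota_coe, MulAction.Quotient.smul_mk, smul_eq_mul]
  congr 1
  simp only [add_val]
  rw [c.T_comm a.mem ht, mul_assoc]

theorem smul_iota_T_infty {t : G} (ht : t ∈ (c.T : Subgroup G)) :
    t • c.iota ∞ = c.iota ∞ := by
  rw [iota_infty, MulAction.Quotient.smul_mk, smul_eq_mul, mul_one]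
  exact (mk_eq_one_iff' c.N t).2 (c.T_le_N ht)

theorem conj_e_ne_one {d : G} (hd : d ∈ c.D) : d * c.e * d⁻¹ ≠ 1 := by
  intro h
  apply c.he1
  calc c.e = d⁻¹ * (d * c.e * d⁻¹) * d := by group
    _ = 1 := by rw [h]; group

/-- elements of `D` act as multiplications -/
theorem smul_iota_D {d : G} (hd : d ∈ c.D) (a : c.F) :
    d • c.iota (a : OnePoint c.F) =
      c.iota (((⟨d * c.e * d⁻¹, c.conj_mem_T hd c.heT⟩ : c.F) * a : c.F) : OnePoint c.F) := by
  have hdu := (CITHyp.smul_eq_of_mem_inf c.T hd).2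
  rw [iota_coe_eq_smul, iota_coe_eq_smul, ← mul_smul]
  have h1 : ((⟨d * c.e * d⁻¹, c.conj_mem_T hd c.heT⟩ : c.F) * a).val = d * a.val * d⁻¹ := by
    rw [mul_val]
    show c.mu (d * c.e * d⁻¹) a.val = _
    rw [c.mu_of_ne (c.conj_e_ne_one hd), c.dOf_eq hd rfl]
  rw [h1]
  have h2 : d * a.val = (d * a.val * d⁻¹) * d := by group
  calc (d * a.val) • (QuotientGroup.mk c.u : G ⧸ c.N)
      = ((d * a.val * d⁻¹) * d) • (QuotientGroup.mk c.u : G ⧸ c.N) := by rw [← h2]
    _ = (d * a.val * d⁻¹) • (QuotientGroup.mk c.u : G ⧸ c.N) := by rw [mul_smul, hdu]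

theorem smul_iota_D_infty {d : G} (hd : d ∈ c.D) : d • c.iota ∞ = c.iota ∞ :=
  (CITHyp.smul_eq_of_mem_inf c.T hd).1

theorem smul_iota_u_infty : c.u • c.iota ∞ = c.iota ((0 : c.F) : OnePoint c.F) := by
  rw [iota_infty, iota_coe, MulAction.Quotient.smul_mk, smul_eq_mul, mul_one, zero_val, one_mul]

theorem smul_iota_u_zero : c.u • c.iota ((0 : c.F) : OnePoint c.F) = c.iota ∞ := by
  rw [iota_infty, iota_coe, MulAction.Quotient.smul_mk, smul_eq_mul, zero_val, one_mul,
    sq_one_of_orderOf_two c.hu]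

theorem exists_cc : ∃ cc : c.F, cc ≠ 0 ∧
    c.u • c.iota ((1 : c.F) : OnePoint c.F) = c.iota (cc : OnePoint c.F) := by
  obtain ⟨z, hz⟩ := c.iota_surjective (c.u • c.iota ((1 : c.F) : OnePoint c.F))
  have h01 : ((1 : c.F) : OnePoint c.F) ≠ ((0 : c.F) : OnePoint c.F) := by
    intro h
    exact one_ne_zero (OnePoint.coe_injective h)
  cases z with
  | infty =>
    exfalso
    rw [← c.smul_iota_u_zero] at hz
    exact h01 (c.iota_injective (smul_left_cancel _ hz)).symm
  | coe cc =>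
    refine ⟨cc, ?_, hz.symm⟩
    rintro rfl
    rw [← c.smul_iota_u_infty] at hz
    have := c.iota_injective (smul_left_cancel _ hz)
    exact OnePoint.infty_ne_coe _ this

/-- the constant of the inversion -/
noncomputable def cc : c.F := Classical.choose c.exists_cc

theorem cc_ne_zero : c.cc ≠ 0 := (Classical.choose_spec c.exists_cc).1

theorem smul_iota_u_one : c.u • c.iota ((1 : c.F) : OnePoint c.F) = c.iota (c.cc : OnePoint c.F) :=
  (Classical.choose_spec c.exists_cc).2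

theorem u_mul_D {d : G} (hd : d ∈ c.D) : c.u * d = d⁻¹ * c.u := by
  obtain ⟨h1, -, -⟩ := CITHyp.structure c.hC c.T c.hnc c.hnn c.hu c.huH
  have := h1 d hd
  calc c.u * d = (c.u * d * c.u⁻¹) * c.u := by group
    _ = d⁻¹ * c.u := by rw [this]

/-- `u` acts as `x ↦ cc / x` -/
theorem smul_iota_u {a : c.F} (ha : a ≠ 0) :
    c.u • c.iota (a : OnePoint c.F) = c.iota ((c.cc * a⁻¹ : c.F) : OnePoint c.F) := by
  have ha1 : a.val ≠ 1 := fun h => ha (F.ext' h)
  obtain ⟨hdD, hd⟩ := c.dOf_spec a.mem ha1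
  set d := c.dOf a.val with hdef
  have e1 : (⟨d * c.e * d⁻¹, c.conj_mem_T hdD c.heT⟩ : c.F) = a := F.ext' hd
  have h1 : d • c.iota ((1 : c.F) : OnePoint c.F) = c.iota (a : OnePoint c.F) := by
    rw [c.smul_iota_D hdD, e1, mul_one]
  have hdinv : d⁻¹ ∈ c.D := c.D.inv_mem hdD
  have e2 : (⟨d⁻¹ * c.e * d⁻¹⁻¹, c.conj_mem_T hdinv c.heT⟩ : c.F) = a⁻¹ := by
    apply F.ext'
    show d⁻¹ * c.e * d⁻¹⁻¹ = (a⁻¹).val
    rw [c.inv_val_of_ne ha1, inv_inv]
  rw [← h1, ← mul_smul, c.u_mul_D hdD, mul_smul, c.smul_iota_u_one, c.smul_iota_D hdinv, e2,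
    mul_comm]

noncomputable instance instDecEqF : DecidableEq c.F := Classical.decEq _

/-- the Möbius relation -/
def Rel (g : G) (A : SpecialLinearGroup (Fin 2) c.F) : Prop :=
  ∀ x : OnePoint c.F, c.iota ((SpecialLinearGroup.toGL A) • x) = g • c.iota x

theorem Rel.mul {g g' : G} {A A' : SpecialLinearGroup (Fin 2) c.F} (h : c.Rel g A)
    (h' : c.Rel g' A') : c.Rel (g * g') (A * A') := by
  intro x
  rw [map_mul, mul_smul, mul_smul, h, h']

theorem two_eq_zero' : (2 : c.F) = 0 := c.two_eq_zero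

theorem exists_sq (m : c.F) : ∃ s : c.F, s * s = m := by
  haveI : CharP c.F 2 := CharTwo.of_one_ne_zero_of_two_eq_zero one_ne_zero c.two_eq_zero
  have hchar : ringChar c.F = 2 := ringChar.eq c.F 2
  obtain ⟨s, hs⟩ := FiniteField.isSquare_of_char_two hchar m
  exact ⟨s, hs.symm⟩

theorem rel_T {t : G} (ht : t ∈ (c.T : Subgroup G)) :
    ∃ A : SpecialLinearGroup (Fin 2) c.F, c.Rel t A := by
  refine ⟨mTransl (⟨t, ht⟩ : c.F), ?_⟩
  intro x
  cases x with
  | infty => rw [mTransl_smul_infty, c.smul_iota_T_infty ht]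
  | coe a => rw [mTransl_smul_some, c.smul_iota_T ht]

theorem rel_D {d : G} (hd : d ∈ c.D) :
    ∃ A : SpecialLinearGroup (Fin 2) c.F, c.Rel d A := by
  obtain ⟨s, hs⟩ := c.exists_sq (⟨d * c.e * d⁻¹, c.conj_mem_T hd c.heT⟩ : c.F)
  have hs0 : s ≠ 0 := by
    rintro rfl
    rw [mul_zero] at hs
    exact c.conj_e_ne_one hd (congrArg F.val hs).symm
  refine ⟨mDil s hs0, ?_⟩
  intro x
  cases x with
  | infty => rw [mDil_smul_infty, c.smul_iota_D_infty hd]
  | coe a => rw [mDil_smul_some, c.smul_iota_D hd, hs]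

theorem rel_u : ∃ A : SpecialLinearGroup (Fin 2) c.F, c.Rel c.u A := by
  obtain ⟨r, hr⟩ := c.exists_sq c.cc
  have hr0 : r ≠ 0 := by
    rintro rfl
    rw [mul_zero] at hr
    exact c.cc_ne_zero hr.symm
  refine ⟨mSwap r hr0 c.two_eq_zero, ?_⟩
  intro x
  cases x with
  | infty => rw [mSwap_smul_infty, c.smul_iota_u_infty]
  | coe a =>
    by_cases ha : a = 0
    · rw [ha, mSwap_smul_zero, c.smul_iota_u_zero]
    · rw [mSwap_smul_some _ _ _ _ ha, c.smul_iota_u ha, hr]

theorem rel_all (g : G) : ∃ A : SpecialLinearGroup (Fin 2) c.F, c.Rel g A := by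
  obtain ⟨-, -, h3⟩ := CITHyp.structure c.hC c.T c.hnc c.hnn c.hu c.huH
  have hN : ∀ h ∈ c.N, ∃ A : SpecialLinearGroup (Fin 2) c.F, c.Rel h A := by
    intro h hh
    obtain ⟨d, hd, t, ht, rfl⟩ := h3 h hh
    obtain ⟨A, hA⟩ := c.rel_D hd
    obtain ⟨B, hB⟩ := c.rel_T ht
    exact ⟨A * B, hA.mul c hB⟩
  by_cases hg : g ∈ c.N
  · exact hN g hg
  · obtain ⟨s, hs, hsg⟩ := CITHyp.exists_sylow_smul c.hC c.T c.hnc c.hnn c.hu c.huH hg
    obtain ⟨A, hA⟩ := c.rel_T ((c.T : Subgroup G).inv_mem hs)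
    obtain ⟨B, hB⟩ := c.rel_u
    obtain ⟨C, hC⟩ := hN _ hsg
    have : g = s⁻¹ * (c.u * (c.u⁻¹ * (s * g))) := by group
    rw [this]
    exact ⟨A * (B * C), hA.mul c (hB.mul c hC)⟩

end CITData

end Cfsg.Agent.Helper21
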