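import Mathlib
import Cfsg.Agent.Helper21.Moebius

set_option autoImplicit false
set_option linter.style.haveILetI false
set_option linter.unusedSectionVars false
set_option linter.unusedVariables false

/-!
Transport of a Möbius action along a ring isomorphism (helper21).
-/

namespace Cfsg.Agent.Helper21

open Matrix OnePoint

/-- `OnePoint` of equivalent types -/
def onePointCongr {K L : Type*} (e : L ≃ K) : OnePoint L ≃ OnePoint K where
  toFun := OnePoint.map e
  invFun := OnePoint.map e.symm
  left_inv x := by cases x <;> simp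
  right_inv x := by cases x <;> simp

theorem toGL_map_map {K L : Type*} [Field K] [Field L] (φ : L ≃+* K)
    (A : SpecialLinearGroup (Fin 2) K) :
    (SpecialLinearGroup.toGL (SpecialLinearGroup.map φ.symm.toRingHom A)).map φ.toRingHom =
      SpecialLinearGroup.toGL A := by
  apply Units.ext
  ext i j
  change φ (φ.symm (A.1 i j)) = A.1 i j
  simp

theorem hstar_transport {G X : Type*} [Group G] [MulAction G X] {K L : Type*} [Field K] [Field L]
    [DecidableEq K] [DecidableEq L] (φ : L ≃+* K) (ι : OnePoint K ≃ X)
    (hstar : ∀ g : G, ∃ A : SpecialLinearGroup (Fin 2) K, ∀ x : OnePoint K,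
      ι ((SpecialLinearGroup.toGL A) • x) = g • ι x) :
    ∀ g : G, ∃ B : SpecialLinearGroup (Fin 2) L, ∀ x : OnePoint L,
      ((onePointCongr φ.toEquiv).trans ι) ((SpecialLinearGroup.toGL B) • x) =
        g • ((onePointCongr φ.toEquiv).trans ι) x := by
  intro g
  obtain ⟨A, hA⟩ := hstar g
  refine ⟨SpecialLinearGroup.map φ.symm.toRingHom A, ?_⟩
  intro x
  simp only [Equiv.trans_apply]
  have h1 : (onePointCongr φ.toEquiv) ((SpecialLinearGroup.toGL
      (SpecialLinearGroup.map φ.symm.toRingHom A)) • x) =
      (SpecialLinearGroup.toGL A) • (onePointCongr φ.toEquiv x) := by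
    show OnePoint.map φ.toRingHom _ = _
    rw [OnePoint.map_smul, toGL_map_map]
    rfl
  rw [h1, hA]

end Cfsg.Agent.Helper21

namespace Cfsg.Agent.Helper21

/-- a bare type with `n` elements in `Type` -/
structure Carrier (n : ℕ) : Type where
  val : Fin n

/-- `Carrier n ≃ Fin n` -/
def Carrier.equivFin (n : ℕ) : Carrier n ≃ Fin n :=
  ⟨Carrier.val, Carrier.mk, fun _ => rfl, fun _ => rfl⟩

instance (n : ℕ) : Fintype (Carrier n) := Fintype.ofEquiv _ (Carrier.equivFin n).symm

theorem card_carrier (n : ℕ) : Fintype.card (Carrier n) = n := by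
  rw [Fintype.card_congr (Carrier.equivFin n), Fintype.card_fin]

end Cfsg.Agent.Helper21
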