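import Mathlib
import Cfsg.Prelude.Def_Local

set_option autoImplicit false

/-!
Basic facts on quasisimple groups and components (helper21).
-/

namespace Cfsg.Agent.Helper21

open Cfsg
open scoped commutatorElement

variable {X : Type*} [Group X]

/-- A quasisimple group is nontrivial. -/
theorem IsQuasisimple.nontrivial (h : IsQuasisimple X) : Nontrivial X := by
  obtain ⟨_, hs⟩ := h
  have : Nontrivial (X ⧸ Subgroup.center X) := hs.toNontrivial
  exact (QuotientGroup.mk'_surjective (Subgroup.center X)).nontrivial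

/-- A quasisimple group is not solvable. -/
theorem IsQuasisimple.not_isSolvable (h : IsQuasisimple X) : ¬ Group.IsSolvable X := by
  haveI := IsQuasisimple.nontrivial h
  haveI := h.1
  exact Group.IsPerfect.not_isSolvable X

/-- A normal subgroup of a quasisimple group is the whole group or central. -/
theorem IsQuasisimple.normal_eq_top_or_le_center (h : IsQuasisimple X) (N : Subgroup X)
    [hN : N.Normal] : N = ⊤ ∨ N ≤ Subgroup.center X := by
  obtain ⟨hp, hs⟩ := h
  have hnorm : (N.map (QuotientGroup.mk' (Subgroup.center X))).Normal :=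
    hN.map _ (QuotientGroup.mk'_surjective _)
  rcases hnorm.eq_bot_or_eq_top with h0 | h1
  · right
    intro n hn
    have : (QuotientGroup.mk' (Subgroup.center X)) n ∈ N.map (QuotientGroup.mk' (Subgroup.center X)) :=
      Subgroup.mem_map_of_mem _ hn
    rw [h0, Subgroup.mem_bot, QuotientGroup.mk'_apply, QuotientGroup.eq_one_iff] at this
    exact this
  · left
    -- N ⊔ Z = ⊤
    have hsup : N ⊔ Subgroup.center X = ⊤ := by
      have := congrArg (Subgroup.comap (QuotientGroup.mk' (Subgroup.center X))) h1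
      rw [Subgroup.comap_map_eq, QuotientGroup.ker_mk', Subgroup.comap_top] at this
      exact this
    -- commutator ≤ N
    have hcomm : commutator X ≤ N := by
      rw [commutator_def]
      rw [Subgroup.commutator_le]
      intro a _ b _
      have ha : a ∈ N ⊔ Subgroup.center X := by rw [hsup]; trivial
      have hb : b ∈ N ⊔ Subgroup.center X := by rw [hsup]; trivial
      rw [Subgroup.mem_sup_of_normal_left] at ha hb
      obtain ⟨n, hn, z, hz, rfl⟩ := ha
      obtain ⟨n', hn', z', hz', rfl⟩ := hb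
      have hz1 : ∀ g, g * z = z * g := Subgroup.mem_center_iff.1 hz
      have hz2 : ∀ g, g * z' = z' * g := Subgroup.mem_center_iff.1 hz'
      have : ⁅n * z, n' * z'⁆ = ⁅n, n'⁆ := by
        rw [commutatorElement_def, commutatorElement_def]
        have e1 : (n * z)⁻¹ = n⁻¹ * z⁻¹ := by
          rw [mul_inv_rev]
          have := hz1 n⁻¹
          rw [eq_comm, ← mul_inv_eq_iff_eq_mul] at this
          calc z⁻¹ * n⁻¹ = z⁻¹ * (z * n⁻¹ * z⁻¹) := by rw [this]
            _ = n⁻¹ * z⁻¹ := by group
        have e2 : (n' * z')⁻¹ = n'⁻¹ * z'⁻¹ := by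
          rw [mul_inv_rev]
          have := hz2 n'⁻¹
          rw [eq_comm, ← mul_inv_eq_iff_eq_mul] at this
          calc z'⁻¹ * n'⁻¹ = z'⁻¹ * (z' * n'⁻¹ * z'⁻¹) := by rw [this]
            _ = n'⁻¹ * z'⁻¹ := by group
        rw [e1, e2]
        calc n * z * (n' * z') * (n⁻¹ * z⁻¹) * (n'⁻¹ * z'⁻¹)
            = n * (z * (n' * z' * n⁻¹)) * z⁻¹ * (n'⁻¹ * z'⁻¹) := by group
          _ = n * ((n' * z' * n⁻¹) * z) * z⁻¹ * (n'⁻¹ * z'⁻¹) := by rw [hz1]
          _ = n * n' * (z' * (n⁻¹ * n'⁻¹)) * z'⁻¹ := by group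
          _ = n * n' * ((n⁻¹ * n'⁻¹) * z') * z'⁻¹ := by rw [hz2]
          _ = n * n' * n⁻¹ * n'⁻¹ := by group
      rw [this]
      exact N.mul_mem (N.mul_mem (N.mul_mem hn hn') (N.inv_mem hn)) (N.inv_mem hn')
    have := hp.commutator_eq_top
    rw [this] at hcomm
    exact top_le_iff.1 hcomm

/-- A subnormal subgroup of a quasisimple group is the whole group or central. -/
theorem IsQuasisimple.subnormal_eq_top_or_le_center (h : IsQuasisimple X) (H : Subgroup X)
    (hH : H.IsSubnormal) : H = ⊤ ∨ H ≤ Subgroup.center X := by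
  induction hH with
  | top => left; rfl
  | step H K h_le hSubn hN ih =>
    rcases ih with rfl | hK
    · have : H.Normal := by
        rw [Subgroup.normal_subgroupOf_iff_le_normalizer h_le] at hN
        exact Subgroup.normalizer_eq_top_iff.1 (top_le_iff.1 hN)
      exact IsQuasisimple.normal_eq_top_or_le_center h H
    · right; exact h_le.trans hK

/-- Quasisimplicity is invariant under isomorphism. -/
theorem IsQuasisimple.of_mulEquiv {Y : Type*} [Group Y] (e : X ≃* Y) (h : IsQuasisimple X) :
    IsQuasisimple Y := by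
  obtain ⟨hp, hs⟩ := h
  refine ⟨Group.IsPerfect.ofSurjective (f := e.toMonoidHom) e.surjective, ?_⟩
  have hc : (Subgroup.center X).map e.toMonoidHom = Subgroup.center Y := by
    ext y
    constructor
    · rintro ⟨x, hx, rfl⟩
      have hx := Subgroup.mem_center_iff.1 hx
      rw [Subgroup.mem_center_iff]
      intro g
      obtain ⟨g', rfl⟩ := e.surjective g
      simp only [MulEquiv.coe_toMonoidHom, ← map_mul, hx g']
    · intro hy
      refine ⟨e.symm y, ?_, by simp⟩
      rw [Subgroup.mem_center_iff] at hy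
      show e.symm y ∈ Subgroup.center X
      rw [Subgroup.mem_center_iff]
      intro g
      apply e.injective
      simp only [map_mul, MulEquiv.apply_symm_apply, hy (e g)]
  exact (QuotientGroup.congr (Subgroup.center X) (Subgroup.center Y) e hc).symm.isSimpleGroup

theorem isQuasisimple_congr {Y : Type*} [Group Y] (e : X ≃* Y) :
    IsQuasisimple X ↔ IsQuasisimple Y :=
  ⟨IsQuasisimple.of_mulEquiv e, IsQuasisimple.of_mulEquiv e.symm⟩

end Cfsg.Agent.Helper21

namespace Cfsg.Agent.Helper21

open Cfsg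
open scoped commutatorElement

variable {X : Type*} [Group X]

/-- The commutator of `n z` and `n' z'` with `z, z'` central is the commutator of `n` and `n'`. -/
theorem commutatorElement_mul_center (n n' z z' : X) (hz : z ∈ Subgroup.center X)
    (hz' : z' ∈ Subgroup.center X) : ⁅n * z, n' * z'⁆ = ⁅n, n'⁆ := by
  have hz1 : ∀ g, g * z = z * g := Subgroup.mem_center_iff.1 hz
  have hz2 : ∀ g, g * z' = z' * g := Subgroup.mem_center_iff.1 hz'
  rw [commutatorElement_def, commutatorElement_def]
  have e1 : (n * z)⁻¹ = n⁻¹ * z⁻¹ := by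
    rw [mul_inv_rev]
    have := hz1 n⁻¹
    rw [eq_comm, ← mul_inv_eq_iff_eq_mul] at this
    calc z⁻¹ * n⁻¹ = z⁻¹ * (z * n⁻¹ * z⁻¹) := by rw [this]
      _ = n⁻¹ * z⁻¹ := by group
  have e2 : (n' * z')⁻¹ = n'⁻¹ * z'⁻¹ := by
    rw [mul_inv_rev]
    have := hz2 n'⁻¹
    rw [eq_comm, ← mul_inv_eq_iff_eq_mul] at this
    calc z'⁻¹ * n'⁻¹ = z'⁻¹ * (z' * n'⁻¹ * z'⁻¹) := by rw [this]
      _ = n'⁻¹ * z'⁻¹ := by group
  rw [e1, e2]
  calc n * z * (n' * z') * (n⁻¹ * z⁻¹) * (n'⁻¹ * z'⁻¹)
      = n * (z * (n' * z' * n⁻¹)) * z⁻¹ * (n'⁻¹ * z'⁻¹) := by group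
    _ = n * ((n' * z' * n⁻¹) * z) * z⁻¹ * (n'⁻¹ * z'⁻¹) := by rw [hz1]
    _ = n * n' * (z' * (n⁻¹ * n'⁻¹)) * z'⁻¹ := by group
    _ = n * n' * ((n⁻¹ * n'⁻¹) * z') * z'⁻¹ := by rw [hz2]
    _ = n * n' * n⁻¹ * n'⁻¹ := by group

/-- `⁅N ⊔ Z, N ⊔ Z⁆ = ⁅N, N⁆` for `Z` the centre. -/
theorem commutator_sup_center (N : Subgroup X) :
    ⁅N ⊔ Subgroup.center X, N ⊔ Subgroup.center X⁆ = ⁅N, N⁆ := by
  apply le_antisymm
  · rw [Subgroup.commutator_le]
    intro a ha b hb
    rw [Subgroup.mem_sup_of_normal_right] at ha hb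
    obtain ⟨n, hn, z, hz, rfl⟩ := ha
    obtain ⟨n', hn', z', hz', rfl⟩ := hb
    rw [commutatorElement_mul_center n n' z z' hz hz']
    exact Subgroup.commutator_mem_commutator hn hn'
  · exact Subgroup.commutator_mono le_sup_left le_sup_left

/-- If `X / Z(X)` is non-abelian simple then `X = X' Z(X)`. -/
theorem commutator_sup_center_eq_top (hs : IsSimpleGroup (X ⧸ Subgroup.center X))
    (hna : ¬ IsMulCommutative (X ⧸ Subgroup.center X)) :
    commutator X ⊔ Subgroup.center X = ⊤ := by
  have hnorm : ((commutator X).map (QuotientGroup.mk' (Subgroup.center X))).Normal :=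
    Subgroup.Normal.map inferInstance _ (QuotientGroup.mk'_surjective _)
  rcases hnorm.eq_bot_or_eq_top with h0 | h1
  · exfalso
    apply hna
    constructor
    constructor
    intro a b
    obtain ⟨a, rfl⟩ := QuotientGroup.mk'_surjective _ a
    obtain ⟨b, rfl⟩ := QuotientGroup.mk'_surjective _ b
    have hab : ⁅a, b⁆ ∈ commutator X := by
      rw [commutator_def]
      exact Subgroup.commutator_mem_commutator (Subgroup.mem_top a) (Subgroup.mem_top b)
    have : (QuotientGroup.mk' (Subgroup.center X)) ⁅a, b⁆ ∈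
        (commutator X).map (QuotientGroup.mk' (Subgroup.center X)) :=
      Subgroup.mem_map_of_mem _ hab
    rw [h0, Subgroup.mem_bot, commutatorElement_def] at this
    simp only [map_mul, map_inv] at this
    rw [mul_inv_eq_one, mul_inv_eq_iff_eq_mul] at this
    exact this
  · have := congrArg (Subgroup.comap (QuotientGroup.mk' (Subgroup.center X))) h1
    rw [Subgroup.comap_map_eq, QuotientGroup.ker_mk', Subgroup.comap_top] at this
    exact this

/-- If `X / Z(X)` is non-abelian simple then `X'` is quasisimple. -/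
theorem isQuasisimple_commutator (hs : IsSimpleGroup (X ⧸ Subgroup.center X))
    (hna : ¬ IsMulCommutative (X ⧸ Subgroup.center X)) :
    IsQuasisimple ↥(commutator X) := by
  have htop := commutator_sup_center_eq_top hs hna
  have hperf : ⁅commutator X, commutator X⁆ = commutator X := by
    rw [← commutator_sup_center, htop, ← commutator_def]
  refine ⟨Subgroup.isPerfect_iff.2 hperf, ?_⟩
  -- the map D → X → X/Z
  set D := commutator X with hD
  let φ : D →* X ⧸ Subgroup.center X := (QuotientGroup.mk' (Subgroup.center X)).comp D.subtype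
  have hφs : Function.Surjective φ := by
    intro y
    obtain ⟨x, rfl⟩ := QuotientGroup.mk'_surjective _ y
    have hx : x ∈ D ⊔ Subgroup.center X := by rw [htop]; trivial
    rw [Subgroup.mem_sup_of_normal_right] at hx
    obtain ⟨d, hd, z, hz, rfl⟩ := hx
    refine ⟨⟨d, hd⟩, ?_⟩
    simp only [φ, MonoidHom.comp_apply, Subgroup.coe_subtype, map_mul]
    have : (QuotientGroup.mk' (Subgroup.center X)) z = 1 := by
      rw [QuotientGroup.mk'_apply, QuotientGroup.eq_one_iff]; exact hz
    rw [this, mul_one]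
  have hker : φ.ker = Subgroup.center D := by
    ext d
    rw [MonoidHom.mem_ker, Subgroup.mem_center_iff]
    simp only [φ, MonoidHom.comp_apply, Subgroup.coe_subtype, QuotientGroup.mk'_apply,
      QuotientGroup.eq_one_iff]
    constructor
    · intro hd g
      apply Subtype.ext
      exact Subgroup.mem_center_iff.1 hd g
    · intro hd
      rw [Subgroup.mem_center_iff]
      intro g
      have hg : g ∈ D ⊔ Subgroup.center X := by rw [htop]; trivial
      rw [Subgroup.mem_sup_of_normal_right] at hg
      obtain ⟨e, he, z, hz, rfl⟩ := hg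
      have h1 : e * (d : X) = d * e := congrArg Subtype.val (hd ⟨e, he⟩)
      have h2 : ∀ g, g * z = z * g := Subgroup.mem_center_iff.1 hz
      calc e * z * (d : X) = e * (z * d) := by group
        _ = e * (d * z) := by rw [h2]
        _ = (e * d) * z := by group
        _ = d * e * z := by rw [h1]
        _ = d * (e * z) := by group
  have e1 : D ⧸ φ.ker ≃* X ⧸ Subgroup.center X :=
    QuotientGroup.quotientKerEquivOfSurjective φ hφs
  have e2 : D ⧸ Subgroup.center D ≃* D ⧸ φ.ker :=
    QuotientGroup.quotientMulEquivOfEq hker.symm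
  exact (e2.trans e1).isSimpleGroup

end Cfsg.Agent.Helper21
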