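import Mathlib
import Cfsg.Prelude.Def_Local
import Cfsg.Agent.Helper21.Quasisimple

set_option autoImplicit false

/-!
Components of finite groups (helper21): a component commutes with every subgroup it normalizes
and does not lie in.
-/

namespace Cfsg.Agent.Helper21

open Cfsg
open scoped commutatorElement

variable {G : Type*} [Group G]

/-- The iterated commutator `[A, L, L, ..., L]` (`n` copies of `L`). -/
def iterComm (A L : Subgroup G) : ℕ → Subgroup G
  | 0 => A
  | n + 1 => ⁅iterComm A L n, L⁆

@[simp] theorem iterComm_zero (A L : Subgroup G) : iterComm A L 0 = A := rfl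

theorem iterComm_succ (A L : Subgroup G) (n : ℕ) :
    iterComm A L (n + 1) = ⁅iterComm A L n, L⁆ := rfl

theorem iterComm_mono {A B L M : Subgroup G} (hAB : A ≤ B) (hLM : L ≤ M) (n : ℕ) :
    iterComm A L n ≤ iterComm B M n := by
  induction n with
  | zero => exact hAB
  | succ n ih => exact Subgroup.commutator_mono ih hLM

/-- if `L` normalizes `H` then `⁅H, L⁆ ≤ H`. -/
theorem commutator_le_of_le_normalizer {H L : Subgroup G}
    (h : L ≤ Subgroup.normalizer (H : Set G)) : ⁅H, L⁆ ≤ H := by
  rw [Subgroup.commutator_le]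
  intro a ha b hb
  rw [commutatorElement_def]
  have : b * a⁻¹ * b⁻¹ ∈ H := (Subgroup.mem_normalizer_iff.1 (h hb) a⁻¹).1 (H.inv_mem ha)
  have h2 : a * b * a⁻¹ * b⁻¹ = a * (b * a⁻¹ * b⁻¹) := by group
  rw [h2]
  exact H.mul_mem ha this

theorem iterComm_le_of_le_normalizer {H L : Subgroup G}
    (h : L ≤ Subgroup.normalizer (H : Set G)) (n : ℕ) : iterComm H L n ≤ H := by
  induction n with
  | zero => exact le_rfl
  | succ n ih =>
    exact (Subgroup.commutator_mono ih le_rfl).trans (commutator_le_of_le_normalizer h)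

/-- A subnormal subgroup `L` absorbs the iterated commutators `[G, L, ..., L]`. -/
theorem exists_iterComm_le_of_isSubnormal {L : Subgroup G} (hL : L.IsSubnormal) :
    ∃ n, iterComm ⊤ L n ≤ L := by
  induction hL with
  | top => exact ⟨0, le_rfl⟩
  | step H K h_le hSubn hN ih =>
    obtain ⟨n, hn⟩ := ih
    refine ⟨n + 1, ?_⟩
    rw [Subgroup.normal_subgroupOf_iff_le_normalizer h_le] at hN
    have h1 : iterComm ⊤ H n ≤ K := (iterComm_mono le_rfl h_le n).trans hn
    calc iterComm ⊤ H (n + 1) = ⁅iterComm ⊤ H n, H⁆ := rfl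
      _ ≤ ⁅K, H⁆ := Subgroup.commutator_mono h1 le_rfl
      _ = ⁅H, K⁆ := Subgroup.commutator_comm _ _
      _ ≤ H := commutator_le_of_le_normalizer hN

/-- If `L` is perfect and `[K, L, L] = 1` then `[K, L] = 1`. -/
theorem commutator_eq_bot_of_perfect {K L : Subgroup G} (hL : ⁅L, L⁆ = L)
    (h : ⁅⁅K, L⁆, L⁆ = ⊥) : ⁅K, L⁆ = ⊥ := by
  have h1 : ⁅⁅L, K⁆, L⁆ = ⊥ := by rw [Subgroup.commutator_comm L K]; exact h
  have := Subgroup.commutator_commutator_eq_bot_of_rotate h1 h
  rw [hL] at this
  rw [Subgroup.commutator_comm]; exact this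

theorem iterComm_one_eq_bot_of_perfect {A L : Subgroup G} (hL : ⁅L, L⁆ = L) (n : ℕ)
    (h : iterComm A L (n + 1) = ⊥) : ⁅A, L⁆ = ⊥ := by
  induction n with
  | zero => exact h
  | succ n ih =>
    apply ih
    exact commutator_eq_bot_of_perfect hL h

/-- **Main lemma.** A subnormal quasisimple subgroup `L` either lies in, or commutes with, any subgroup
`H` that it normalizes. -/
theorem IsComponent.le_or_commutator_eq_bot {L : Subgroup G} (hL : IsComponent L)
    (H : Subgroup G) (hLH : L ≤ Subgroup.normalizer (H : Set G)) : L ≤ H ∨ ⁅L, H⁆ = ⊥ := by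
  obtain ⟨hsn, hq⟩ := hL
  have hperf : ⁅L, L⁆ = L := Subgroup.isPerfect_iff.1 hq.1
  -- H ⊓ L is normal in L
  have hnorm : ((H ⊓ L).subgroupOf L).Normal := by
    rw [Subgroup.normal_subgroupOf_iff_le_normalizer inf_le_right]
    intro l hl
    rw [Subgroup.mem_normalizer_iff]
    intro x
    have h1 := Subgroup.mem_normalizer_iff.1 (hLH hl) x
    constructor
    · rintro ⟨hx1, hx2⟩
      exact ⟨h1.1 hx1, L.mul_mem (L.mul_mem hl hx2) (L.inv_mem hl)⟩
    · rintro ⟨hx1, hx2⟩
      refine ⟨h1.2 hx1, ?_⟩
      have : x = l⁻¹ * (l * x * l⁻¹) * l := by group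
      rw [this]
      exact L.mul_mem (L.mul_mem (L.inv_mem hl) hx2) hl
  rcases IsQuasisimple.normal_eq_top_or_le_center hq ((H ⊓ L).subgroupOf L) with h | h
  · left
    rw [Subgroup.subgroupOf_eq_top] at h
    exact h.trans inf_le_left
  · right
    -- ⁅H ⊓ L, L⁆ = ⊥
    have hc : ⁅H ⊓ L, L⁆ = ⊥ := by
      rw [eq_bot_iff, Subgroup.commutator_le]
      intro a ha b hb
      rw [Subgroup.mem_bot, commutatorElement_def]
      have ha' : (⟨a, ha.2⟩ : L) ∈ (H ⊓ L).subgroupOf L := by
        rw [Subgroup.mem_subgroupOf]; exact ha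
      have := Subgroup.mem_center_iff.1 (h ha') ⟨b, hb⟩
      have hab : b * a = a * b := congrArg Subtype.val this
      rw [← hab]; group
    obtain ⟨n, hn⟩ := exists_iterComm_le_of_isSubnormal hsn
    have h1 : iterComm H L n ≤ H ⊓ L :=
      le_inf (iterComm_le_of_le_normalizer hLH n) ((iterComm_mono le_top le_rfl n).trans hn)
    have h2 : iterComm H L (n + 1) = ⊥ := by
      rw [eq_bot_iff, ← hc]
      exact Subgroup.commutator_mono h1 le_rfl
    rw [Subgroup.commutator_comm]
    exact iterComm_one_eq_bot_of_perfect hperf n h2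

/-- A component lies in, or commutes with, each subnormal subgroup. -/
theorem IsComponent.le_or_commutator_eq_bot_of_isSubnormal {L : Subgroup G} (hL : IsComponent L)
    {H : Subgroup G} (hH : H.IsSubnormal) : L ≤ H ∨ ⁅L, H⁆ = ⊥ := by
  induction hH with
  | top => left; exact le_top
  | step H K h_le hSubn hN ih =>
    rcases ih with h | h
    · rw [Subgroup.normal_subgroupOf_iff_le_normalizer h_le] at hN
      exact IsComponent.le_or_commutator_eq_bot hL H (h.trans hN)
    · right
      rw [eq_bot_iff, ← h]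
      exact Subgroup.commutator_mono le_rfl h_le

/-- A component commutes with every solvable subgroup it normalizes. -/
theorem IsComponent.commutator_eq_bot_of_isSolvable {L : Subgroup G} (hL : IsComponent L)
    (H : Subgroup G) (hsolv : Group.IsSolvable H) (hLH : L ≤ Subgroup.normalizer (H : Set G)) :
    ⁅L, H⁆ = ⊥ := by
  rcases IsComponent.le_or_commutator_eq_bot hL H hLH with h | h
  · exfalso
    apply IsQuasisimple.not_isSolvable hL.2
    haveI := hsolv
    exact Group.isSolvable_of_isSolvable_injective (f := Subgroup.inclusion h) (Subgroup.inclusion_injective h)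
  · exact h

end Cfsg.Agent.Helper21
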