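import Mathlib
import Cfsg.Prelude.Def_Local
import Cfsg.Agent.Helper21.Components

set_option autoImplicit false

/-!
The layer `E(G)` (helper21): distinct components commute, centre of the layer.
-/

namespace Cfsg.Agent.Helper21

open Cfsg
open scoped commutatorElement

variable {G : Type*} [Group G]

/-- A component is not the trivial subgroup. -/
theorem IsComponent.ne_bot {L : Subgroup G} (hL : IsComponent L) : L ≠ ⊥ := by
  intro h
  have := IsQuasisimple.nontrivial hL.2
  rw [Subgroup.nontrivial_iff_ne_bot] at this
  exact this h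

/-- Distinct components commute. -/
theorem IsComponent.commutator_eq_bot_of_ne {L K : Subgroup G} (hL : IsComponent L)
    (hK : IsComponent K) (hne : L ≠ K) : ⁅L, K⁆ = ⊥ := by
  rcases IsComponent.le_or_commutator_eq_bot_of_isSubnormal hL hK.1 with h1 | h1
  · rcases IsComponent.le_or_commutator_eq_bot_of_isSubnormal hK hL.1 with h2 | h2
    · exact absurd (le_antisymm h1 h2) hne
    · exfalso
      have hperf : ⁅L, L⁆ = L := Subgroup.isPerfect_iff.1 hL.2.1
      have : ⁅L, L⁆ ≤ ⁅K, L⁆ := Subgroup.commutator_mono h1 le_rfl
      rw [h2, hperf, le_bot_iff] at this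
      exact IsComponent.ne_bot hL this
  · exact h1

theorem IsComponent.commute_of_ne {L K : Subgroup G} (hL : IsComponent L)
    (hK : IsComponent K) (hne : L ≠ K) {x y : G} (hx : x ∈ L) (hy : y ∈ K) : Commute x y := by
  have h := IsComponent.commutator_eq_bot_of_ne hL hK hne
  have : ⁅x, y⁆ ∈ ⁅L, K⁆ := Subgroup.commutator_mem_commutator hx hy
  rw [h, Subgroup.mem_bot] at this
  exact commutatorElement_eq_one_iff_commute.1 this

/-- `Z(H)` viewed in `G`. -/
theorem mem_map_center_subtype {H : Subgroup G} {x : G} :
    x ∈ (Subgroup.center H).map H.subtype ↔ x ∈ H ∧ ∀ h ∈ H, h * x = x * h := by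
  constructor
  · rintro ⟨⟨y, hy⟩, hc, rfl⟩
    refine ⟨hy, fun h hh => ?_⟩
    have := Subgroup.mem_center_iff.1 hc ⟨h, hh⟩
    exact congrArg Subtype.val this
  · rintro ⟨hx, hc⟩
    refine ⟨⟨x, hx⟩, ?_, rfl⟩
    show (⟨x, hx⟩ : H) ∈ Subgroup.center H
    rw [Subgroup.mem_center_iff]
    rintro ⟨h, hh⟩
    exact Subtype.ext (hc h hh)

theorem layer_eq_iSup : layer G = ⨆ L : {K : Subgroup G // IsComponent K}, (L : Subgroup G) := by
  unfold layer
  rw [sSup_eq_iSup']
  rfl

theorem IsComponent.le_layer {L : Subgroup G} (hL : IsComponent L) : L ≤ layer G :=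
  le_sSup hL

/-- The centre of the layer is generated by the centres of the components. -/
theorem center_layer [Finite G] :
    (Subgroup.center ↥(layer G)).map (layer G).subtype =
      ⨆ L : {K : Subgroup G // IsComponent K},
        (Subgroup.center ↥(L : Subgroup G)).map (L : Subgroup G).subtype := by
  classical
  apply le_antisymm
  · -- `≤`
    intro z hz
    rw [mem_map_center_subtype] at hz
    obtain ⟨hzE, hzc⟩ := hz
    haveI : Fintype {K : Subgroup G // IsComponent K} := Fintype.ofFinite _
    have hcomm : Pairwise fun i j : {K : Subgroup G // IsComponent K} =>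
        ∀ x y : G, x ∈ (i : Subgroup G) → y ∈ (j : Subgroup G) → Commute x y := by
      intro i j hij x y hx hy
      exact IsComponent.commute_of_ne i.2 j.2 (fun h => hij (Subtype.ext h)) hx hy
    rw [layer_eq_iSup, ← Subgroup.noncommPiCoprod_range (hcomm := hcomm)] at hzE
    obtain ⟨u, rfl⟩ := hzE
    rw [Subgroup.noncommPiCoprod_apply]
    apply Subgroup.noncommProd_mem
    intro i _
    apply Subgroup.mem_iSup_of_mem i
    rw [mem_map_center_subtype]
    refine ⟨(u i).2, ?_⟩
    intro x hx
    -- x commutes with the whole product and with all other factors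
    have hxE : x ∈ layer G := IsComponent.le_layer i.2 hx
    have h1 := hzc x hxE
    rw [Subgroup.noncommPiCoprod_apply] at h1
    set f : {K : Subgroup G // IsComponent K} → G := fun j => ((u j : (j : Subgroup G)) : G) with hf
    have hpc : ((Finset.univ : Finset {K : Subgroup G // IsComponent K}) : Set _).Pairwise
        (fun a b => Commute (f a) (f b)) :=
      fun a _ b _ hab => hcomm hab _ _ (u a).2 (u b).2
    have hpc' : (((Finset.univ : Finset {K : Subgroup G // IsComponent K}).erase i) : Set _).Pairwise
        (fun a b => Commute (f a) (f b)) :=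
      fun a _ b _ hab => hcomm hab _ _ (u a).2 (u b).2
    have hsplit : Finset.univ.noncommProd f hpc = f i * (Finset.univ.erase i).noncommProd f hpc' :=
      (Finset.mul_noncommProd_erase Finset.univ (Finset.mem_univ i) f hpc hpc').symm
    have h1' : x * Finset.univ.noncommProd f hpc = Finset.univ.noncommProd f hpc * x := h1
    have h2 : Commute x ((Finset.univ.erase i).noncommProd f hpc') := by
      apply Finset.noncommProd_commute
      intro j hj
      have hji : j ≠ i := (Finset.mem_erase.1 hj).1
      exact hcomm hji.symm _ _ hx (u j).2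
    -- x * (u i * rest) = (u i * rest) * x, x * rest = rest * x
    have h3 := h2.eq
    rw [hsplit, ← mul_assoc, mul_assoc (f i), ← h3, ← mul_assoc] at h1'
    exact mul_right_cancel h1'
  · -- `≥`
    apply iSup_le
    rintro ⟨L, hL⟩ z hz
    rw [mem_map_center_subtype] at hz ⊢
    obtain ⟨hzL, hzc⟩ := hz
    refine ⟨IsComponent.le_layer hL hzL, ?_⟩
    have : layer G ≤ Subgroup.centralizer ({z} : Set G) := by
      apply sSup_le
      intro K hK
      by_cases hKL : K = L
      · subst hKL
        intro k hk
        rw [Subgroup.mem_centralizer_iff]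
        intro y hy
        rw [Set.mem_singleton_iff] at hy
        subst hy
        exact (hzc k hk).symm
      · intro k hk
        rw [Subgroup.mem_centralizer_iff]
        intro y hy
        rw [Set.mem_singleton_iff] at hy
        subst hy
        exact (IsComponent.commute_of_ne hK hL hKL hk hzL).eq.symm
    intro h hh
    have := this hh
    rw [Subgroup.mem_centralizer_iff] at this
    exact (this z (Set.mem_singleton z)).symm

end Cfsg.Agent.Helper21
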