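import Mathlib
import Cfsg.Prelude.Def_Local
import Cfsg.Agent.Helper21.Layer

set_option autoImplicit false
set_option linter.style.haveILetI false

/-!
The Fitting subgroup and its centralizer (helper21).
-/

namespace Cfsg.Agent.Helper21

open Cfsg
open scoped commutatorElement

variable {G : Type*} [Group G]

instance fittingSubgroup_normal : (fittingSubgroup G).Normal :=
  Subgroup.sSup_normal _ (fun _ h => h.1)

theorem le_fittingSubgroup {N : Subgroup G} (hN : N.Normal) (hnil : Group.IsNilpotent N) :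
    N ≤ fittingSubgroup G :=
  le_sSup ⟨hN, hnil⟩

theorem card_lt_card_of_lt {H K : Subgroup G} [Finite K] (h : H < K) :
    Nat.card H < Nat.card K := by
  have hfin : (K : Set G).Finite := Set.toFinite _
  have := Set.ncard_lt_ncard (SetLike.coe_ssubset_coe.2 h) hfin
  exact this

theorem commutator_self_le (A : Subgroup G) : ⁅A, A⁆ ≤ A := by
  rw [Subgroup.commutator_le]
  intro a ha b hb
  exact A.mul_mem (A.mul_mem (A.mul_mem ha hb) (A.inv_mem ha)) (A.inv_mem hb)

/-- conjugation by an element of the normalizer fixes the subgroup. -/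
theorem map_conj_eq_of_mem_normalizer {S : Subgroup G} {c : G}
    (hc : c ∈ Subgroup.normalizer (S : Set G)) : S.map (MulAut.conj c).toMonoidHom = S := by
  ext x
  constructor
  · rintro ⟨s, hs, rfl⟩
    exact (Subgroup.mem_normalizer_iff.1 hc s).1 hs
  · intro hx
    refine ⟨c⁻¹ * x * c, ?_, by simp [mul_assoc]⟩
    have := (Subgroup.mem_normalizer_iff.1 (Subgroup.inv_mem _ hc) x).1 hx
    simpa using this

theorem mem_normalizer_of_map_conj_eq {S : Subgroup G} {c : G}
    (h : S.map (MulAut.conj c).toMonoidHom = S) : c ∈ Subgroup.normalizer (S : Set G) := by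
  rw [Subgroup.mem_normalizer_iff]
  intro x
  constructor
  · intro hx
    rw [← h]
    exact ⟨x, hx, rfl⟩
  · intro hx
    rw [← h] at hx
    obtain ⟨s, hs, hs'⟩ := hx
    have : s = x := by
      simpa using hs'
    rwa [← this]

theorem le_normalizer_sup {A B C : Subgroup G} (hA : C ≤ Subgroup.normalizer (A : Set G))
    (hB : C ≤ Subgroup.normalizer (B : Set G)) : C ≤ Subgroup.normalizer ((A ⊔ B : Subgroup G) : Set G) := by
  intro c hc
  apply mem_normalizer_of_map_conj_eq
  rw [Subgroup.map_sup, map_conj_eq_of_mem_normalizer (hA hc), map_conj_eq_of_mem_normalizer (hB hc)]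

/-- The join of two solvable subgroups, one normalizing the other, is solvable. -/
theorem isSolvable_sup {A B : Subgroup G} (hA : Group.IsSolvable A) (hB : Group.IsSolvable B)
    (h : A ≤ Subgroup.normalizer (B : Set G)) : Group.IsSolvable ↥(A ⊔ B) := by
  set K : Subgroup G := A ⊔ B with hK
  have hBK : B ≤ K := le_sup_right
  have hAK : A ≤ K := le_sup_left
  have hKn : K ≤ Subgroup.normalizer (B : Set G) := sup_le h Subgroup.le_normalizer
  haveI hBn : (B.subgroupOf K).Normal := (Subgroup.normal_subgroupOf_iff_le_normalizer hBK).2 hKn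
  let f : B →* K := Subgroup.inclusion hBK
  let g : K →* K ⧸ B.subgroupOf K := QuotientGroup.mk' _
  have hfg : g.ker ≤ f.range := by
    rw [QuotientGroup.ker_mk', Subgroup.inclusion_range]
  -- the quotient is an image of A
  let φ : A →* K ⧸ B.subgroupOf K := g.comp (Subgroup.inclusion hAK)
  have hφ : Function.Surjective φ := by
    rw [← MonoidHom.range_eq_top, eq_top_iff]
    have h1 : A.subgroupOf K ⊔ B.subgroupOf K = ⊤ := by
      rw [← Subgroup.subgroupOf_sup hAK hBK]
      exact Subgroup.subgroupOf_self K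
    have h2 : A.subgroupOf K ⊔ B.subgroupOf K ≤ φ.range.comap g := by
      apply sup_le
      · intro k hk
        rw [Subgroup.mem_comap]
        exact ⟨⟨k, hk⟩, rfl⟩
      · intro k hk
        rw [Subgroup.mem_comap]
        have : g k = 1 := by
          rw [QuotientGroup.mk'_apply, QuotientGroup.eq_one_iff]; exact hk
        rw [this]; exact Subgroup.one_mem _
    rw [h1] at h2
    intro y _
    obtain ⟨k, rfl⟩ := QuotientGroup.mk'_surjective _ y
    exact h2 (Subgroup.mem_top k)
  haveI := hA
  haveI := hB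
  haveI : Group.IsSolvable (K ⧸ B.subgroupOf K) := Group.isSolvable_of_surjective hφ
  exact Group.isSolvable_of_ker_le_range f g hfg

/-- A subgroup `A` with `[[A,A],A] = 1` is nilpotent. -/
theorem isNilpotent_of_commutator_commutator_eq_bot {A : Subgroup G} (h : ⁅⁅A, A⁆, A⁆ = ⊥) :
    Group.IsNilpotent A :=
  Subgroup.isNilpotent_of_lowerCentralSeries_eq_bot (n := 2) h

variable [Finite G]

/-- A solvable normal subgroup of `G` inside `C_G(F(G))` lies in `F(G)`. -/
theorem le_fittingSubgroup_of_isSolvable_of_le_centralizer :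
    ∀ (n : ℕ) (A : Subgroup G), Nat.card A ≤ n → A.Normal → Group.IsSolvable A →
      A ≤ Subgroup.centralizer (fittingSubgroup G : Set G) → A ≤ fittingSubgroup G := by
  intro n
  induction n with
  | zero =>
    intro A hcard
    have : 0 < Nat.card A := Nat.card_pos
    omega
  | succ n ih =>
    intro A hcard hAn hAs hAC
    by_cases hbot : A = ⊥
    · rw [hbot]; exact bot_le
    -- ⁅A, A⁆ < A
    have hlt : ⁅A, A⁆ < A := by
      refine lt_of_le_of_ne (commutator_self_le A) ?_
      intro heq
      haveI : Group.IsPerfect A := Subgroup.isPerfect_iff.2 heq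
      haveI : Nontrivial A := (Subgroup.nontrivial_iff_ne_bot A).2 hbot
      exact Group.IsPerfect.not_isSolvable A hAs
    have hcard' : Nat.card ↥⁅A, A⁆ ≤ n := by
      have := card_lt_card_of_lt hlt
      omega
    haveI := hAn
    have hDn : (⁅A, A⁆).Normal := Subgroup.commutator_normal A A
    have hDs : Group.IsSolvable ↥⁅A, A⁆ := by
      haveI := hAs
      exact Group.isSolvable_of_isSolvable_injective (f := Subgroup.inclusion hlt.le)
        (Subgroup.inclusion_injective hlt.le)
    have hDF : ⁅A, A⁆ ≤ fittingSubgroup G := ih ⁅A, A⁆ hcard' hDn hDs (hlt.le.trans hAC)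
    -- ⁅⁅A,A⁆,A⁆ = ⊥
    have h3 : ⁅⁅A, A⁆, A⁆ = ⊥ := by
      rw [eq_bot_iff, Subgroup.commutator_le]
      intro d hd a ha
      rw [Subgroup.mem_bot, commutatorElement_eq_one_iff_commute]
      have := Subgroup.mem_centralizer_iff.1 (hAC ha) d (hDF hd)
      exact this
    exact le_fittingSubgroup hAn (isNilpotent_of_commutator_commutator_eq_bot h3)

end Cfsg.Agent.Helper21

namespace Cfsg.Agent.Helper21

open Cfsg
open scoped commutatorElement

variable {G : Type*} [Group G]

theorem isSolvable_map_conj {S : Subgroup G} (hS : Group.IsSolvable S) (g : G) :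
    Group.IsSolvable ↥(S.map (MulAut.conj g).toMonoidHom) := by
  haveI := hS
  exact Group.isSolvable_of_surjective
    (f := (MulAut.conj g).toMonoidHom.subgroupMap S) (MonoidHom.subgroupMap_surjective _ _)

/-- conjugating the normalizer condition -/
theorem le_normalizer_map_conj {C S : Subgroup G} [hC : C.Normal]
    (h : C ≤ Subgroup.normalizer (S : Set G)) (g : G) :
    C ≤ Subgroup.normalizer ((S.map (MulAut.conj g).toMonoidHom : Subgroup G) : Set G) := by
  intro c hc
  have hc' : g⁻¹ * c * g ∈ C := by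
    have := hC.conj_mem c hc g⁻¹
    simpa using this
  have h1 := h hc'
  apply mem_normalizer_of_map_conj_eq
  have h2 := map_conj_eq_of_mem_normalizer h1
  -- conj c ∘ conj g = conj g ∘ conj (g⁻¹ c g)
  ext x
  constructor
  · rintro ⟨_, ⟨s, hs, rfl⟩, rfl⟩
    refine ⟨g⁻¹ * c * g * s * (g⁻¹ * c * g)⁻¹, ?_, ?_⟩
    · rw [← h2]; exact ⟨s, hs, rfl⟩
    · simp [mul_assoc]
  · rintro ⟨s, hs, rfl⟩
    rw [← h2] at hs
    obtain ⟨t, ht, rfl⟩ := hs
    refine ⟨g * t * g⁻¹, ⟨t, ht, rfl⟩, ?_⟩
    simp [mul_assoc]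

variable [Finite G]

/-- The solvable radical of a normal subgroup `C`, as a normal subgroup of `G`. -/
theorem exists_solvable_radical (C : Subgroup G) [hC : C.Normal] :
    ∃ M : Subgroup G, M ≤ C ∧ M.Normal ∧ Group.IsSolvable M ∧
      ∀ N : Subgroup G, N ≤ C → C ≤ Subgroup.normalizer (N : Set G) → Group.IsSolvable N → N ≤ M := by
  classical
  set 𝒮 : Set (Subgroup G) :=
    {S | S ≤ C ∧ C ≤ Subgroup.normalizer (S : Set G) ∧ Group.IsSolvable S} with h𝒮
  have hfin : 𝒮.Finite := Set.toFinite _
  have hne : 𝒮.Nonempty := by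
    refine ⟨⊥, bot_le, ?_, inferInstance⟩
    intro c _
    rw [Subgroup.mem_normalizer_iff]
    intro x
    simp [Subgroup.mem_bot]
  obtain ⟨M, hM, hmax⟩ := Set.exists_max_image 𝒮 (fun S => Nat.card S) hfin hne
  have hbig : ∀ N : Subgroup G, N ∈ 𝒮 → N ≤ M := by
    intro N hN
    have hsup : N ⊔ M ∈ 𝒮 :=
      ⟨sup_le hN.1 hM.1, le_normalizer_sup hN.2.1 hM.2.1,
        isSolvable_sup hN.2.2 hM.2.2 (hN.1.trans hM.2.1)⟩
    have h1 := hmax _ hsup
    have h2 : M = N ⊔ M := Subgroup.eq_of_le_of_card_ge le_sup_right h1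
    rw [h2]; exact le_sup_left
  refine ⟨M, hM.1, ?_, hM.2.2, fun N h1 h2 h3 => hbig N ⟨h1, h2, h3⟩⟩
  constructor
  intro n hn g
  have : M.map (MulAut.conj g).toMonoidHom ∈ 𝒮 := by
    refine ⟨?_, le_normalizer_map_conj hM.2.1 g, isSolvable_map_conj hM.2.2 g⟩
    rintro _ ⟨m, hm, rfl⟩
    exact hC.conj_mem m (hM.1 hm) g
  exact hbig _ this ⟨n, hn, rfl⟩

/-- A solvable subgroup of `C_G(F(G))` normalized by `C_G(F(G))` lies in `Z(F(G))`. -/
theorem le_center_fittingSubgroup (N : Subgroup G)
    (hN : N ≤ Subgroup.centralizer (fittingSubgroup G : Set G))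
    (hnorm : Subgroup.centralizer (fittingSubgroup G : Set G) ≤ Subgroup.normalizer (N : Set G))
    (hsolv : Group.IsSolvable ↥N) :
    N ≤ (Subgroup.center ↥(fittingSubgroup G)).map (fittingSubgroup G).subtype := by
  obtain ⟨M, hMC, hMn, hMs, hMbig⟩ :=
    exists_solvable_radical (Subgroup.centralizer (fittingSubgroup G : Set G))
  have hNM : N ≤ M := hMbig N hN hnorm hsolv
  have hMF : M ≤ fittingSubgroup G :=
    le_fittingSubgroup_of_isSolvable_of_le_centralizer (Nat.card M) M le_rfl hMn hMs hMC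
  intro x hx
  rw [mem_map_center_subtype]
  refine ⟨hMF (hNM hx), ?_⟩
  intro h hh
  exact Subgroup.mem_centralizer_iff.1 (hN hx) h hh

end Cfsg.Agent.Helper21
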