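import Mathlib
import Cfsg.Prelude.Def_Local
import Cfsg.Agent.Helper21.Fitting

set_option autoImplicit false
set_option linter.style.haveILetI false

/-!
Solvable radical, subnormal solvable subgroups, normality of the layer, and `C_G(F*(G)) ≤ F*(G)`
(helper21).
-/

namespace Cfsg.Agent.Helper21

open Cfsg
open scoped commutatorElement

variable {G : Type*} [Group G]

/-- conjugating the normalizer condition (relative version) -/
theorem le_normalizer_map_conj' {C S : Subgroup G}
    (h : C ≤ Subgroup.normalizer (S : Set G)) {g : G} (hg : g ∈ Subgroup.normalizer (C : Set G)) :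
    C ≤ Subgroup.normalizer ((S.map (MulAut.conj g).toMonoidHom : Subgroup G) : Set G) := by
  intro c hc
  have hc' : g⁻¹ * c * g ∈ C := by
    have := (Subgroup.mem_normalizer_iff.1 (Subgroup.inv_mem _ hg) c).1 hc
    simpa using this
  have h1 := h hc'
  apply mem_normalizer_of_map_conj_eq
  have h2 := map_conj_eq_of_mem_normalizer h1
  ext x
  constructor
  · rintro ⟨_, ⟨s, hs, rfl⟩, rfl⟩
    refine ⟨g⁻¹ * c * g * s * (g⁻¹ * c * g)⁻¹, ?_, ?_⟩
    · rw [← h2]; exact ⟨s, hs, rfl⟩
    · simp [mul_assoc]
  · rintro ⟨s, hs, rfl⟩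
    rw [← h2] at hs
    obtain ⟨t, ht, rfl⟩ := hs
    refine ⟨g * t * g⁻¹, ⟨t, ht, rfl⟩, ?_⟩
    simp [mul_assoc]

/-- The solvable radical of a subgroup `C`, invariant under any `K` normalizing `C`. -/
theorem exists_solvable_radical' [Finite G] (C K : Subgroup G)
    (hK : K ≤ Subgroup.normalizer (C : Set G)) :
    ∃ M : Subgroup G, M ≤ C ∧ K ≤ Subgroup.normalizer (M : Set G) ∧ Group.IsSolvable M ∧
      ∀ N : Subgroup G, N ≤ C → C ≤ Subgroup.normalizer (N : Set G) → Group.IsSolvable N → N ≤ M := by
  classical
  set 𝒮 : Set (Subgroup G) :=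
    {S | S ≤ C ∧ C ≤ Subgroup.normalizer (S : Set G) ∧ Group.IsSolvable S} with h𝒮
  have hfin : 𝒮.Finite := Set.toFinite _
  have hne : 𝒮.Nonempty := by
    refine ⟨⊥, bot_le, ?_, inferInstance⟩
    intro c _
    rw [Subgroup.mem_normalizer_iff]
    intro x
    simp [Subgroup.mem_bot]
  obtain ⟨M, hM, hmax⟩ := Set.exists_max_image 𝒮 (fun S => Nat.card S) hfin hne
  have hbig : ∀ N : Subgroup G, N ∈ 𝒮 → N ≤ M := by
    intro N hN
    have hsup : N ⊔ M ∈ 𝒮 :=
      ⟨sup_le hN.1 hM.1, le_normalizer_sup hN.2.1 hM.2.1,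
        isSolvable_sup hN.2.2 hM.2.2 (hN.1.trans hM.2.1)⟩
    have h1 := hmax _ hsup
    have h2 : M = N ⊔ M := Subgroup.eq_of_le_of_card_ge le_sup_right h1
    rw [h2]; exact le_sup_left
  refine ⟨M, hM.1, ?_, hM.2.2, fun N h1 h2 h3 => hbig N ⟨h1, h2, h3⟩⟩
  have hconj : ∀ g ∈ K, ∀ n ∈ M, g * n * g⁻¹ ∈ M := by
    intro g hg n hn
    have : M.map (MulAut.conj g).toMonoidHom ∈ 𝒮 := by
      refine ⟨?_, le_normalizer_map_conj' hM.2.1 (hK hg), isSolvable_map_conj hM.2.2 g⟩
      rintro _ ⟨m, hm, rfl⟩
      exact (Subgroup.mem_normalizer_iff.1 (hK hg) m).1 (hM.1 hm)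
    exact hbig _ this ⟨n, hn, rfl⟩
  intro g hg
  rw [Subgroup.mem_normalizer_iff]
  intro x
  constructor
  · exact hconj g hg x
  · intro hx
    have := hconj g⁻¹ (K.inv_mem hg) _ hx
    simpa [mul_assoc] using this

/-- A solvable subgroup normal in a subnormal subgroup lies in any subgroup containing all
solvable normal subgroups. -/
theorem IsSubnormal.le_of_isSolvable_aux [Finite G] {S : Subgroup G} (hS : S.IsSubnormal)
    {M : Subgroup G}
    (hMbig : ∀ N : Subgroup G, N.Normal → Group.IsSolvable N → N ≤ M) :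
    ∀ N : Subgroup G, N ≤ S → S ≤ Subgroup.normalizer (N : Set G) →
      Group.IsSolvable N → N ≤ M := by
  induction hS with
  | top =>
    intro N _ hN hNs
    exact hMbig N (Subgroup.normalizer_eq_top_iff.1 (top_le_iff.1 hN)) hNs
  | step H K h_le hSubn hN ih =>
    intro N hNH hHN hNs
    rw [Subgroup.normal_subgroupOf_iff_le_normalizer h_le] at hN
    obtain ⟨MH, hMH1, hMH2, hMH3, hMH4⟩ := exists_solvable_radical' H K hN
    exact (hMH4 N hNH hHN hNs).trans (ih MH (hMH1.trans h_le) hMH2 hMH3)

/-- A subnormal solvable subgroup lies in any normal subgroup containing all solvable normal subgroups. -/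
theorem IsSubnormal.le_of_isSolvable [Finite G] {S : Subgroup G} (hS : S.IsSubnormal)
    (hsolv : Group.IsSolvable S) {M : Subgroup G}
    (hMbig : ∀ N : Subgroup G, N.Normal → Group.IsSolvable N → N ≤ M) : S ≤ M :=
  IsSubnormal.le_of_isSolvable_aux hS hMbig S le_rfl Subgroup.le_normalizer hsolv

/-- A conjugate of a component is a component. -/
theorem IsComponent.map_conj {L : Subgroup G} (hL : IsComponent L) (g : G) :
    IsComponent (L.map (MulAut.conj g).toMonoidHom) := by
  refine ⟨hL.1.map (MulAut.conj g).surjective, ?_⟩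
  exact IsQuasisimple.of_mulEquiv
    (L.equivMapOfInjective (MulAut.conj g).toMonoidHom (MulAut.conj g).injective) hL.2

instance layer_normal : (layer G).Normal := by
  constructor
  intro n hn g
  have h1 : (layer G).map (MulAut.conj g).toMonoidHom ≤ layer G := by
    rw [layer_eq_iSup, Subgroup.map_iSup]
    apply iSup_le
    intro L
    exact le_iSup_of_le ⟨_, IsComponent.map_conj L.2 g⟩ le_rfl
  exact h1 ⟨n, hn, rfl⟩

instance generalizedFittingSubgroup_normal : (generalizedFittingSubgroup G).Normal := by
  unfold generalizedFittingSubgroup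
  exact Subgroup.sup_normal _ _

theorem layer_le_generalizedFittingSubgroup : layer G ≤ generalizedFittingSubgroup G := le_sup_left

theorem fittingSubgroup_le_generalizedFittingSubgroup :
    fittingSubgroup G ≤ generalizedFittingSubgroup G := le_sup_right

/-- `C_G(F*(G)) ≤ F*(G)`. -/
theorem centralizer_generalizedFittingSubgroup_le [Finite G] :
    Subgroup.centralizer (generalizedFittingSubgroup G : Set G) ≤ generalizedFittingSubgroup G := by
  classical
  by_contra hcon
  set Fs := generalizedFittingSubgroup G with hFs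
  set C := Subgroup.centralizer (Fs : Set G) with hC
  have hCn : C.Normal := by rw [hC]; infer_instance
  -- commuting
  have hcomm : ∀ c ∈ C, ∀ z ∈ Fs, z * c = c * z := fun c hc z hz =>
    Subgroup.mem_centralizer_iff.1 hc z hz
  set 𝒯 : Set (Subgroup G) := {S | S.IsSubnormal ∧ S ≤ C ∧ ¬ S ≤ Fs} with h𝒯
  have hfin : 𝒯.Finite := Set.toFinite _
  have hne : 𝒯.Nonempty := ⟨C, hCn.isSubnormal, le_rfl, hcon⟩
  obtain ⟨S, hS, hmin⟩ := Set.exists_min_image 𝒯 (fun S => Nat.card S) hfin hne
  obtain ⟨hSsn, hSC, hSF⟩ := hS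
  -- proper subnormal subgroups of S are in Fs
  have hprop : ∀ T : Subgroup G, T.IsSubnormal → T ≤ S → T ≠ S → T ≤ Fs := by
    intro T hT hTS hne
    by_contra hTF
    have h1 := hmin T ⟨hT, hTS.trans hSC, hTF⟩
    exact hne (Subgroup.eq_of_le_of_card_ge hTS h1)
  -- S is not solvable
  have hSns : ¬ Group.IsSolvable S := by
    intro hsolv
    obtain ⟨R, -, hRn, hRs, hRbig⟩ := exists_solvable_radical (⊤ : Subgroup G)
    have hSR : S ≤ R := IsSubnormal.le_of_isSolvable hSsn hsolv
      (fun N hN hNs => hRbig N le_top (by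
        rw [Subgroup.normalizer_eq_top_iff.2 hN]) hNs)
    have hRC : (R ⊓ C).Normal := Subgroup.normal_inf_normal R C
    have hRCs : Group.IsSolvable ↥(R ⊓ C) := by
      haveI := hRs
      exact Group.isSolvable_of_isSolvable_injective (f := Subgroup.inclusion inf_le_left)
        (Subgroup.inclusion_injective inf_le_left)
    have hRCF : R ⊓ C ≤ fittingSubgroup G := by
      apply le_fittingSubgroup_of_isSolvable_of_le_centralizer (Nat.card ↥(R ⊓ C)) _ le_rfl hRC hRCs
      refine inf_le_right.trans ?_
      exact Subgroup.centralizer_le (by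
        intro x hx
        exact fittingSubgroup_le_generalizedFittingSubgroup hx)
    exact hSF ((le_inf hSR hSC).trans (hRCF.trans fittingSubgroup_le_generalizedFittingSubgroup))
  -- ⁅S,S⁆ is subnormal
  have hDsn : (⁅S, S⁆).IsSubnormal := by
    apply Subgroup.IsSubnormal.step _ S (commutator_self_le S) hSsn
    rw [Subgroup.normal_subgroupOf_iff_le_normalizer (commutator_self_le S)]
    intro s hs
    apply mem_normalizer_of_map_conj_eq
    rw [Subgroup.map_commutator, map_conj_eq_of_mem_normalizer (Subgroup.le_normalizer hs)]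
  -- S is perfect
  have hperf : ⁅S, S⁆ = S := by
    by_contra hne
    have h1 : ⁅S, S⁆ ≤ Fs := hprop _ hDsn (commutator_self_le S) hne
    apply hSns
    have h3 : ⁅⁅S, S⁆, S⁆ = ⊥ := by
      rw [eq_bot_iff, Subgroup.commutator_le]
      intro d hd a ha
      rw [Subgroup.mem_bot, commutatorElement_eq_one_iff_commute]
      exact hcomm a (hSC ha) d (h1 hd)
    haveI := isNilpotent_of_commutator_commutator_eq_bot h3
    infer_instance
  have hSbot : S ≠ ⊥ := by
    intro h
    apply hSF
    rw [h]; exact bot_le
  -- S is quasisimple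
  have hq : IsQuasisimple S := by
    refine ⟨Subgroup.isPerfect_iff.2 hperf, ?_⟩
    haveI : Nontrivial S := (Subgroup.nontrivial_iff_ne_bot S).2 hSbot
    haveI : Group.IsPerfect S := Subgroup.isPerfect_iff.2 hperf
    refine { toNontrivial := ?_, eq_bot_or_eq_top_of_normal := ?_ }
    · -- nontrivial quotient
      by_contra hnt
      rw [not_nontrivial_iff_subsingleton] at hnt
      have : Subgroup.center S = ⊤ := by
        rw [eq_top_iff]
        intro s _
        have : (QuotientGroup.mk' (Subgroup.center S)) s = 1 := Subsingleton.elim _ _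
        rwa [QuotientGroup.mk'_apply, QuotientGroup.eq_one_iff] at this
      rw [Subgroup.center_eq_top_iff] at this
      exact Group.IsPerfect.not_isMulCommutative S this
    · intro Hbar hHbar
      set N : Subgroup S := Hbar.comap (QuotientGroup.mk' (Subgroup.center S)) with hN
      have hNn : N.Normal := hHbar.comap _
      have hHN : Hbar = N.map (QuotientGroup.mk' (Subgroup.center S)) := by
        rw [hN, Subgroup.map_comap_eq_self_of_surjective (QuotientGroup.mk'_surjective _)]
      have hN'sn : (N.map S.subtype).IsSubnormal := hNn.isSubnormal.trans' hSsn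
      have hN'S : N.map S.subtype ≤ S := Subgroup.map_subtype_le N
      by_cases hcase : N.map S.subtype = S
      · right
        have : N = ⊤ := by
          rw [eq_top_iff]
          intro s _
          have hs : (s : G) ∈ N.map S.subtype := by rw [hcase]; exact s.2
          obtain ⟨t, ht, hts⟩ := hs
          have : t = s := Subtype.ext hts
          rwa [← this]
        rw [hHN, this, Subgroup.map_top_of_surjective _ (QuotientGroup.mk'_surjective _)]
      · left
        have h1 : N.map S.subtype ≤ Fs := hprop _ hN'sn hN'S hcase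
        have h2 : N ≤ Subgroup.center S := by
          intro n hn
          rw [Subgroup.mem_center_iff]
          intro s
          apply Subtype.ext
          have := hcomm s (hSC s.2) n (h1 ⟨n, hn, rfl⟩)
          simpa using this.symm
        rw [hHN, eq_bot_iff]
        rintro _ ⟨n, hn, rfl⟩
        rw [Subgroup.mem_bot, QuotientGroup.mk'_apply, QuotientGroup.eq_one_iff]
        exact h2 hn
  exact hSF ((IsComponent.le_layer ⟨hSsn, hq⟩).trans layer_le_generalizedFittingSubgroup)

end Cfsg.Agent.Helper21
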