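import Mathlib
import Cfsg.Prelude.Def_CaseTheorems

set_option autoImplicit false
set_option linter.style.haveILetI false
set_option linter.unusedSectionVars false
set_option linter.unusedVariables false

/-!
`p`-rank of subgroups in ambient terms (helper21).
-/

namespace Cfsg.Agent.Helper21

open Cfsg

variable {G : Type*} [Group G]

/-- `X` contains an elementary abelian `p`-subgroup of order `> p ^ n` -/
def HasEA (p n : ℕ) (X : Subgroup G) : Prop :=
  ∃ E : Subgroup G, E ≤ X ∧ (∀ a ∈ E, ∀ b ∈ E, a * b = b * a) ∧ (∀ a ∈ E, a ^ p = 1) ∧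
    p ^ n < Nat.card E

theorem not_prankLE_iff {p n : ℕ} (X : Subgroup G) : ¬ PRankLE p n ↥X ↔ HasEA p n X := by
  unfold PRankLE HasEA
  push Not
  constructor
  · rintro ⟨A, hAc, hAe, hA⟩
    refine ⟨A.map X.subtype, ?_, ?_, ?_, ?_⟩
    · rintro _ ⟨a, -, rfl⟩
      exact a.2
    · rintro _ ⟨a, ha, rfl⟩ _ ⟨b, hb, rfl⟩
      have := hAc.is_comm.comm ⟨a, ha⟩ ⟨b, hb⟩
      have h2 : a * b = b * a := congrArg Subtype.val this
      rw [← map_mul, ← map_mul, h2]
    · rintro _ ⟨a, ha, rfl⟩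
      rw [← map_pow, hAe a ha, map_one]
    · rw [Subgroup.card_map_of_injective X.subtype_injective]
      exact hA
  · rintro ⟨E, hEX, hEc, hEe, hE⟩
    refine ⟨E.subgroupOf X, ?_, ?_, ?_⟩
    · refine ⟨⟨fun a b => ?_⟩⟩
      apply Subtype.ext
      apply Subtype.ext
      exact hEc _ (Subgroup.mem_subgroupOf.1 a.2) _ (Subgroup.mem_subgroupOf.1 b.2)
    · intro a ha
      apply Subtype.ext
      have := hEe _ (Subgroup.mem_subgroupOf.1 ha)
      simpa using this
    · rw [Nat.card_congr (Subgroup.subgroupOfEquivOfLe hEX).toEquiv]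
      exact hE

theorem HasEA.mono {p n : ℕ} {X Y : Subgroup G} (h : HasEA p n X) (hXY : X ≤ Y) : HasEA p n Y := by
  obtain ⟨E, hEX, h1, h2, h3⟩ := h
  exact ⟨E, hEX.trans hXY, h1, h2, h3⟩

theorem HasEA.map_conj {p n : ℕ} {X : Subgroup G} (h : HasEA p n X) (g : G) :
    HasEA p n (X.map (MulAut.conj g).toMonoidHom) := by
  obtain ⟨E, hEX, h1, h2, h3⟩ := h
  refine ⟨E.map (MulAut.conj g).toMonoidHom, Subgroup.map_mono hEX, ?_, ?_, ?_⟩
  · rintro _ ⟨a, ha, rfl⟩ _ ⟨b, hb, rfl⟩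
    rw [← map_mul, ← map_mul, h1 a ha b hb]
  · rintro _ ⟨a, ha, rfl⟩
    rw [← map_pow, h2 a ha, map_one]
  · rw [Subgroup.card_map_of_injective (MulAut.conj g).injective]
    exact h3

theorem mem_map_conj_iff (X : Subgroup G) (g x : G) :
    x ∈ X.map (MulAut.conj g).toMonoidHom ↔ g⁻¹ * x * g ∈ X := by
  rw [Subgroup.mem_map]
  constructor
  · rintro ⟨y, hy, rfl⟩
    simp only [MulEquiv.coe_toMonoidHom, MulAut.conj_apply]
    have : g⁻¹ * (g * y * g⁻¹) * g = y := by group
    rw [this]; exact hy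
  · intro h
    refine ⟨g⁻¹ * x * g, h, ?_⟩
    simp only [MulEquiv.coe_toMonoidHom, MulAut.conj_apply]
    group

theorem map_conj_map_conj_inv (X : Subgroup G) (g : G) :
    (X.map (MulAut.conj g⁻¹).toMonoidHom).map (MulAut.conj g).toMonoidHom = X := by
  ext x
  rw [mem_map_conj_iff, mem_map_conj_iff, inv_inv]
  have : g * (g⁻¹ * x * g) * g⁻¹ = x := by group
  rw [this]

theorem normalizer_map_conj (X : Subgroup G) (g : G) :
    Subgroup.normalizer ((X.map (MulAut.conj g).toMonoidHom : Subgroup G) : Set G) =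
      (Subgroup.normalizer (X : Set G)).map (MulAut.conj g).toMonoidHom :=
  (Subgroup.map_equiv_normalizer_eq X (MulAut.conj g)).symm

end Cfsg.Agent.Helper21
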