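import Mathlib
import Cfsg.Prelude.Def_LocalStructure
import Cfsg.Agent.Helper47.Large
import Cfsg.Agent.Helper47.WeaklyClosed2
import Cfsg.Agent.Helper46.SylowIn
import Cfsg.Agent.Helper46.CharP
import Cfsg.Agent.Helper22.Conj
import Cfsg.Agent.Lib.Nilpotent

set_option autoImplicit false

/-!
Large `p`-subgroups (helper21): a large `p`-subgroup is weakly closed; for `Q ≤ L` with
`O_p(L) ≠ 1`, `C_H(O_p(L))` is a `p`-group normalizing `Q` and `L` has characteristic `p`.
-/

namespace Cfsg.Agent.Helper21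

open Cfsg Cfsg.Agent.Helper48 Cfsg.Agent.Helper47 Cfsg.Agent.Helper51 Cfsg.Agent.Helper46

variable {H : Type*} [Group H]

theorem le_normalizer_inf_of_le {A B C : Subgroup H}
    (hA : C ≤ Subgroup.normalizer (A : Set H)) (hB : C ≤ Subgroup.normalizer (B : Set H)) :
    C ≤ Subgroup.normalizer ((A ⊓ B : Subgroup H) : Set H) := by
  intro x hx
  rw [Subgroup.mem_normalizer_iff]
  intro g
  simp only [Subgroup.mem_inf]
  rw [← Subgroup.mem_normalizer_iff.1 (hA hx) g, ← Subgroup.mem_normalizer_iff.1 (hB hx) g]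

variable [Finite H] {p : ℕ} [Fact p.Prime]

/-- A `p`-group `Q` normalizing a nontrivial `p`-group `P` centralizes a nontrivial subgroup of `P`. -/
theorem inf_centralizer_ne_bot_of_le_normalizer {Q P : Subgroup H} (hQ : IsPGroup p Q)
    (hP : IsPGroup p P) (hQP : Q ≤ Subgroup.normalizer (P : Set H)) (hP1 : P ≠ ⊥) :
    P ⊓ Subgroup.centralizer (Q : Set H) ≠ ⊥ := by
  have hS : IsPGroup p ↥(Q ⊔ P) := hQ.to_sup_of_normal_right' hP hQP
  haveI : Group.IsNilpotent ↥(Q ⊔ P) := hS.isNilpotent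
  have hSP : Q ⊔ P ≤ Subgroup.normalizer (P : Set H) := sup_le hQP Subgroup.le_normalizer
  haveI : (P.subgroupOf (Q ⊔ P)).Normal :=
    (Subgroup.normal_subgroupOf_iff_le_normalizer le_sup_right).2 hSP
  have hne : P.subgroupOf (Q ⊔ P) ≠ ⊥ := by
    intro h
    rw [Subgroup.subgroupOf_eq_bot, disjoint_iff, inf_of_le_left le_sup_right] at h
    exact hP1 h
  have h1 := Cfsg.Agent.Lib.normal_inf_center_ne_bot (P.subgroupOf (Q ⊔ P)) hne
  obtain ⟨⟨z, hz⟩, hz1⟩ := (Subgroup.ne_bot_iff_exists_ne_one).1 h1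
  intro hbot
  apply hz1
  have hzP : (z : H) ∈ P := Subgroup.mem_subgroupOf.1 (Subgroup.mem_inf.1 hz).1
  have hzc : (z : H) ∈ Subgroup.centralizer (Q : Set H) := by
    rw [Subgroup.mem_centralizer_iff]
    intro q hq
    have := Subgroup.mem_center_iff.1 (Subgroup.mem_inf.1 hz).2 ⟨q, Subgroup.mem_sup_left hq⟩
    exact congrArg Subtype.val this
  have : (z : H) ∈ P ⊓ Subgroup.centralizer (Q : Set H) := Subgroup.mem_inf.2 ⟨hzP, hzc⟩
  rw [hbot, Subgroup.mem_bot] at this
  exact Subtype.ext (Subtype.ext this)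

/-- A subgroup without nontrivial `p'`-elements is a `p`-group. -/
theorem isPGroup_of_no_p'_elements {C : Subgroup H}
    (htriv : ∀ x ∈ C, (orderOf x).Coprime p → x = 1) : IsPGroup p C := by
  have hcard : Nat.card C = p ^ (Nat.card C).primeFactorsList.length := by
    apply Nat.eq_prime_pow_of_unique_prime_dvd Nat.card_pos.ne'
    intro d hd hdvd
    by_contra hne
    haveI := Fact.mk hd
    obtain ⟨x, hx⟩ := exists_prime_orderOf_dvd_card' d hdvd
    have h1 : (x : H) = 1 := htriv x x.2 (by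
      rw [Subgroup.orderOf_coe, hx]
      exact (Nat.coprime_primes hd Fact.out).2 hne)
    have h2 : x = 1 := Subtype.ext h1
    rw [h2, orderOf_one] at hx
    exact hd.one_lt.ne' hx.symm
  exact IsPGroup.of_card hcard

/-- If `K` normalizes `D` then `K` normalizes `O_p(D)`. -/
theorem le_normalizer_pCoreOf {K D : Subgroup H} (h : K ≤ Subgroup.normalizer (D : Set H)) :
    K ≤ Subgroup.normalizer ((pCoreOf p D : Subgroup H) : Set H) := by
  intro k hk
  apply mem_normalizer_of_conjSub_le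
  have hD : conjSub k D = D := conjSub_eq_self_iff.2 (h hk)
  apply le_pCoreOf
  · exact (Subgroup.map_mono (pCoreOf_le D)).trans hD.le
  · exact isPGroup_conjSub (pCoreOf_isPGroup D)
  · have h1 := pCoreOf_normalized (p := p) D
    have h2 : conjSub k D ≤ conjSub k (Subgroup.normalizer ((pCoreOf p D : Subgroup H) : Set H)) :=
      Subgroup.map_mono h1
    rw [hD, ← normalizer_conjSub] at h2
    exact h2

/-- A nontrivial large `p`-subgroup is a weakly closed subgroup. -/
theorem isWeaklyClosedSubgroup_of_isLarge {Q : Subgroup H} (hQp : IsPGroup p Q) (hQ1 : Q ≠ ⊥)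
    (hL : IsLarge Q) : IsWeaklyClosedSubgroup p Q := by
  obtain ⟨T, hQT⟩ := hQp.exists_le_sylow
  refine ⟨T, hQT, fun g hg => ?_⟩
  have hT1 : (T : Subgroup H) ≠ ⊥ := fun h => hQ1 (le_bot_iff.mp (h ▸ hQT))
  have hZ1 := inf_centralizer_ne_bot T.2 hT1
  show conjSub g Q = Q
  rw [conjSub_eq_self_iff]
  apply mem_normalizer_of_large hQp hQ1 hL
  intro hbot
  apply hZ1
  rw [eq_bot_iff, ← hbot]
  exact le_inf (inf_le_right.trans (Subgroup.centralizer_le (SetLike.coe_subset_coe.2 hQT)))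
    (inf_le_right.trans (Subgroup.centralizer_le (SetLike.coe_subset_coe.2 hg)))

/-- For a large `p`-subgroup `Q` and a nontrivial `p`-subgroup `Y` normalized by `Q`:
`C_H(Y) ≤ N_H(Q)`. -/
theorem IsLarge.centralizer_le_normalizer {Q : Subgroup H} (hQp : IsPGroup p Q) (hL : IsLarge Q)
    {Y : Subgroup H} (hYp : IsPGroup p Y) (hY1 : Y ≠ ⊥)
    (hQY : Q ≤ Subgroup.normalizer (Y : Set H)) :
    Subgroup.centralizer (Y : Set H) ≤ Subgroup.normalizer (Q : Set H) := by
  have hU := inf_centralizer_ne_bot_of_le_normalizer hQp hYp hQY hY1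
  refine le_trans ?_ (hL.2 _ inf_le_right hU)
  exact (Subgroup.centralizer_le (SetLike.coe_subset_coe.2 inf_le_left)).trans
    (Subgroup.centralizer_le_normalizer _)

section pcore

variable {Q L : Subgroup H}

/-- For large `Q ≤ L` with `O_p(L) ≠ 1`: `Q ∩ C_H(O_p(L)) ≤ O_p(L)`. -/
theorem IsLarge.inf_centralizer_pCoreOf_le (hQp : IsPGroup p Q) (hL : IsLarge Q) (hQL : Q ≤ L)
    (hP1 : pCoreOf p L ≠ ⊥) :
    Q ⊓ Subgroup.centralizer ((pCoreOf p L : Subgroup H) : Set H) ≤ pCoreOf p L := by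
  set P := pCoreOf p L with hP
  set C := Subgroup.centralizer (P : Set H) with hC
  have hPp : IsPGroup p P := pCoreOf_isPGroup L
  have hLP : L ≤ Subgroup.normalizer (P : Set H) := pCoreOf_normalized L
  have hCQ : C ≤ Subgroup.normalizer (Q : Set H) :=
    IsLarge.centralizer_le_normalizer hQp hL hPp hP1 (hQL.trans hLP)
  have hLC : L ≤ Subgroup.normalizer (C : Set H) :=
    hLP.trans (Cfsg.Agent.Helper22.normalizer_le_normalizer_centralizer P)
  -- M = C ⊓ L
  have hLM : L ≤ Subgroup.normalizer ((C ⊓ L : Subgroup H) : Set H) :=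
    le_normalizer_inf_of_le hLC Subgroup.le_normalizer
  have hMQ : C ⊓ L ≤ Subgroup.normalizer (Q : Set H) := inf_le_left.trans hCQ
  have hX : Q ⊓ C ≤ pCoreOf p (C ⊓ L) := by
    apply le_pCoreOf
    · exact le_inf inf_le_right (inf_le_left.trans hQL)
    · exact hQp.to_le inf_le_left
    · have h1 : C ⊓ L ≤ Subgroup.normalizer ((Q ⊓ (C ⊓ L) : Subgroup H) : Set H) :=
        le_normalizer_inf_of_le hMQ Subgroup.le_normalizer
      have h2 : Q ⊓ (C ⊓ L) = Q ⊓ C := by
        apply le_antisymm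
        · exact le_inf inf_le_left (inf_le_right.trans inf_le_left)
        · exact le_inf inf_le_left (le_inf inf_le_right (inf_le_left.trans hQL))
      rwa [h2] at h1
  refine hX.trans ?_
  apply le_pCoreOf
  · exact (pCoreOf_le _).trans inf_le_right
  · exact pCoreOf_isPGroup _
  · exact le_normalizer_pCoreOf hLM

/-- For large `Q ≤ L` with `O_p(L) ≠ 1`: `C_H(O_p(L))` is a `p`-group. -/
theorem IsLarge.isPGroup_centralizer_pCoreOf (hQp : IsPGroup p Q) (hL : IsLarge Q) (hQL : Q ≤ L)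
    (hP1 : pCoreOf p L ≠ ⊥) :
    IsPGroup p ↥(Subgroup.centralizer ((pCoreOf p L : Subgroup H) : Set H)) := by
  have hPp : IsPGroup p (pCoreOf p L) := pCoreOf_isPGroup L
  have hLP : L ≤ Subgroup.normalizer ((pCoreOf p L : Subgroup H) : Set H) := pCoreOf_normalized L
  have hCQ := IsLarge.centralizer_le_normalizer hQp hL hPp hP1 (hQL.trans hLP)
  have hQC := IsLarge.inf_centralizer_pCoreOf_le hQp hL hQL hP1
  apply isPGroup_of_no_p'_elements
  intro x hx hxp
  have hxQ : x ∈ Subgroup.centralizer (Q : Set H) := by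
    rw [Subgroup.mem_centralizer_iff]
    intro q hq
    have hmem : q⁻¹ * (x * q * x⁻¹) ∈ pCoreOf p L := by
      apply hQC
      refine Subgroup.mem_inf.2 ⟨?_, ?_⟩
      · exact Q.mul_mem (Q.inv_mem hq) ((Subgroup.mem_normalizer_iff.1 (hCQ hx) q).1 hq)
      · have h1 : q⁻¹ * x * q ∈ Subgroup.centralizer ((pCoreOf p L : Subgroup H) : Set H) := by
          have := conj_mem_centralizer_of_mem_normalizer
            (Subgroup.inv_mem _ (hLP (hQL hq))) hx
          simpa using this
        have h2 : q⁻¹ * (x * q * x⁻¹) = (q⁻¹ * x * q) * x⁻¹ := by group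
        rw [h2]
        exact Subgroup.mul_mem _ h1 (Subgroup.inv_mem _ hx)
    have := centralizes_of_stab hPp hxp hmem hx
    calc q * x = (x * q * x⁻¹) * x := by rw [this]
      _ = x * q := by group
  exact eq_one_of_mem_pgroup_of_coprime hQp (hL.1 hxQ) hxp

/-- For large `Q ≤ L` with `O_p(L) ≠ 1`: `L` has characteristic `p`. -/
theorem IsLarge.inf_centralizer_pCoreOf_le' (hQp : IsPGroup p Q) (hL : IsLarge Q) (hQL : Q ≤ L)
    (hP1 : pCoreOf p L ≠ ⊥) :
    L ⊓ Subgroup.centralizer ((pCoreOf p L : Subgroup H) : Set H) ≤ pCoreOf p L := by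
  have hLP : L ≤ Subgroup.normalizer ((pCoreOf p L : Subgroup H) : Set H) := pCoreOf_normalized L
  apply le_pCoreOf inf_le_left
  · exact (IsLarge.isPGroup_centralizer_pCoreOf hQp hL hQL hP1).to_le inf_le_right
  · exact le_normalizer_inf_of_le Subgroup.le_normalizer
      (hLP.trans (Cfsg.Agent.Helper22.normalizer_le_normalizer_centralizer _))

/-- For large `Q` and parabolic `R` with `O_p(R) ≠ 1`: `C_H(O_p(R)) ≤ O_p(R)`. -/
theorem IsLarge.centralizer_pCoreOf_le_of_isParabolic (hQp : IsPGroup p Q) (hQ1 : Q ≠ ⊥)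
    (hL : IsLarge Q) {R : Subgroup H} (hR : IsParabolic p R) (hP1 : pCoreOf p R ≠ ⊥) :
    Subgroup.centralizer ((pCoreOf p R : Subgroup H) : Set H) ≤ pCoreOf p R := by
  obtain ⟨T, hTR⟩ := hR
  obtain ⟨T', hQT'⟩ := hQp.exists_le_sylow
  obtain ⟨g, hg⟩ := MulAction.exists_smul_eq H T' T
  have hgT : conjSub g (T' : Subgroup H) = (T : Subgroup H) := by
    rw [← hg, coe_smul_sylow]
  have hQ'R : conjSub g Q ≤ R := by
    refine le_trans ?_ hTR
    rw [← hgT]; exact Subgroup.map_mono hQT'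
  have hQ'p : IsPGroup p (conjSub g Q) := isPGroup_conjSub hQp
  have hL' : IsLarge (conjSub g Q) := isLarge_conj hL g
  have hCp := IsLarge.isPGroup_centralizer_pCoreOf hQ'p hL' hQ'R hP1
  have hchar := IsLarge.inf_centralizer_pCoreOf_le' hQ'p hL' hQ'R hP1
  have hRP : R ≤ Subgroup.normalizer ((pCoreOf p R : Subgroup H) : Set H) := pCoreOf_normalized R
  have hTC : (T : Subgroup H) ≤ Subgroup.normalizer
      ((Subgroup.centralizer ((pCoreOf p R : Subgroup H) : Set H) : Subgroup H) : Set H) :=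
    hTR.trans (hRP.trans (Cfsg.Agent.Helper22.normalizer_le_normalizer_centralizer _))
  have hsup : IsPGroup p ↥((T : Subgroup H) ⊔
      Subgroup.centralizer ((pCoreOf p R : Subgroup H) : Set H)) :=
    T.2.to_sup_of_normal_right' hCp hTC
  have heq := T.is_maximal' hsup le_sup_left
  have hCT : Subgroup.centralizer ((pCoreOf p R : Subgroup H) : Set H) ≤ (T : Subgroup H) := by
    rw [← heq]; exact le_sup_right
  exact (le_inf (hCT.trans hTR) le_rfl).trans hchar

end pcore

end Cfsg.Agent.Helper21
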