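import Mathlib
import Cfsg.Agent.Helper48.CoprimeGen

set_option autoImplicit false

/-!
# Ward's theorem (S3796): statements of the three big pieces, as `Prop`-valued definitions

`A ≅ C_p × C_p` acting fixed-point-freely on a finite solvable group `G` forces `G` to be
metanilpotent.  Everything is phrased inside one ambient finite group `H` (think `H = G ⋊ A`),
conjugation being `g * v * g⁻¹`.

* `LemmaCStmt`     : the tower lemma `V S R` (core of the proof; helper21 writes it).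
* `T1Stmt`         : `G / C_G(V)` is nilpotent for a minimal normal subgroup `V ≤ G` of `H`.
* `WardAmbientStmt`: the ambient form of Ward's theorem.
-/

namespace Cfsg.Agent.Helper21.Ward

open Subgroup

/-- **Tower lemma.**  `A` elementary abelian of order `p²`, `a ∈ A#`; `V, S, R` are `A`-invariant,
`S` and `R` normalize `V`, `R` normalizes `S`; `V` abelian of order prime to `s p`, `S` an
`s`-group (`s ≠ p`), `p ∤ |R|`; (C1) `R ≤ C(a)`; (C2) `C_R(x) = 1` for `x ∈ A ∖ ⟨a⟩`;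
(C3) `[C_S(a), R] = 1`; (C4) `[C_V(x), C_S(x)] = 1` for all `x ∈ A#`; (C5) `C_S(A) = 1`.
Then `[S, R]` centralizes `V`. -/
def LemmaCStmt.{u} : Prop :=
  ∀ (H : Type u) [Group H] [Finite H] (p s : ℕ) [Fact p.Prime] [Fact s.Prime]
    (A V S R : Subgroup H) (a : H),
    Helper48.IsEA2 p A → a ∈ A → a ≠ 1 →
    A ≤ normalizer (V : Set H) → A ≤ normalizer (S : Set H) → A ≤ normalizer (R : Set H) →
    S ≤ normalizer (V : Set H) → R ≤ normalizer (V : Set H) → R ≤ normalizer (S : Set H) →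
    (∀ u ∈ V, ∀ v ∈ V, u * v = v * u) → (Nat.card V).Coprime s → (Nat.card V).Coprime p →
    IsPGroup s S → p ≠ s → ¬ p ∣ Nat.card R →
    R ≤ centralizer {a} →
    (∀ x ∈ A, x ∉ zpowers a → R ⊓ centralizer {x} = ⊥) →
    S ⊓ centralizer {a} ≤ centralizer (R : Set H) →
    (∀ x ∈ A, x ≠ 1 →
      S ⊓ centralizer {x} ≤ centralizer ((V ⊓ centralizer {x} : Subgroup H) : Set H)) →
    S ⊓ centralizer (A : Set H) = ⊥ →
    ⁅S, R⁆ ≤ centralizer (V : Set H)

/-- **Chief factor step.**  `H = G A`, `G ⊴ H` solvable `p'`-group, `C_G(A) = 1`, `V ≤ G` a minimal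
normal subgroup of `H`, `V ≤ N ≤ G` with `N ⊴ H`, `N / V` and `G / N` nilpotent.  Then `G / C_G(V)`
is nilpotent. -/
def T1Stmt.{u} : Prop :=
  ∀ (H : Type u) [Group H] [Finite H] (p : ℕ) [Fact p.Prime] (G A V N : Subgroup H) (k : ℕ),
    Helper48.IsEA2 p A → G.Normal → G ⊔ A = ⊤ → Group.IsSolvable G → ¬ p ∣ Nat.card G →
    G ⊓ centralizer (A : Set H) = ⊥ →
    V.Normal → V ≤ G → V ≠ ⊥ → (∀ U : Subgroup H, U.Normal → U ≤ V → U = ⊥ ∨ U = V) →
    N.Normal → V ≤ N → N ≤ G → N.lowerCentralSeries k ≤ V → G.lowerCentralSeries k ≤ N →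
    ∃ m : ℕ, G.lowerCentralSeries m ≤ centralizer (V : Set H)

/-- **Ward's theorem, ambient form.** -/
def WardAmbientStmt.{u} : Prop :=
  ∀ (H : Type u) [Group H] [Finite H] (p : ℕ) [Fact p.Prime] (G A : Subgroup H),
    Helper48.IsEA2 p A → G.Normal → G ⊔ A = ⊤ → Group.IsSolvable G → ¬ p ∣ Nat.card G →
    G ⊓ centralizer (A : Set H) = ⊥ →
    ∃ N : Subgroup H, N.Normal ∧ N ≤ G ∧ (∃ k : ℕ, N.lowerCentralSeries k = ⊥) ∧
      ∃ k : ℕ, G.lowerCentralSeries k ≤ N

end Cfsg.Agent.Helper21.Ward
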