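import Mathlib
import Cfsg.Agent.Helper96.SLPresDefs

/-!
# `exists_borel` (helper21, WANTED #3224 (A) for helper96 / S2286)

From the relations `u^p = 1`, `[u_i, u_j] = 1`, `m(h)·u = 1` (where `m` is the minimal polynomial of
`lam` over `𝔽_p` and `F = 𝔽_p[lam]`) we build the "root subgroup" homomorphism `x : (F,+) → D`
with `x 1 = u` and `h x(a) h⁻¹ = x(lam a)`.
-/

set_option autoImplicit false

namespace Cfsg.Agent.Helper96.SLPres

open Polynomial

section Aux

variable {D : Type*} [Group D] (h u : D)

/-- the subgroup generated by the `u_i` -/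
def borelA : Subgroup D := Subgroup.closure (Set.range (uz h u))

theorem uz_mem_borelA (i : ℤ) : uz h u i ∈ borelA h u :=
  Subgroup.subset_closure ⟨i, rfl⟩

theorem conj_mem_borelA {x : D} (hx : x ∈ borelA h u) : h * x * h⁻¹ ∈ borelA h u := by
  have hle : borelA h u ≤ (borelA h u).comap (MulAut.conj h).toMonoidHom := by
    unfold borelA
    rw [Subgroup.closure_le]
    rintro _ ⟨i, rfl⟩
    show h * uz h u i * h⁻¹ ∈ Subgroup.closure (Set.range (uz h u))
    rw [uz_succ]
    exact Subgroup.subset_closure ⟨i + 1, rfl⟩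
  exact hle hx

variable {h u}

theorem borelA_comm (hcomm : ∀ i j : ℤ, Commute (uz h u i) (uz h u j)) :
    ∀ x ∈ Set.range (uz h u), ∀ y ∈ Set.range (uz h u), x * y = y * x := by
  rintro _ ⟨i, rfl⟩ _ ⟨j, rfl⟩
  exact hcomm i j

theorem borelA_commute (hcomm : ∀ i j : ℤ, Commute (uz h u i) (uz h u j)) {x y : D}
    (hx : x ∈ borelA h u) (hy : y ∈ borelA h u) : Commute x y := by
  have hc : IsMulCommutative (Subgroup.closure (Set.range (uz h u))) :=
    Subgroup.isMulCommutative_closure (borelA_comm hcomm)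
  have := hc.is_comm.comm (⟨x, hx⟩ : Subgroup.closure (Set.range (uz h u))) ⟨y, hy⟩
  exact congrArg Subtype.val this

theorem borelA_pow {p : ℕ} (hu : u ^ p = 1) (hcomm : ∀ i j : ℤ, Commute (uz h u i) (uz h u j))
    {x : D} (hx : x ∈ borelA h u) : x ^ p = 1 := by
  unfold borelA at hx
  induction hx using Subgroup.closure_induction with
  | mem x hx =>
    obtain ⟨i, rfl⟩ := hx
    rw [uz_pow, hu]; simp
  | one => simp
  | mul x y hx hy ihx ihy =>
    rw [(borelA_commute hcomm hx hy).mul_pow, ihx, ihy, one_mul]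
  | inv x hx ihx => rw [inv_pow, ihx, inv_one]

/-- the commutative group structure on `borelA h u` -/
@[reducible] def borelACommGroup (hcomm : ∀ i j : ℤ, Commute (uz h u i) (uz h u j)) :
    CommGroup (borelA h u) :=
  { (inferInstance : Group (borelA h u)) with
    mul_comm := fun a b => Subtype.ext (borelA_commute hcomm a.2 b.2) }

/-- conjugation by `h` as an endomorphism of `borelA h u` -/
def borelConj (h u : D) : borelA h u →* borelA h u :=
  ((MulAut.conj h).toMonoidHom.comp (borelA h u).subtype).codRestrict (borelA h u)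
    (fun a => conj_mem_borelA h u a.2)

theorem borelConj_coe (a : borelA h u) : ((borelConj h u a : borelA h u) : D) = h * a * h⁻¹ := rfl

end Aux

section Mod

variable {D : Type*} [Group D] {h u : D} {p : ℕ}
  [hcommF : Fact (∀ i j : ℤ, Commute (uz h u i) (uz h u j))] [huF : Fact (u ^ p = 1)]

/-- the commutative group structure, as a (local) instance -/
@[reducible] def borelInstCG : CommGroup (borelA h u) := borelACommGroup hcommF.out

attribute [local instance] borelInstCG

omit huF in
theorem borelA_coe_pow (a : borelA h u) (n : ℕ) : ((a ^ n : borelA h u) : D) = (a : D) ^ n := rfl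

omit huF in
theorem borelA_coe_mul (a b : borelA h u) : ((a * b : borelA h u) : D) = (a : D) * b := rfl

theorem borel_nsmul (v : Additive (borelA h u)) : p • v = 0 := by
  have h1 : (Additive.toMul v) ^ p = 1 := Subtype.ext (by
    rw [borelA_coe_pow]; exact borelA_pow huF.out hcommF.out (Additive.toMul v).2)
  apply Additive.toMul.injective
  rw [toMul_nsmul, h1, toMul_zero]

/-- the `ZMod p`-module structure -/
@[reducible] def borelInstMod : Module (ZMod p) (Additive (borelA h u)) :=
  AddCommGroup.zmodModule (n := p) borel_nsmul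

end Mod

attribute [local instance] borelInstCG borelInstMod


theorem exists_borel {p : ℕ} [Fact p.Prime] {F : Type*} [Field F] [Algebra (ZMod p) F] (lam : F)
    (hsurj : ∀ a : F, ∃ f : (ZMod p)[X], aeval lam f = a) (m : (ZMod p)[X])
    (hm : ∀ f : (ZMod p)[X], aeval lam f = 0 → m ∣ f) {D : Type*} [Group D] (h u : D)
    (hu : u ^ p = 1) (hcomm : ∀ i j : ℤ, Commute (uz h u i) (uz h u j))
    (hPW : PW p h u m = 1) :
    ∃ x : F → D, (∀ a b, x (a + b) = x a * x b) ∧ x 1 = u ∧
      (∀ a, h * x a * h⁻¹ = x (lam * a)) ∧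
      (∀ f : (ZMod p)[X], x (aeval lam f) = PW p h u f) := by
  classical
  have : NeZero p := ⟨(Fact.out : p.Prime).ne_zero⟩
  have hcommF : Fact (∀ i j : ℤ, Commute (uz h u i) (uz h u j)) := ⟨hcomm⟩
  have huF : Fact (u ^ p = 1) := ⟨hu⟩
  let φ : Additive (borelA h u) →ₗ[ZMod p] Additive (borelA h u) :=
    AddMonoidHom.toZModLinearMap p (MonoidHom.toAdditive (borelConj h u))
  let Ψ : (ZMod p)[X] →ₐ[ZMod p] Module.End (ZMod p) (Additive (borelA h u)) :=
    aeval (R := ZMod p) (A := Module.End (ZMod p) (Additive (borelA h u))) φ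
  let w : ℤ → borelA h u := fun i => ⟨uz h u i, uz_mem_borelA h u i⟩
  let u0 : Additive (borelA h u) := Additive.ofMul (w 0)
  have hφw : ∀ i : ℤ, φ (Additive.ofMul (w i)) = Additive.ofMul (w (i + 1)) := by
    intro i
    show Additive.ofMul (borelConj h u (w i)) = Additive.ofMul (w (i + 1))
    congr 1
    apply Subtype.ext
    rw [borelConj_coe]
    exact uz_succ h u i
  have hφpow : ∀ i : ℕ, (φ ^ i) u0 = Additive.ofMul (w (i : ℤ)) := by
    intro i
    induction i with
    | zero => simp [u0]
    | succ i ih =>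
      rw [pow_succ', Module.End.mul_apply, ih, hφw]
      push_cast
      rfl
  have hsmul : ∀ (c : ZMod p) (v : Additive (borelA h u)), c • v = c.val • v := by
    intro c v
    conv_lhs => rw [← ZMod.natCast_zmod_val c]
    exact Nat.cast_smul_eq_nsmul _ _ _
  have hpartial : ∀ (f : (ZMod p)[X]) (n : ℕ),
      ((Additive.toMul (∑ i ∈ Finset.range n, f.coeff i • (φ ^ i) u0) : borelA h u) : D)
        = ((List.range n).map fun i : ℕ => uz h u (i : ℤ) ^ (f.coeff i).val).prod := by
    intro f n
    induction n with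
    | zero => simp
    | succ n ih =>
      rw [Finset.sum_range_succ, toMul_add, borelA_coe_mul, ih, List.range_succ,
        List.map_append, List.prod_append, hφpow, hsmul, toMul_nsmul, toMul_ofMul,
        borelA_coe_pow]
      simp [w]
  have key : ∀ f : (ZMod p)[X],
      ((Additive.toMul (Ψ f u0) : borelA h u) : D) = PW p h u f := by
    intro f
    have h1 : Ψ f u0 = ∑ i ∈ Finset.range (f.natDegree + 1), f.coeff i • (φ ^ i) u0 := by
      show (aeval φ f) u0 = _
      rw [aeval_eq_sum_range, LinearMap.sum_apply]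
      rfl
    rw [h1, hpartial]
    rfl
  have hΨm : Ψ m u0 = 0 := by
    apply Additive.toMul.injective
    apply Subtype.ext
    rw [key m, hPW]
    rfl
  have hwd : ∀ f g : (ZMod p)[X], aeval lam f = aeval lam g → Ψ f u0 = Ψ g u0 := by
    intro f g hfg
    have h1 : aeval lam (f - g) = 0 := by rw [map_sub, hfg, sub_self]
    obtain ⟨r, hr⟩ := hm _ h1
    have h2 : Ψ (f - g) u0 = 0 := by
      rw [hr, mul_comm, map_mul, Module.End.mul_apply, hΨm, map_zero]
    rw [map_sub, LinearMap.sub_apply, sub_eq_zero] at h2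
    exact h2
  let x : F → D := fun a =>
    ((Additive.toMul (Ψ (Classical.choose (hsurj a)) u0) : borelA h u) : D)
  have hx : ∀ (a : F) (f : (ZMod p)[X]), aeval lam f = a →
      x a = ((Additive.toMul (Ψ f u0) : borelA h u) : D) := by
    intro a f hf
    show ((Additive.toMul (Ψ (Classical.choose (hsurj a)) u0) : borelA h u) : D) = _
    rw [hwd _ f ((Classical.choose_spec (hsurj a)).trans hf.symm)]
  refine ⟨x, ?_, ?_, ?_, ?_⟩
  · intro a b
    obtain ⟨fa, hfa⟩ := hsurj a
    obtain ⟨fb, hfb⟩ := hsurj b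
    rw [hx a fa hfa, hx b fb hfb, hx (a + b) (fa + fb) (by rw [map_add, hfa, hfb]), map_add,
      LinearMap.add_apply, toMul_add, borelA_coe_mul]
  · rw [hx 1 1 (map_one _), map_one, Module.End.one_apply]
    simp [u0, w, uz_zero]
  · intro a
    obtain ⟨fa, hfa⟩ := hsurj a
    rw [hx a fa hfa, hx (lam * a) (X * fa) (by rw [map_mul, aeval_X, hfa]), map_mul,
      Module.End.mul_apply]
    have hX : Ψ X = φ := aeval_X φ
    rw [hX]
    rfl
  · intro f
    rw [hx (aeval lam f) f rfl, key]

end Cfsg.Agent.Helper96.SLPres
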