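import Mathlib
import Cfsg.Agent.Helper96.SLPresDefs

/-!
# `exists_poly_of_sq` (helper21, WANTED #3224 (B) for helper96 / S2286)

If every nonzero square of a finite field `F` of characteristic `p` is a power of `lam`, then
`F = 𝔽_p[lam]`.
-/

set_option autoImplicit false

namespace Cfsg.Agent.Helper96.SLPres

open Polynomial

theorem exists_poly_of_sq {p : ℕ} [Fact p.Prime] {F : Type*} [Field F] [Finite F]
    [Algebra (ZMod p) F] (lam : F) (hlam : ∀ s : F, s ≠ 0 → ∃ n : ℕ, lam ^ n = s ^ 2) :
    ∀ a : F, ∃ f : (ZMod p)[X], aeval lam f = a := by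
  have hchar : CharP F p :=
    charP_of_injective_algebraMap (algebraMap (ZMod p) F).injective p
  -- the range of `aeval lam` as a subalgebra
  let S : Subalgebra (ZMod p) F := (aeval lam : (ZMod p)[X] →ₐ[ZMod p] F).range
  have hmem : ∀ a : F, a ∈ S ↔ ∃ f : (ZMod p)[X], aeval lam f = a := fun a => Iff.rfl
  have hsq : ∀ s : F, s ^ 2 ∈ S := by
    intro s
    by_cases hs : s = 0
    · rw [hs]; simp
    · obtain ⟨n, hn⟩ := hlam s hs
      rw [← hn]
      exact ⟨X ^ n, by simp⟩
  intro a
  rw [← hmem]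
  by_cases hp2 : p = 2
  · subst hp2
    have hF : ringChar F = 2 := ringChar.eq F 2
    obtain ⟨r, hr⟩ := FiniteField.isSquare_of_char_two hF a
    rw [hr, ← pow_two]
    exact hsq r
  · have h2 : (2 : F) ≠ 0 := by
      intro h
      have h3 : ((2 : ℕ) : F) = 0 := by exact_mod_cast h
      rw [CharP.cast_eq_zero_iff F p] at h3
      have := (Nat.prime_dvd_prime_iff_eq (Fact.out : p.Prime) Nat.prime_two).mp h3
      exact hp2 this
    have hdecomp : a = ((a + 1) / 2) ^ 2 - ((a - 1) / 2) ^ 2 := by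
      field_simp
      ring
    rw [hdecomp]
    exact S.sub_mem (hsq _) (hsq _)

end Cfsg.Agent.Helper96.SLPres
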