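import Mathlib
import Cfsg.Agent.Helper1.SZ

/-!
# Frattini argument for a Hall complement of a normal `p`-subgroup (helper21)

If `T ⊴ G` is a `p`-group, `T ≤ A ⊴ G` and `p ∤ |A : T|`, then `T` has a complement `Y` in `A`
(Schur–Zassenhaus) and `G = N_G(Y) T` (conjugacy part of Schur–Zassenhaus, `T` solvable).
The proof is the one inside `Cfsg.Agent.Helper24.eq_of_frattini_hall`, extracted as a lemma.
-/

set_option autoImplicit false

namespace Cfsg.Agent.Helper21.GY

open Subgroup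
open scoped Pointwise

universe u

theorem exists_compl_frattini {G : Type u} [Group G] [Finite G] {p : ℕ} [hp : Fact p.Prime]
    (T A : Subgroup G) [hTn : T.Normal] [hAn : A.Normal] (hTA : T ≤ A)
    (hT : IsPGroup p T) (hAT : ¬ p ∣ T.relIndex A) :
    ∃ Y : Subgroup G, Y ≤ A ∧ A = T ⊔ Y ∧ Nat.card Y = T.relIndex A ∧
      Subgroup.normalizer (Y : Set G) ⊔ T = ⊤ := by
  classical
  set T' : Subgroup ↥A := T.subgroupOf A with hT'
  have hT'n : T'.Normal := Subgroup.normal_subgroupOf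
  have hcardT' : Nat.card T' = Nat.card T :=
    Nat.card_congr (Subgroup.subgroupOfEquivOfLe hTA).toEquiv
  have hidx : T'.index = T.relIndex A := rfl
  obtain ⟨k, hk⟩ := IsPGroup.iff_card.mp hT
  have hcop : (Nat.card T').Coprime T'.index := by
    rw [hcardT', hk, hidx]
    exact Nat.Coprime.pow_left k ((Nat.Prime.coprime_iff_not_dvd hp.out).mpr hAT)
  obtain ⟨Y₀, hY₀⟩ := Subgroup.exists_right_complement'_of_coprime hcop
  have hcardY₀ : Nat.card Y₀ = T'.index := (hY₀.symm.index_eq_card).symm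
  have hcop' : (Nat.card T').Coprime (Nat.card Y₀) := by rw [hcardY₀]; exact hcop
  set Y : Subgroup G := Y₀.map A.subtype with hY
  have hcardY : Nat.card Y = Nat.card Y₀ :=
    Subgroup.card_map_of_injective A.subtype_injective
  have hYA : Y ≤ A := by
    rw [hY]; rintro _ ⟨y, -, rfl⟩; exact y.2
  have hTsolv : Group.IsSolvable T' := by
    have hT'p : IsPGroup p T' := hT.comap_subtype
    have : Group.IsNilpotent T' := hT'p.isNilpotent
    infer_instance
  -- A = T ⊔ Y
  have hAeq : A = T ⊔ Y := by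
    have h1 : T' ⊔ Y₀ = ⊤ := hY₀.sup_eq_top
    have h2 := congrArg (Subgroup.map A.subtype) h1
    rw [Subgroup.map_sup, hT', Subgroup.subgroupOf_map_subtype, ← hY,
      ← MonoidHom.range_eq_map, Subgroup.range_subtype, inf_eq_left.mpr hTA] at h2
    exact h2.symm
  refine ⟨Y, hYA, hAeq, by rw [hcardY, hcardY₀, hidx], ?_⟩
  rw [eq_top_iff]
  intro g _
  -- conjugate complement
  have hYgA : Y.map (MulAut.conj g).toMonoidHom ≤ A := by
    rintro _ ⟨y, hy, rfl⟩
    exact hAn.conj_mem y (hYA hy) g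
  set Yg : Subgroup ↥A := (Y.map (MulAut.conj g).toMonoidHom).subgroupOf A with hYg
  have hcardYg : Nat.card Yg = Nat.card Y₀ := by
    rw [hYg, Nat.card_congr (Subgroup.subgroupOfEquivOfLe hYgA).toEquiv,
      Subgroup.card_map_of_injective (MulAut.conj g).injective, hcardY]
  have hcompl : Subgroup.IsComplement' T' Yg := by
    apply Subgroup.isComplement'_of_coprime
    · rw [hcardYg]; exact hY₀.card_mul_card
    · rw [hcardYg]; exact hcop'
  obtain ⟨a, ha⟩ := Cfsg.Agent.Helper1.sz_conj T' Y₀ Yg hcop' hY₀ hcompl (Or.inl hTsolv)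
  -- g⁻¹ a normalizes Y
  have hnorm : g⁻¹ * (a : G) ∈ Subgroup.normalizer (Y : Set G) := by
    apply Subgroup.mem_normalizer_fintype
    intro y hy
    obtain ⟨y₀, hy₀, rfl⟩ := hy
    have h1 : a * y₀ * a⁻¹ ∈ MulAut.conj a • Y₀ := by
      rw [Subgroup.mem_pointwise_smul_iff_inv_smul_mem]
      simpa [MulAut.smul_def, mul_assoc] using hy₀
    rw [ha, hYg, Subgroup.mem_subgroupOf] at h1
    obtain ⟨y', hy', hy'eq⟩ := h1
    have h2 : (g⁻¹ * (a : G)) * (A.subtype y₀) * (g⁻¹ * (a : G))⁻¹ = y' := by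
      have h3 : g * y' * g⁻¹ = (a : G) * (y₀ : G) * (a : G)⁻¹ := by
        simpa using hy'eq
      calc (g⁻¹ * (a : G)) * (A.subtype y₀) * (g⁻¹ * (a : G))⁻¹
          = g⁻¹ * ((a : G) * (y₀ : G) * (a : G)⁻¹) * g := by
            simp only [Subgroup.coe_subtype]; group
        _ = g⁻¹ * (g * y' * g⁻¹) * g := by rw [h3]
        _ = y' := by group
    show (g⁻¹ * (a : G)) * (A.subtype y₀) * (g⁻¹ * (a : G))⁻¹ ∈ (Y : Set G)
    rw [h2]; exact hy'
  -- g = a * (g⁻¹ a)⁻¹
  have hg : g = (a : G) * (g⁻¹ * (a : G))⁻¹ := by group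
  rw [hg]
  apply Subgroup.mul_mem
  · have haA : (a : G) ∈ T ⊔ Y := by rw [← hAeq]; exact a.2
    refine (sup_le ?_ ?_ : T ⊔ Y ≤ _) haA
    · exact le_sup_right
    · exact le_trans Subgroup.le_normalizer le_sup_left
  · exact Subgroup.mem_sup_left (Subgroup.inv_mem _ hnorm)

end Cfsg.Agent.Helper21.GY
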