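import Mathlib
import Cfsg.Prelude.Def_Local
import Cfsg.Prelude.Def_CaseTheorems
import Cfsg.Agent.Lib.Cores
import Cfsg.Agent.Helper21.GYFrat
import Cfsg.Agent.Helper24.AutAct
import Cfsg.Agent.Helper24.PLenMax
import Cfsg.Agent.Helper11.PSolvable
import Cfsg.Agent.Helper11.PLength
import Cfsg.Agent.Helper62.PSolvDual

/-!
# Gaschütz–Yen: the core argument (helper21)

`G` finite `p`-solvable, `p` odd, `O_{p'}(G) = 1`, `Aut G` transitive on the subgroups of order `p`.
Then `O_p(G)` is a Sylow `p`-subgroup of `G`.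

Proof. `P = O_p(G)`, `C_G(P) ≤ P` (Hall–Higman 1.2.3). A central element `z` of order `p` of `P` and
transitivity put every element of order `p` into `Z(P)`. Let `K = O_{p,p'}(G)` (characteristic) and
`T` a complement of `P` in `K`. Either every element of order `p` centralizes `K` or none does
(transitivity, `K` characteristic).
* all: `T` centralizes `Ω₁(P)`, hence `P` (`p` odd), so `T ≤ C_G(P) ≤ P`, `T = 1`, `K = P`, and then
  `O_{p'}(G/P) = 1 = O_p(G/P)` forces `G = P`.
* none: Frattini (Schur–Zassenhaus conjugacy) gives `G = N_G(T) P`; if `p ∣ |G : P|` then `N_G(T)` has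
  an element `y` of order `p`; `y ∈ Z(P)`, `[y, T] ≤ P ∩ T = 1`, so `y` centralizes `K = PT`: contradiction.
-/

set_option autoImplicit false

namespace Cfsg.Agent.Helper21.GY

open Cfsg Subgroup

universe u

variable {G : Type u} [Group G]

/-- `O_{p,p'}(G)`: the preimage of `O_{p'}(G / O_p(G))`. -/
def pqCore (p : ℕ) (G : Type*) [Group G] : Subgroup G :=
  (pPrimeCore p (G ⧸ pCore p G)).comap (QuotientGroup.mk' (pCore p G))

instance pqCore_normal (p : ℕ) (G : Type*) [Group G] : (pqCore p G).Normal := by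
  unfold pqCore; infer_instance

theorem pCore_le_pqCore (p : ℕ) : pCore p G ≤ pqCore p G :=
  Cfsg.Agent.Helper24.le_comap_mk _ _

theorem pqCore_aut_mem [Finite G] (p : ℕ) (a : MulAut G) {k : G} (hk : k ∈ pqCore p G) :
    a k ∈ pqCore p G := by
  have hP : (pCore p G).map a.toMonoidHom = pCore p G :=
    Cfsg.Agent.Helper11.pCore_map_mulEquiv p a
  have h1 : (pPrimeCore p (G ⧸ pCore p G)).map
      (QuotientGroup.congr (pCore p G) (pCore p G) a hP).toMonoidHom =
      pPrimeCore p (G ⧸ pCore p G) :=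
    Cfsg.Agent.Helper11.pPrimeCore_map_mulEquiv p _
  unfold pqCore at hk ⊢
  rw [Subgroup.mem_comap] at hk ⊢
  rw [← h1]
  exact ⟨_, hk, QuotientGroup.congr_mk _ _ a hP k⟩

theorem relIndex_pqCore [Finite G] (p : ℕ) :
    (pCore p G).relIndex (pqCore p G) = Nat.card (pPrimeCore p (G ⧸ pCore p G)) :=
  Cfsg.Agent.Helper24.relIndex_ker_comap _ _

theorem not_dvd_relIndex_pqCore [Finite G] (p : ℕ) [hp : Fact p.Prime] :
    ¬ p ∣ (pCore p G).relIndex (pqCore p G) := by
  rw [relIndex_pqCore]
  exact (Nat.Prime.coprime_iff_not_dvd hp.out).mp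
    (Cfsg.Agent.Lib.card_pPrimeCore_coprime (G := G ⧸ pCore p G) p).symm

/-- If `O_{p,p'}(G) = O_p(G)` and `G` is `p`-solvable then `G = O_p(G)`. -/
theorem pCore_eq_top_of_pqCore_eq [Finite G] {p : ℕ} [hp : Fact p.Prime]
    (hG : IsPSolvable p G) (h : pqCore p G = pCore p G) : pCore p G = ⊤ := by
  have hbot : pPrimeCore p (G ⧸ pCore p G) = ⊥ := by
    rw [eq_bot_iff]
    intro q hq
    obtain ⟨g, rfl⟩ := QuotientGroup.mk'_surjective (pCore p G) q
    have hg : g ∈ pqCore p G := by
      unfold pqCore; rw [Subgroup.mem_comap]; exact hq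
    rw [h] at hg
    rw [Subgroup.mem_bot]
    exact (QuotientGroup.eq_one_iff g).mpr hg
  have hsol : IsPSolvable p (G ⧸ pCore p G) := Cfsg.Agent.Helper11.isPSolvable_quotient _ hG
  have hc := Cfsg.Agent.Helper11.centralizer_pCore_le_of_isPSolvable hsol hbot
  rw [Cfsg.Agent.Helper62.pCore_quotient_pCore_eq_bot p] at hc
  rw [eq_top_iff]
  intro g _
  have h1 : (QuotientGroup.mk' (pCore p G) g) ∈
      Subgroup.centralizer (((⊥ : Subgroup (G ⧸ pCore p G)) : Subgroup (G ⧸ pCore p G)) : Set (G ⧸ pCore p G)) := by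
    rw [Subgroup.mem_centralizer_iff]
    intro x hx
    have : x = 1 := by simpa using hx
    rw [this]; simp
  have h2 := hc h1
  rw [Subgroup.mem_bot] at h2
  exact (QuotientGroup.eq_one_iff g).mp h2


/-- Every element of order `p` lies in `Z(O_p(G))` (given one nontrivial `O_p(G)` and transitivity). -/
theorem order_p_central [Finite G] {p : ℕ} [hp : Fact p.Prime]
    (hne : pCore p G ≠ ⊥)
    (htrans : ∀ U V : Subgroup G, Nat.card U = p → Nat.card V = p →
      ∃ a : MulAut G, U.map a.toMonoidHom = V)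
    {x : G} (hx : orderOf x = p) : x ∈ pCore p G ∧ ∀ y ∈ pCore p G, x * y = y * x := by
  classical
  have hPp : IsPGroup p (pCore p G) := Cfsg.Agent.Lib.isPGroup_pCore p
  have : Nontrivial ↥(pCore p G) := (Subgroup.nontrivial_iff_ne_bot _).mpr hne
  have hZ : Nontrivial (Subgroup.center ↥(pCore p G)) := hPp.center_nontrivial
  have hZp : IsPGroup p (Subgroup.center ↥(pCore p G)) := hPp.to_subgroup _
  have hdvd : p ∣ Nat.card (Subgroup.center ↥(pCore p G)) := by
    obtain ⟨k, hk⟩ := IsPGroup.iff_card.mp hZp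
    have h1 : 1 < Nat.card (Subgroup.center ↥(pCore p G)) := Finite.one_lt_card
    rw [hk] at h1 ⊢
    cases k with
    | zero => simp at h1
    | succ k => exact dvd_pow_self p (Nat.succ_ne_zero k)
  obtain ⟨z, hz⟩ := exists_prime_orderOf_dvd_card' (G := Subgroup.center ↥(pCore p G)) p hdvd
  set z0 : G := ((z : ↥(pCore p G)) : G) with hz0
  have hz0ord : orderOf z0 = p := by
    rw [hz0, Subgroup.orderOf_coe, Subgroup.orderOf_coe]; exact hz
  have hz0P : z0 ∈ pCore p G := (z : ↥(pCore p G)).2
  have hz0c : ∀ y ∈ pCore p G, z0 * y = y * z0 := by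
    intro y hy
    have h1 := (Subgroup.mem_center_iff.mp z.2) ⟨y, hy⟩
    have h2 := congrArg (Subtype.val) h1
    simpa using h2.symm
  obtain ⟨a, ha⟩ := htrans (Subgroup.zpowers z0) (Subgroup.zpowers x)
    (by rw [Nat.card_zpowers, hz0ord]) (by rw [Nat.card_zpowers, hx])
  have hxmem : x ∈ (Subgroup.zpowers z0).map a.toMonoidHom := by
    rw [ha]; exact Subgroup.mem_zpowers x
  obtain ⟨u, hu, hux⟩ := hxmem
  have huP : u ∈ pCore p G := by
    obtain ⟨n, rfl⟩ := Subgroup.mem_zpowers_iff.mp hu
    exact Subgroup.zpow_mem _ hz0P n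
  have huc : ∀ y ∈ pCore p G, u * y = y * u := by
    intro y hy
    obtain ⟨n, rfl⟩ := Subgroup.mem_zpowers_iff.mp hu
    exact ((Commute.zpow_left (hz0c y hy) n) : Commute (z0 ^ n) y).eq
  have hPa : ∀ (b : MulAut G) (y : G), y ∈ pCore p G → b y ∈ pCore p G := by
    intro b y hy
    have h := Cfsg.Agent.Helper11.pCore_map_mulEquiv (X := G) (Y := G) p b
    rw [← h]
    exact Subgroup.mem_map_of_mem _ hy
  have hux' : a u = x := hux
  refine ⟨by rw [← hux']; exact hPa a u huP, ?_⟩
  intro y hy
  have hy' : a.symm y ∈ pCore p G := hPa a.symm y hy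
  have h1 := huc _ hy'
  have h2 := congrArg a h1
  rw [map_mul, map_mul, MulEquiv.apply_symm_apply, hux'] at h2
  exact h2

/-- **Core of Gaschütz–Yen.** -/
theorem not_dvd_index_pCore [Finite G] {p : ℕ} [hp : Fact p.Prime] (hp2 : p ≠ 2)
    (hG : IsPSolvable p G) (hO : pPrimeCore p G = ⊥)
    (htrans : ∀ U V : Subgroup G, Nat.card U = p → Nat.card V = p →
      ∃ a : MulAut G, U.map a.toMonoidHom = V) :
    ¬ p ∣ (pCore p G).index := by
  classical
  intro hdvd
  have hPp : IsPGroup p (pCore p G) := Cfsg.Agent.Lib.isPGroup_pCore p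
  have hCP := Cfsg.Agent.Helper11.centralizer_pCore_le_of_isPSolvable hG hO
  have hnot1 : ¬ p ∣ 1 := fun h => hp.out.one_lt.ne' (Nat.dvd_one.mp h)
  have hne : pCore p G ≠ ⊥ := by
    intro h
    have htop : pCore p G = ⊤ := by
      rw [eq_top_iff]
      refine le_trans ?_ hCP
      rw [h]
      intro g _
      rw [Subgroup.mem_centralizer_iff]
      intro y hy
      have : y = 1 := by simpa using hy
      rw [this]; simp
    rw [htop, Subgroup.index_top] at hdvd
    exact hnot1 hdvd
  have hcen : ∀ x : G, orderOf x = p → x ∈ pCore p G ∧ ∀ y ∈ pCore p G, x * y = y * x :=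
    fun x hx => order_p_central hne htrans hx
  obtain ⟨T, hTK, hKeq, hcardT, hfrat⟩ :=
    exists_compl_frattini (pCore p G) (pqCore p G) (pCore_le_pqCore p) hPp
      (not_dvd_relIndex_pqCore p)
  have hTcop : (Nat.card T).Coprime p := by
    rw [hcardT]
    exact ((Nat.Prime.coprime_iff_not_dvd hp.out).mpr (not_dvd_relIndex_pqCore p)).symm
  have hPT : pCore p G ⊓ T = ⊥ := by
    apply disjoint_iff.mp
    apply Subgroup.disjoint_of_coprime_natCard
    obtain ⟨k, hk⟩ := IsPGroup.iff_card.mp hPp
    rw [hk]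
    exact (Nat.Coprime.pow_right k hTcop).symm
  by_cases hD : ∃ x0 : G, orderOf x0 = p ∧ ∀ k ∈ pqCore p G, x0 * k = k * x0
  · -- every element of order `p` centralizes `K`
    obtain ⟨x0, hx0, hx0c⟩ := hD
    have hall : ∀ x : G, orderOf x = p → ∀ k ∈ pqCore p G, x * k = k * x := by
      intro x hx k hk
      obtain ⟨a, ha⟩ := htrans (Subgroup.zpowers x0) (Subgroup.zpowers x)
        (by rw [Nat.card_zpowers, hx0]) (by rw [Nat.card_zpowers, hx])
      have hxmem : x ∈ (Subgroup.zpowers x0).map a.toMonoidHom := by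
        rw [ha]; exact Subgroup.mem_zpowers x
      obtain ⟨u, hu, hux⟩ := hxmem
      have hux' : a u = x := hux
      have huc : ∀ k ∈ pqCore p G, u * k = k * u := by
        intro k hk
        obtain ⟨n, rfl⟩ := Subgroup.mem_zpowers_iff.mp hu
        exact ((Commute.zpow_left (hx0c k hk) n) : Commute (x0 ^ n) k).eq
      have hk' : a.symm k ∈ pqCore p G := pqCore_aut_mem p a.symm hk
      have h1 := huc _ hk'
      have h2 := congrArg a h1
      rw [map_mul, map_mul, MulEquiv.apply_symm_apply, hux'] at h2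
      exact h2
    have hTc : T ≤ Subgroup.centralizer (pCore p G : Set G) := by
      intro t ht
      have hPp' : IsPGroup p ↥(pCore p G) := hPp
      have hcop : (orderOf (MulAut.conjNormal (H := pCore p G) t)).Coprime p := by
        have h1 : orderOf (MulAut.conjNormal (H := pCore p G) t) ∣ orderOf t :=
          orderOf_map_dvd _ t
        have h2 : orderOf t ∣ Nat.card T := Subgroup.orderOf_dvd_natCard T ht
        exact Nat.Coprime.coprime_dvd_left (h1.trans h2) hTcop
      have hfix := Cfsg.Agent.Helper24.aut_fix_of_fix_omega hPp'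
        (MulAut.conjNormal (H := pCore p G) t) hcop ⊤ (fun _ _ => Subgroup.mem_top _)
        (by
          intro x _ hx
          rcases hx with hx | ⟨h2, _⟩
          · by_cases hx1 : x = 1
            · rw [hx1, map_one]
            · have hord : orderOf x = p := orderOf_eq_prime hx hx1
              have hord' : orderOf (x : G) = p := by rw [Subgroup.orderOf_coe]; exact hord
              have hc := hall (x : G) hord' t (hTK ht)
              apply Subtype.ext
              rw [MulAut.conjNormal_apply]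
              rw [← hc]; group
          · exact absurd h2 hp2)
      rw [Subgroup.mem_centralizer_iff]
      intro y hy
      have h1 := hfix ⟨y, hy⟩ (Subgroup.mem_top _)
      have h2 := congrArg Subtype.val h1
      rw [MulAut.conjNormal_apply] at h2
      -- h2 : t * y * t⁻¹ = y
      calc y * t = (t * y * t⁻¹) * t := by rw [h2]
        _ = t * y := by group
    have hTbot : T = ⊥ := by
      rw [eq_bot_iff, ← hPT]
      exact le_inf (hTc.trans hCP) le_rfl
    have hKP : pqCore p G = pCore p G := by rw [hKeq, hTbot, sup_bot_eq]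
    have htop := pCore_eq_top_of_pqCore_eq hG hKP
    rw [htop, Subgroup.index_top] at hdvd
    exact hnot1 hdvd
  · -- no element of order `p` centralizes `K`
    have hdvdN : p ∣ Nat.card (Subgroup.normalizer (T : Set G)) := by
      have h1 : (pCore p G).relIndex (Subgroup.normalizer (T : Set G) ⊔ pCore p G) =
          (pCore p G).relIndex (Subgroup.normalizer (T : Set G)) :=
        Subgroup.relIndex_sup_right _ _
      rw [hfrat, Subgroup.relIndex_top_right] at h1
      rw [h1] at hdvd
      exact hdvd.trans (Subgroup.relIndex_dvd_card _ _)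
    obtain ⟨y, hy⟩ := exists_prime_orderOf_dvd_card'
      (G := ↥(Subgroup.normalizer (T : Set G))) p hdvdN
    have hy0 : orderOf (y : G) = p := by rw [Subgroup.orderOf_coe]; exact hy
    obtain ⟨hyP, hyc⟩ := hcen (y : G) hy0
    have hyT : ∀ t ∈ T, (y : G) * t = t * (y : G) := by
      intro t ht
      have h1 : (y : G) * t * (y : G)⁻¹ ∈ T := (Subgroup.mem_normalizer_iff.mp y.2 t).mp ht
      have h2 : (y : G) * t * (y : G)⁻¹ * t⁻¹ ∈ T := T.mul_mem h1 (T.inv_mem ht)
      have h3 : (y : G) * t * (y : G)⁻¹ * t⁻¹ ∈ pCore p G := by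
        have h4 : t * (y : G)⁻¹ * t⁻¹ ∈ pCore p G :=
          (pCore_normal p G).conj_mem _ ((pCore p G).inv_mem hyP) t
        have := (pCore p G).mul_mem hyP h4
        simpa [mul_assoc] using this
      have h5 : (y : G) * t * (y : G)⁻¹ * t⁻¹ ∈ pCore p G ⊓ T := ⟨h3, h2⟩
      rw [hPT, Subgroup.mem_bot] at h5
      calc (y : G) * t = ((y : G) * t * (y : G)⁻¹ * t⁻¹) * (t * (y : G)) := by group
        _ = t * (y : G) := by rw [h5, one_mul]
    apply hD
    refine ⟨(y : G), hy0, ?_⟩
    have hle : pqCore p G ≤ Subgroup.centralizer ({(y : G)} : Set G) := by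
      rw [hKeq]
      apply sup_le
      · intro k hk
        rw [Subgroup.mem_centralizer_singleton_iff]
        exact (hyc k hk).symm
      · intro k hk
        rw [Subgroup.mem_centralizer_singleton_iff]
        exact (hyT k hk).symm
    intro k hk
    have := hle hk
    rw [Subgroup.mem_centralizer_singleton_iff] at this
    exact this.symm

end Cfsg.Agent.Helper21.GY
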