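import Mathlib
import Cfsg.Prelude.Def_Local
import Cfsg.Prelude.Def_CaseTheorems

/-!
# Thompson: solvable groups with one class of involutions (S3797) — definitions (helper21)

`OneClass G`: all involutions of `G` are conjugate. `TwoInv G`: `G` has two distinct commuting involutions.
`ECfg P V T X R`: the "endgame configuration" inside a finite group, from which a contradiction is derived.
-/

set_option autoImplicit false

namespace Cfsg.Agent.Helper21.TH

open Subgroup

/-- all involutions of `G` are conjugate -/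
def OneClass (G : Type*) [Group G] : Prop :=
  ∀ x y : G, x ≠ 1 → x ^ 2 = 1 → y ≠ 1 → y ^ 2 = 1 → IsConj x y

/-- two distinct commuting involutions -/
def TwoInv (G : Type*) [Group G] : Prop :=
  ∃ x y : G, x ≠ y ∧ x ≠ 1 ∧ x ^ 2 = 1 ∧ y ≠ 1 ∧ y ^ 2 = 1 ∧ x * y = y * x

/-- The endgame configuration: `P` a `2`-group, `V = Ω₁(P) ≤ Z(P)` of order `≥ 4`, `T` solvable of odd order acting
faithfully on `P` and centralizing `V`, `X` a `2`-group normalizing `T`, centralizing `V`, not centralizing `T`,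
`R` of odd order normalizing `P, T, X`, transitive on `V \ 1`, with `C_X(R) = 1`. -/
structure ECfg {G : Type*} [Group G] (P V T X R : Subgroup G) : Prop where
  hP : IsPGroup 2 P
  hV : ∀ g : G, g ∈ V ↔ g ∈ P ∧ g ^ 2 = 1
  hVZ : V ≤ centralizer (P : Set G)
  hV4 : 4 ≤ Nat.card V
  hTodd : Odd (Nat.card T)
  hTsol : Group.IsSolvable T
  hX2 : IsPGroup 2 X
  hRodd : Odd (Nat.card R)
  hXT : X ≤ normalizer (T : Set G)
  hRT : R ≤ normalizer (T : Set G)
  hRX : R ≤ normalizer (X : Set G)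
  hTP : T ≤ normalizer (P : Set G)
  hXP : X ≤ normalizer (P : Set G)
  hRP : R ≤ normalizer (P : Set G)
  hTV : T ≤ centralizer (V : Set G)
  hXV : X ≤ centralizer (V : Set G)
  htrans : ∀ v ∈ V, v ≠ 1 → ∀ w ∈ V, w ≠ 1 → ∃ r ∈ R, r * v * r⁻¹ = w
  hfix : ∀ x ∈ X, (∀ r ∈ R, r * x * r⁻¹ = x) → x = 1
  hnc : ¬ X ≤ centralizer (T : Set G)
  hfaith : T ⊓ centralizer (P : Set G) = ⊥

end Cfsg.Agent.Helper21.TH
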