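import Mathlib
import Cfsg.Agent.Helper21.THDefs
import Cfsg.Agent.Helper21.GYCore

/-!
# Thompson: solvable groups with one class of involutions (S3797) — definitions, part 2 (helper21)

* `MCfg X D U R`: the minimal configuration (`X` a minimal `R`-invariant `2`-group acting nontrivially on the minimal
  `(X, R)`-invariant odd-order group `U`, `D = C_X(U)`, `|X : D| ≥ 4`).
* `IsHyp X D H`: `H` is a hyperplane of `X` over `D`. `cj g H`: the conjugate `g H g⁻¹`. `Orb R H₀`: the `R`-orbit of `H₀`.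
* `ZCfg P V X D U R`: `MCfg` plus the `2`-group `P` on which everything acts.
* `YCfg P V X D U R Y`: `ZCfg` plus the special group `Y ≤ C_P(D)`.
* `SCfg G V T`: the set-up inside a minimal counterexample.
-/

set_option autoImplicit false

namespace Cfsg.Agent.Helper21.TH

open Subgroup Cfsg

variable {G : Type*} [Group G]

/-- The minimal configuration. -/
structure MCfg (X D U R : Subgroup G) : Prop where
  hX2 : IsPGroup 2 X
  hRodd : Odd (Nat.card R)
  hUodd : Odd (Nat.card U)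
  hUsol : Group.IsSolvable U
  hXU : X ≤ normalizer (U : Set G)
  hRU : R ≤ normalizer (U : Set G)
  hRX : R ≤ normalizer (X : Set G)
  hD : D = X ⊓ centralizer (U : Set G)
  hXmin : ∀ X₀ : Subgroup G, X₀ < X → R ≤ normalizer (X₀ : Set G) → X₀ ≤ D
  hUmin : ∀ U₀ : Subgroup G, U₀ < U → X ≤ normalizer (U₀ : Set G) → R ≤ normalizer (U₀ : Set G) →
    X ≤ centralizer (U₀ : Set G)
  hidx : 4 ≤ D.relIndex X

/-- `H` is a hyperplane of `X` containing `D`. -/
def IsHyp (X D H : Subgroup G) : Prop := D ≤ H ∧ H ≤ X ∧ H.relIndex X = 2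

/-- the conjugate `g H g⁻¹`. -/
def cj (g : G) (H : Subgroup G) : Subgroup G := H.map (MulAut.conj g).toMonoidHom

/-- the `R`-orbit of the subgroup `H₀` under conjugation, as a type. -/
abbrev Orb (R H₀ : Subgroup G) : Type _ := {H : Subgroup G // ∃ r ∈ R, H = cj r H₀}

/-- `MCfg` plus the `2`-group `P` with `V = Ω₁(P) ≤ Z(P)`. -/
structure ZCfg (P V X D U R : Subgroup G) : Prop where
  m : MCfg X D U R
  hP : IsPGroup 2 P
  hV : ∀ g : G, g ∈ V ↔ g ∈ P ∧ g ^ 2 = 1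
  hVZ : V ≤ centralizer (P : Set G)
  hV4 : 4 ≤ Nat.card V
  hXP : X ≤ normalizer (P : Set G)
  hUP : U ≤ normalizer (P : Set G)
  hRP : R ≤ normalizer (P : Set G)
  hUV : U ≤ centralizer (V : Set G)
  hXV : X ≤ centralizer (V : Set G)
  htrans : ∀ v ∈ V, v ≠ 1 → ∀ w ∈ V, w ≠ 1 → ∃ r ∈ R, r * v * r⁻¹ = w
  hfaith : U ⊓ centralizer (P : Set G) = ⊥

/-- `ZCfg` plus the special group `Y ≤ C_P(D)`. -/
structure YCfg (P V X D U R Y : Subgroup G) : Prop where
  z : ZCfg P V X D U R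
  hYP : Y ≤ P
  hDY : D ≤ centralizer (Y : Set G)
  hXY : X ≤ normalizer (Y : Set G)
  hUY : U ≤ normalizer (Y : Set G)
  hRY : R ≤ normalizer (Y : Set G)
  hVY : V ≤ Y
  hsq : ∀ y ∈ Y, y ^ 2 ∈ V
  hYY : ⁅Y, Y⁆ ≤ V
  hfixY : Y ⊓ centralizer (U : Set G) = V
  hcomm : ⁅Y, U⁆ = Y

/-- The set-up in a counterexample: `V = Ω₁(O₂(G))` contains all involutions and is central in `O₂(G)`,
`T` is a Hall `2'`-subgroup of `O_{2,2'}(G)` centralizing `V`. -/
structure SCfg (G : Type*) [Group G] (V T : Subgroup G) : Prop where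
  hV : ∀ g : G, g ∈ V ↔ g ∈ pCore 2 G ∧ g ^ 2 = 1
  hinv : ∀ g : G, g ^ 2 = 1 → g ∈ V
  hVZ : V ≤ centralizer (pCore 2 G : Set G)
  hV4 : 4 ≤ Nat.card V
  hCP : centralizer (pCore 2 G : Set G) ≤ pCore 2 G
  hTodd : Odd (Nat.card T)
  hTne : T ≠ ⊥
  hPT : pCore 2 G ⊓ T = ⊥
  hK : Cfsg.Agent.Helper21.GY.pqCore 2 G = pCore 2 G ⊔ T
  hfrat : normalizer (T : Set G) ⊔ pCore 2 G = ⊤
  hTV : T ≤ centralizer (V : Set G)

end Cfsg.Agent.Helper21.TH
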