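import Mathlib
import Cfsg.Agent.Helper48.CoprimeGen
import Cfsg.Agent.Helper71.ShultBasic

set_option autoImplicit false

/-!
# Ward's theorem (S3796): small tools for the key lemma
-/

namespace Cfsg.Agent.Helper21.Ward

open Subgroup Cfsg.Agent.Helper71.Shult

variable {H : Type*} [Group H]

/-- conjugation by a normalizing element, as an automorphism of the subgroup -/
noncomputable def cjAut (W : Subgroup H) (g : H) (hg : g ∈ normalizer (W : Set H)) : MulAut W :=
  W.normalizerMonoidHom ⟨g, hg⟩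

theorem cjAut_coe (W : Subgroup H) (g : H) (hg : g ∈ normalizer (W : Set H)) (w : W) :
    ((cjAut W g hg w : W) : H) = g * w * g⁻¹ := rfl

theorem cjAut_pow_coe (W : Subgroup H) (g : H) (hg : g ∈ normalizer (W : Set H)) (n : ℕ) (w : W) :
    ((((cjAut W g hg) ^ n) w : W) : H) = g ^ n * w * (g ^ n)⁻¹ := by
  unfold cjAut
  rw [← map_pow]
  rfl

theorem cjAut_pow (W : Subgroup H) (g : H) (hg : g ∈ normalizer (W : Set H)) (n : ℕ) :
    (cjAut W g hg) ^ n = cjAut W (g ^ n) ((normalizer (W : Set H)).pow_mem hg n) := by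
  ext w
  rw [cjAut_pow_coe, cjAut_coe]

theorem cjAut_mul (W : Subgroup H) (g h : H) (hg : g ∈ normalizer (W : Set H))
    (hh : h ∈ normalizer (W : Set H)) :
    cjAut W g hg * cjAut W h hh = cjAut W (g * h) ((normalizer (W : Set H)).mul_mem hg hh) := by
  ext w
  rw [MulAut.mul_apply, cjAut_coe, cjAut_coe, cjAut_coe]
  group

theorem cjAut_inv (W : Subgroup H) (g : H) (hg : g ∈ normalizer (W : Set H)) :
    (cjAut W g hg)⁻¹ = cjAut W g⁻¹ ((normalizer (W : Set H)).inv_mem hg) := by
  rw [inv_eq_iff_mul_eq_one, cjAut_mul]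
  ext w
  rw [cjAut_coe, MulAut.one_apply]
  group

theorem cjAut_eq_one_of_mem_centralizer (W : Subgroup H) (g : H) (hg : g ∈ normalizer (W : Set H))
    (hc : g ∈ centralizer (W : Set H)) : cjAut W g hg = 1 := by
  ext w
  rw [cjAut_coe, MulAut.one_apply]
  have := mem_centralizer_iff.mp hc w w.2
  rw [← this]; group

theorem cjAut_congr (W : Subgroup H) {g h : H} (hg : g ∈ normalizer (W : Set H))
    (hh : h ∈ normalizer (W : Set H)) (e : g = h) : cjAut W g hg = cjAut W h hh := by
  subst e; rfl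

/-- elements commuting: `g * w * g⁻¹ = w ↔ w * g = g * w` -/
theorem conj_eq_iff {g w : H} : g * w * g⁻¹ = w ↔ w * g = g * w := by
  constructor
  · intro h
    calc w * g = (g * w * g⁻¹) * g := by rw [h]
      _ = g * w := by group
  · intro h
    calc g * w * g⁻¹ = (w * g) * g⁻¹ := by rw [h]
      _ = w := by group

end Cfsg.Agent.Helper21.Ward
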