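import Mathlib
import Cfsg.Agent.Helper21.WardKey0

set_option autoImplicit false
set_option linter.unusedSectionVars false

/-!
# Ward's theorem (S3796): standing hypotheses of the key lemma and first consequences
-/

namespace Cfsg.Agent.Helper21.Ward

open Subgroup Cfsg.Agent.Helper71.Shult Cfsg.Agent.Helper48

variable {H : Type*} [Group H] [Finite H]

/-- `IsEA2` is generated by `x0 ≠ 1` and any `x ∉ ⟨x0⟩`. -/
theorem IsEA2.le_sup_zpowers {p : ℕ} [hp : Fact p.Prime] {A : Subgroup H} (hA : IsEA2 p A)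
    {x0 x : H} (hx0 : x0 ∈ A) (h1 : x0 ≠ 1) (hx : x ∈ A) (hn : x ∉ zpowers x0) :
    A ≤ zpowers x0 ⊔ zpowers x := by
  obtain ⟨-, hexp, hcard⟩ := hA
  set B : Subgroup H := zpowers x0 ⊔ zpowers x with hB
  have hBA : B ≤ A := sup_le (zpowers_le.mpr hx0) (zpowers_le.mpr hx)
  have hord : orderOf x0 = p := orderOf_eq_prime (hexp x0 hx0) h1
  have hc0 : Nat.card (zpowers x0) = p := by rw [Nat.card_zpowers, hord]
  have hlt : zpowers x0 < B := by
    refine lt_of_le_of_ne le_sup_left ?_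
    intro h
    apply hn
    rw [h]
    exact (le_sup_right : zpowers x ≤ B) (mem_zpowers x)
  have hcardlt : Nat.card (zpowers x0) < Nat.card B := by
    have hdvd := Subgroup.card_dvd_of_le hlt.le
    have hle := Nat.le_of_dvd Nat.card_pos hdvd
    rcases hle.lt_or_eq with h | h
    · exact h
    · exact absurd (Subgroup.eq_of_le_of_card_ge hlt.le h.ge) hlt.ne
  have hdvd : Nat.card B ∣ p ^ 2 := by rw [← hcard]; exact Subgroup.card_dvd_of_le hBA
  obtain ⟨i, hi, hBi⟩ := (Nat.dvd_prime_pow hp.out).mp hdvd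
  have hi2 : i = 2 := by
    rw [hc0, hBi] at hcardlt
    have : 1 < i := by
      by_contra hcon
      push Not at hcon
      have : p ^ i ≤ p ^ 1 := Nat.pow_le_pow_right hp.out.pos hcon
      rw [pow_one] at this
      omega
    omega
  have : B = A := Subgroup.eq_of_le_of_card_ge hBA (by rw [hBi, hi2, hcard])
  rw [this]

/-- an element commuting with `x0` and `x` centralizes `A`. -/
theorem IsEA2.mem_centralizer_of_commute {p : ℕ} [hp : Fact p.Prime] {A : Subgroup H}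
    (hA : IsEA2 p A) {x0 x : H} (hx0 : x0 ∈ A) (h1 : x0 ≠ 1) (hx : x ∈ A) (hn : x ∉ zpowers x0)
    {g : H} (h0 : g ∈ centralizer {x0}) (hgx : g ∈ centralizer {x}) :
    g ∈ centralizer (A : Set H) := by
  have hle := IsEA2.le_sup_zpowers hA hx0 h1 hx hn
  have h2 : zpowers x0 ⊔ zpowers x ≤ centralizer {g} := by
    apply sup_le
    · rw [zpowers_le, mem_centralizer_singleton_iff]
      exact (mem_centralizer_singleton_iff.mp h0).symm
    · rw [zpowers_le, mem_centralizer_singleton_iff]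
      exact (mem_centralizer_singleton_iff.mp hgx).symm
  rw [mem_centralizer_iff]
  intro y hy
  have := h2 (hle hy)
  rw [mem_centralizer_singleton_iff] at this
  exact this

/-- a nontrivial element of `⟨x0⟩` (prime order) generates it -/
theorem zpowers_eq_of_mem {p : ℕ} [hp : Fact p.Prime] {x0 y : H} (hx0 : x0 ^ p = 1)
    (hy : y ∈ zpowers x0) (hy1 : y ≠ 1) : zpowers y = zpowers x0 := by
  have hx01 : x0 ≠ 1 := by
    rintro rfl
    rw [zpowers_one_eq_bot, mem_bot] at hy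
    exact hy1 hy
  have hyp : y ^ p = 1 := by
    obtain ⟨n, rfl⟩ := mem_zpowers_iff.mp hy
    rw [← zpow_natCast, ← zpow_mul, mul_comm, zpow_mul, zpow_natCast, hx0, one_zpow]
  apply Subgroup.eq_of_le_of_card_ge (zpowers_le.mpr hy)
  rw [Nat.card_zpowers, Nat.card_zpowers, orderOf_eq_prime hx0 hx01, orderOf_eq_prime hyp hy1]

/-- the standing hypotheses of the key lemma -/
structure KeyHyp (p s : ℕ) (A V1 S T S0 : Subgroup H) : Prop where
  hA : IsEA2 p A
  hAS : A ≤ normalizer (S : Set H)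
  hAT : A ≤ normalizer (T : Set H)
  hAS0 : A ≤ normalizer (S0 : Set H)
  hAV : A ≤ normalizer (V1 : Set H)
  hSV : S ≤ normalizer (V1 : Set H)
  hTS : T ≤ S
  hS0T : S0 ≤ T
  hS0 : S0 ≤ centralizer (V1 : Set H)
  hcomm : ∀ t ∈ T, ∀ u ∈ S, t * u * t⁻¹ * u⁻¹ ∈ S0
  hpow : ∀ t ∈ T, t ^ s ∈ S0
  hVab : ∀ u ∈ V1, ∀ v ∈ V1, u * v = v * u
  hcops : (Nat.card V1).Coprime s
  hcopp : (Nat.card V1).Coprime p
  hSs : IsPGroup s S
  hps : p ≠ s
  hfix : V1 ⊓ centralizer (T : Set H) = ⊥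
  hC4 : ∀ x ∈ A, x ≠ 1 →
    S ⊓ centralizer {x} ≤ centralizer ((V1 ⊓ centralizer {x} : Subgroup H) : Set H)
  hC5 : S ⊓ centralizer (A : Set H) = ⊥

/-- hyperplanes of `T / S0` -/
def IsHyper (S0 T : Subgroup H) (s : ℕ) (D : Subgroup H) : Prop :=
  S0 ≤ D ∧ D ≤ T ∧ D.relIndex T = s

namespace KeyHyp

variable {p s : ℕ} [hp : Fact p.Prime] [hs : Fact s.Prime] {A V1 S T S0 : Subgroup H}

theorem conj_mem_S0 (h : KeyHyp p s A V1 S T S0) {u z : H} (hu : u ∈ S) (hz : z ∈ S0) :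
    u * z * u⁻¹ ∈ S0 := by
  have h1 := h.hcomm z⁻¹ (T.inv_mem (h.hS0T hz)) u hu
  have h2 := S0.mul_mem hz h1
  have e : z * (z⁻¹ * u * z⁻¹⁻¹ * u⁻¹) = u * z * u⁻¹ := by group
  rwa [e] at h2

theorem S_le_normalizer_S0 (h : KeyHyp p s A V1 S T S0) : S ≤ normalizer (S0 : Set H) :=
  le_normalizer_of_conj_mem fun _ hu _ hz => h.conj_mem_S0 hu hz

theorem conj_mem_D (h : KeyHyp p s A V1 S T S0) {D : Subgroup H} (hD : IsHyper S0 T s D)
    {u d : H} (hu : u ∈ S) (hd : d ∈ D) : u * d * u⁻¹ ∈ D := by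
  have h1 := h.hcomm d⁻¹ (T.inv_mem (hD.2.1 hd)) u hu
  have h2 := D.mul_mem hd (hD.1 h1)
  have e : d * (d⁻¹ * u * d⁻¹⁻¹ * u⁻¹) = u * d * u⁻¹ := by group
  rwa [e] at h2

theorem S_le_normalizer_D (h : KeyHyp p s A V1 S T S0) {D : Subgroup H}
    (hD : IsHyper S0 T s D) : S ≤ normalizer (D : Set H) :=
  le_normalizer_of_conj_mem fun _ hu _ hd => h.conj_mem_D hD hu hd

theorem S_le_normalizer_T (h : KeyHyp p s A V1 S T S0) : S ≤ normalizer (T : Set H) := by
  apply le_normalizer_of_conj_mem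
  intro u hu t ht
  have h1 := h.hcomm t⁻¹ (T.inv_mem ht) u hu
  have h2 := T.mul_mem ht (h.hS0T h1)
  have e : t * (t⁻¹ * u * t⁻¹⁻¹ * u⁻¹) = u * t * u⁻¹ := by group
  rwa [e] at h2

/-- `W(D) = C_{V1}(D)` -/
def Wof (V1 D : Subgroup H) : Subgroup H := V1 ⊓ centralizer (D : Set H)

theorem le_normalizer_Wof {X D : Subgroup H} (V1 : Subgroup H) (hV : X ≤ normalizer (V1 : Set H))
    (hD : X ≤ normalizer (D : Set H)) : X ≤ normalizer ((Wof V1 D : Subgroup H) : Set H) :=
  inf_le_normalizer hV (le_normalizer_centralizer hD)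

theorem S_le_normalizer_Wof (h : KeyHyp p s A V1 S T S0) {D : Subgroup H}
    (hD : IsHyper S0 T s D) : S ≤ normalizer ((Wof V1 D : Subgroup H) : Set H) :=
  le_normalizer_Wof V1 h.hSV (h.S_le_normalizer_D hD)

/-- for `t ∈ T ∖ D`: `T = D ⊔ ⟨t⟩` -/
theorem le_sup_zpowers (_h : KeyHyp p s A V1 S T S0) {D : Subgroup H} (hD : IsHyper S0 T s D)
    {t : H} (ht : t ∈ T) (htD : t ∉ D) : T ≤ D ⊔ zpowers t := by
  set K : Subgroup H := D ⊔ zpowers t with hK
  have hDK : D ≤ K := le_sup_left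
  have hKT : K ≤ T := sup_le hD.2.1 (zpowers_le.mpr ht)
  have hmul := Subgroup.relIndex_mul_relIndex D K T hDK hKT
  rw [hD.2.2] at hmul
  have h1 : D.relIndex K ≠ 1 := by
    intro h1
    rw [Subgroup.relIndex_eq_one] at h1
    exact htD (h1 ((le_sup_right : zpowers t ≤ K) (mem_zpowers t)))
  have h2 : D.relIndex K ∣ s := Dvd.intro _ hmul
  rcases (Nat.dvd_prime hs.out).mp h2 with h3 | h3
  · exact absurd h3 h1
  · rw [h3] at hmul
    have : K.relIndex T = 1 := by
      have hspos := hs.out.pos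
      nlinarith [hmul]
    exact Subgroup.relIndex_eq_one.mp this

/-- `T ∖ D` acts fixed-point-freely on `W(D)` -/
theorem eq_one_of_commute (h : KeyHyp p s A V1 S T S0) {D : Subgroup H} (hD : IsHyper S0 T s D)
    {t : H} (ht : t ∈ T) (htD : t ∉ D) {w : H} (hw : w ∈ Wof V1 D) (hc : t * w * t⁻¹ = w) :
    w = 1 := by
  have hle := h.le_sup_zpowers hD ht htD
  have hwT : w ∈ V1 ⊓ centralizer (T : Set H) := by
    refine mem_inf.mpr ⟨hw.1, ?_⟩
    have h2 : D ⊔ zpowers t ≤ centralizer {w} := by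
      apply sup_le
      · intro d hd
        rw [mem_centralizer_singleton_iff]
        exact (mem_centralizer_iff.mp hw.2 d hd)
      · rw [zpowers_le, mem_centralizer_singleton_iff]
        exact (conj_eq_iff.mp hc).symm
    rw [mem_centralizer_iff]
    intro u hu
    have := h2 (hle hu)
    rw [mem_centralizer_singleton_iff] at this
    exact this
  rw [h.hfix, mem_bot] at hwT
  exact hwT

/-- there is an element of `T` outside `D` -/
theorem exists_not_mem (_h : KeyHyp p s A V1 S T S0) {D : Subgroup H} (hD : IsHyper S0 T s D) :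
    ∃ t ∈ T, t ∉ D := by
  by_contra hcon
  push Not at hcon
  have : T ≤ D := hcon
  have h1 := Subgroup.relIndex_eq_one.mpr this
  rw [hD.2.2] at h1
  exact hs.out.one_lt.ne' h1

theorem not_dvd_card_S (h : KeyHyp p s A V1 S T S0) : ¬ p ∣ Nat.card S := by
  intro hd
  obtain ⟨n, hn⟩ := (IsPGroup.iff_card (p := s)).mp h.hSs
  rw [hn] at hd
  have := (Nat.prime_dvd_prime_iff_eq hp.out hs.out).mp (hp.out.dvd_of_dvd_pow hd)
  exact h.hps this

end KeyHyp

end Cfsg.Agent.Helper21.Ward
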