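import Mathlib

set_option autoImplicit false

/-!
# Ward's theorem (S3796): norm identities in a commutative group with two commuting automorphisms
-/

namespace Cfsg.Agent.Helper21.Ward

variable {M : Type*} [CommGroup M]

/-- the norm `∏_{i<p} ξ^i v` -/
def nrm (ξ : MulAut M) (p : ℕ) (v : M) : M := ∏ i ∈ Finset.range p, (ξ ^ i) v

theorem nrm_fixed (ξ : MulAut M) {p : ℕ} (hξ : ξ ^ p = 1) (v : M) : ξ (nrm ξ p v) = nrm ξ p v := by
  unfold nrm
  rw [map_prod]
  have h1 : ∀ i ∈ Finset.range p, ξ ((ξ ^ i) v) = (ξ ^ (i + 1)) v := by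
    intro i _
    rw [pow_succ', MulAut.mul_apply]
  rw [Finset.prod_congr rfl h1]
  have h2 := Finset.prod_range_succ' (fun i => (ξ ^ i) v) p
  have h3 := Finset.prod_range_succ (fun i => (ξ ^ i) v) p
  rw [h3] at h2
  simp only [hξ, pow_zero, MulAut.one_apply] at h2
  exact (mul_right_cancel h2).symm

theorem nrm_mul (ξ : MulAut M) (p : ℕ) (u v : M) : nrm ξ p (u * v) = nrm ξ p u * nrm ξ p v := by
  unfold nrm
  rw [← Finset.prod_mul_distrib]
  exact Finset.prod_congr rfl fun i _ => map_mul _ _ _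

theorem nrm_inv (ξ : MulAut M) (p : ℕ) (v : M) : nrm ξ p v⁻¹ = (nrm ξ p v)⁻¹ := by
  unfold nrm
  rw [← Finset.prod_inv_distrib]
  exact Finset.prod_congr rfl fun i _ => map_inv _ _

theorem nrm_comm (ξ γ : MulAut M) (hc : ξ * γ = γ * ξ) (p : ℕ) (v : M) :
    γ (nrm ξ p v) = nrm ξ p (γ v) := by
  unfold nrm
  rw [map_prod]
  refine Finset.prod_congr rfl fun i _ => ?_
  have hcomm : Commute γ ξ := hc.symm
  have h := (hcomm.pow_right i).eq
  calc γ ((ξ ^ i) v) = (γ * ξ ^ i) v := rfl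
    _ = (ξ ^ i * γ) v := by rw [h]
    _ = (ξ ^ i) (γ v) := rfl

/-- if `γ` fixes the norm of `v` then the norm of `γ v * v⁻¹` is trivial -/
theorem nrm_comm_eq_one (ξ γ : MulAut M) (hc : ξ * γ = γ * ξ) (p : ℕ) (v : M)
    (hfix : γ (nrm ξ p v) = nrm ξ p v) : nrm ξ p (γ v * v⁻¹) = 1 := by
  rw [nrm_mul, nrm_inv, ← nrm_comm ξ γ hc, hfix, mul_inv_cancel]

/-- splitting off the `i = 0` term -/
theorem nrm_succ (ξ : MulAut M) (n : ℕ) (w : M) :
    nrm ξ (n + 1) w = (∏ i ∈ Finset.range n, (ξ ^ (i + 1)) w) * w := by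
  unfold nrm
  rw [Finset.prod_range_succ']
  simp

end Cfsg.Agent.Helper21.Ward
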