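import Mathlib
import Cfsg.Agent.Helper21.WardKey1
import Cfsg.Agent.Helper21.WardNorm
import Cfsg.Agent.Helper21.Fitting
import Cfsg.Agent.Helper31.WardW34

set_option autoImplicit false
set_option linter.unusedSectionVars false

/-!
# Ward's theorem (S3796): key lemma, part (i): `x ∉ N_A(D)` ⟹ `C_S(x)` centralizes `W(D)`
-/

namespace Cfsg.Agent.Helper21.Ward

open Subgroup Cfsg.Agent.Helper71.Shult Cfsg.Agent.Helper48

variable {H : Type*} [Group H] [Finite H]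

/-- the conjugate subgroup `g D g⁻¹` -/
def cjSub (g : H) (D : Subgroup H) : Subgroup H := D.map (MulAut.conj g).toMonoidHom

theorem mem_cjSub {g d' : H} {D : Subgroup H} : d' ∈ cjSub g D ↔ ∃ d ∈ D, g * d * g⁻¹ = d' := by
  unfold cjSub
  rw [mem_map]
  rfl

theorem conj_mem_cjSub {g d : H} {D : Subgroup H} (hd : d ∈ D) : g * d * g⁻¹ ∈ cjSub g D :=
  mem_cjSub.mpr ⟨d, hd, rfl⟩

theorem cjSub_eq_of_mem_normalizer {g : H} {D : Subgroup H} (hg : g ∈ normalizer (D : Set H)) :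
    cjSub g D = D := Cfsg.Agent.Helper21.map_conj_eq_of_mem_normalizer hg

theorem mem_normalizer_of_cjSub_eq {g : H} {D : Subgroup H} (h : cjSub g D = D) :
    g ∈ normalizer (D : Set H) := Cfsg.Agent.Helper21.mem_normalizer_of_map_conj_eq h

theorem IsHyper.cjSub {S0 T D : Subgroup H} {s : ℕ} (hD : IsHyper S0 T s D) {g : H}
    (hg0 : g ∈ normalizer (S0 : Set H)) (hgT : g ∈ normalizer (T : Set H)) :
    IsHyper S0 T s (cjSub g D) := by
  refine ⟨?_, ?_, ?_⟩
  · have : Ward.cjSub g S0 ≤ Ward.cjSub g D := Subgroup.map_mono hD.1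
    rwa [cjSub_eq_of_mem_normalizer hg0] at this
  · have : Ward.cjSub g D ≤ Ward.cjSub g T := Subgroup.map_mono hD.2.1
    rwa [cjSub_eq_of_mem_normalizer hgT] at this
  · have h1 := Subgroup.relIndex_map_map_of_injective D T
      (f := (MulAut.conj g).toMonoidHom) (MulAut.conj g).injective
    have h2 : T.map (MulAut.conj g).toMonoidHom = T := cjSub_eq_of_mem_normalizer hgT
    rw [h2] at h1
    unfold Ward.cjSub
    rw [h1, hD.2.2]

theorem conj_mem_Wof {V1 D : Subgroup H} {g w : H} (hg : g ∈ normalizer (V1 : Set H))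
    (hw : w ∈ KeyHyp.Wof V1 D) : g * w * g⁻¹ ∈ KeyHyp.Wof V1 (cjSub g D) := by
  refine mem_inf.mpr ⟨(mem_normalizer_iff.mp hg w).mp hw.1, ?_⟩
  rw [mem_centralizer_iff]
  rintro _ ⟨d, hd, rfl⟩
  have := mem_centralizer_iff.mp hw.2 d hd
  show g * d * g⁻¹ * (g * w * g⁻¹) = g * w * g⁻¹ * (g * d * g⁻¹)
  calc g * d * g⁻¹ * (g * w * g⁻¹) = g * (d * w) * g⁻¹ := by group
    _ = g * (w * d) * g⁻¹ := by rw [this]
    _ = g * w * g⁻¹ * (g * d * g⁻¹) := by group

/-- `x ∈ ⟨x ^ j⟩` when `x ^ p = 1`, `0 < j < p` -/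
theorem mem_zpowers_pow {p : ℕ} [hp : Fact p.Prime] {x : H} (hx : x ^ p = 1) {j : ℕ} (hj0 : 0 < j)
    (hjp : j < p) : x ∈ zpowers (x ^ j) := by
  have hcop : Nat.Coprime j p := by
    rw [Nat.coprime_comm, hp.out.coprime_iff_not_dvd]
    intro hd
    exact absurd (Nat.le_of_dvd hj0 hd) (by omega)
  obtain ⟨m, -, hm⟩ := Nat.exists_mul_mod_eq_one_of_coprime hcop hp.out.one_lt
  refine mem_zpowers_iff.mpr ⟨m, ?_⟩
  rw [zpow_natCast, ← pow_mul]
  have h1 : j * m = p * (j * m / p) + 1 := by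
    have := Nat.div_add_mod (j * m) p
    omega
  rw [h1, pow_add, pow_mul, hx, one_pow, one_mul, pow_one]

namespace KeyHyp

variable {p s : ℕ} [hp : Fact p.Prime] [hs : Fact s.Prime] {A V1 S T S0 : Subgroup H}

/-- the index set of hyperplanes different from `D` -/
abbrev OtherHyper (S0 T : Subgroup H) (s : ℕ) (D : Subgroup H) : Type _ :=
  {D' : Subgroup H // (S0 ≤ D' ∧ D' ≤ T ∧ D'.relIndex T = s) ∧ D' ≠ D}

/-- **Key lemma, part (i).** -/
theorem key_i (h : KeyHyp p s A V1 S T S0) {D : Subgroup H} (hD : IsHyper S0 T s D) {x : H}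
    (hx : x ∈ A) (hxD : x ∉ normalizer (D : Set H)) :
    S ⊓ centralizer {x} ≤ centralizer ((Wof V1 D : Subgroup H) : Set H) := by
  classical
  intro c hc
  have hcS : c ∈ S := hc.1
  have hcx : c * x = x * c := mem_centralizer_singleton_iff.mp hc.2
  have hx1 : x ≠ 1 := by
    rintro rfl
    exact hxD (Subgroup.one_mem _)
  have hxp : x ^ p = 1 := h.hA.2.1 x hx
  rw [mem_centralizer_iff]
  intro v hv
  letI : CommGroup ↥V1 := { (inferInstance : Group ↥V1) with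
    mul_comm := fun u v => Subtype.ext (h.hVab u u.2 v v.2) }
  have hxN : x ∈ normalizer (V1 : Set H) := h.hAV hx
  have hcN : c ∈ normalizer (V1 : Set H) := h.hSV hcS
  set ξ : MulAut ↥V1 := cjAut V1 x hxN with hξ
  set γ : MulAut ↥V1 := cjAut V1 c hcN with hγ
  have hξp : ξ ^ p = 1 := by
    ext w
    rw [hξ, cjAut_pow_coe, hxp, MulAut.one_apply]
    group
  have hcomm : ξ * γ = γ * ξ := by
    rw [hξ, hγ, cjAut_mul, cjAut_mul]
    exact cjAut_congr V1 _ _ hcx.symm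
  let v' : ↥V1 := ⟨v, hv.1⟩
  -- the norm of `v` is centralized by `c`
  have hfixξ : ξ (nrm ξ p v') = nrm ξ p v' := nrm_fixed ξ hξp v'
  have hu : ((nrm ξ p v' : ↥V1) : H) ∈ V1 ⊓ centralizer {x} := by
    refine mem_inf.mpr ⟨(nrm ξ p v').2, ?_⟩
    rw [mem_centralizer_singleton_iff]
    have := congrArg (Subtype.val) hfixξ
    rw [hξ, cjAut_coe] at this
    exact conj_eq_iff.mp this
  have hcu := mem_centralizer_iff.mp (h.hC4 x hx hx1 hc) _ hu
  have hfixγ : γ (nrm ξ p v') = nrm ξ p v' := by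
    apply Subtype.ext
    rw [hγ, cjAut_coe]
    exact conj_eq_iff.mpr hcu
  have hN1 : nrm ξ p (γ v' * v'⁻¹) = 1 := nrm_comm_eq_one ξ γ hcomm p v' hfixγ
  set w' : ↥V1 := γ v' * v'⁻¹ with hw'
  have hw'coe : (w' : H) = c * v * c⁻¹ * v⁻¹ := by
    rw [hw']
    show ((γ v' : ↥V1) : H) * ((v' : H))⁻¹ = _
    rw [hγ, cjAut_coe]
  have hw'W : (w' : H) ∈ Wof V1 D := by
    rw [hw'coe]
    exact (Wof V1 D).mul_mem (conj_mem_of_le_normalizer (h.S_le_normalizer_Wof hD) hcS hv)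
      ((Wof V1 D).inv_mem hv)
  -- the other components
  set Y : Subgroup H := ⨆ D' : OtherHyper S0 T s D, V1 ⊓ centralizer ((D' : Subgroup H) : Set H)
    with hY
  have hpp : p = (p - 1) + 1 := by have := hp.out.pos; omega
  have hterm : ∀ i ∈ Finset.range (p - 1), (((ξ ^ (i + 1)) w' : ↥V1) : H) ∈ Y := by
    intro i hi
    rw [Finset.mem_range] at hi
    have hj0 : 0 < i + 1 := Nat.succ_pos i
    have hjp : i + 1 < p := by omega
    have hxjA : x ^ (i + 1) ∈ A := A.pow_mem hx _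
    have hDj : IsHyper S0 T s (cjSub (x ^ (i + 1)) D) :=
      hD.cjSub (h.hAS0 hxjA) (h.hAT hxjA)
    have hne : cjSub (x ^ (i + 1)) D ≠ D := by
      intro heq
      have h1 := mem_normalizer_of_cjSub_eq heq
      have h2 : zpowers (x ^ (i + 1)) ≤ normalizer (D : Set H) := zpowers_le.mpr h1
      exact hxD (h2 (mem_zpowers_pow hxp hj0 hjp))
    have hmem : (((ξ ^ (i + 1)) w' : ↥V1) : H) ∈ Wof V1 (cjSub (x ^ (i + 1)) D) := by
      rw [hξ, cjAut_pow_coe]
      exact conj_mem_Wof (h.hAV hxjA) hw'W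
    exact (le_iSup (fun D' : OtherHyper S0 T s D =>
      V1 ⊓ centralizer ((D' : Subgroup H) : Set H)) ⟨_, hDj, hne⟩) hmem
  have hprodY : ((∏ i ∈ Finset.range (p - 1), (ξ ^ (i + 1)) w' : ↥V1) : H) ∈ Y := by
    have : (∏ i ∈ Finset.range (p - 1), (ξ ^ (i + 1)) w') ∈ Y.comap V1.subtype := by
      apply Subgroup.prod_mem
      intro i hi
      exact hterm i hi
    exact this
  have hsplit := nrm_succ ξ (p - 1) w'
  rw [← hpp, hN1] at hsplit
  have hw'Y : (w' : H) ∈ Y := by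
    have h1 : w' = (∏ i ∈ Finset.range (p - 1), (ξ ^ (i + 1)) w')⁻¹ :=
      eq_inv_of_mul_eq_one_right hsplit.symm
    have h2 : (w' : H) = ((∏ i ∈ Finset.range (p - 1), (ξ ^ (i + 1)) w' : ↥V1) : H)⁻¹ := by
      conv_lhs => rw [h1]
      rfl
    rw [h2]
    exact Y.inv_mem hprodY
  have hbot := Cfsg.Agent.Helper31.Ward.ind_hyperplanes V1 T S0 h.hVab (h.hTS.trans h.hSV)
    (h.hSs.to_le h.hTS) h.hcops h.hS0T h.hS0
    (fun t ht u hu => h.hcomm t ht u (h.hTS hu)) h.hfix D hD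
  have hw'1 : (w' : H) = 1 := by
    have : (w' : H) ∈ (V1 ⊓ centralizer (D : Set H)) ⊓ Y := mem_inf.mpr ⟨hw'W, hw'Y⟩
    rw [hY, hbot, mem_bot] at this
    exact this
  rw [hw'coe] at hw'1
  calc v * c = (c * v * c⁻¹ * v⁻¹)⁻¹ * (c * v) := by group
    _ = c * v := by rw [hw'1]; group

end KeyHyp

end Cfsg.Agent.Helper21.Ward
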