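import Mathlib
import Cfsg.Agent.Helper21.WardKey2
import Cfsg.Agent.Helper23.Sup
import Cfsg.Agent.Helper75.ShultNilA
import Cfsg.Agent.Helper76.WardW1

set_option autoImplicit false
set_option linter.unusedSectionVars false
set_option linter.style.haveILetI false

/-!
# Ward's theorem (S3796): key lemma, parts (ii) and (iii)
-/

namespace Cfsg.Agent.Helper21.Ward

open Subgroup Cfsg.Agent.Helper71.Shult Cfsg.Agent.Helper48

variable {H : Type*} [Group H] [Finite H]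

/-- if `a` normalizes `Φ` and moves `t` inside `t Φ`, so does every power of `a` -/
theorem coset_stable_zpowers {Φ : Subgroup H} {t a : H} (ha : a ∈ normalizer (Φ : Set H))
    (h : t⁻¹ * (a * t * a⁻¹) ∈ Φ) : ∀ b ∈ zpowers a, t⁻¹ * (b * t * b⁻¹) ∈ Φ := by
  let K : Subgroup H :=
    { carrier := {b | b ∈ normalizer (Φ : Set H) ∧ t⁻¹ * (b * t * b⁻¹) ∈ Φ}
      one_mem' := ⟨Subgroup.one_mem _, by simp⟩
      mul_mem' := by
        rintro b c ⟨hb, hb'⟩ ⟨hc, hc'⟩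
        refine ⟨Subgroup.mul_mem _ hb hc, ?_⟩
        have h1 : b * (t⁻¹ * (c * t * c⁻¹)) * b⁻¹ ∈ Φ := (mem_normalizer_iff.mp hb _).mp hc'
        have h2 := Φ.mul_mem hb' h1
        have e : t⁻¹ * (b * t * b⁻¹) * (b * (t⁻¹ * (c * t * c⁻¹)) * b⁻¹)
            = t⁻¹ * (b * c * t * (b * c)⁻¹) := by group
        rwa [e] at h2
      inv_mem' := by
        rintro b ⟨hb, hb'⟩
        refine ⟨Subgroup.inv_mem _ hb, ?_⟩
        have h1 := Φ.inv_mem hb'
        have h2 : b⁻¹ * (t⁻¹ * (b * t * b⁻¹))⁻¹ * b⁻¹⁻¹ ∈ Φ :=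
          (mem_normalizer_iff.mp (Subgroup.inv_mem _ hb) _).mp h1
        have e : b⁻¹ * (t⁻¹ * (b * t * b⁻¹))⁻¹ * b⁻¹⁻¹ = t⁻¹ * (b⁻¹ * t * b⁻¹⁻¹) := by group
        rwa [e] at h2 }
  have hK : zpowers a ≤ K := zpowers_le.mpr ⟨ha, h⟩
  intro b hb
  exact (hK hb).2

namespace KeyHyp

variable {p s : ℕ} [hp : Fact p.Prime] [hs : Fact s.Prime] {A V1 S T S0 : Subgroup H}

/-- **Key lemma, part (ii).** -/
theorem key_ii (h : KeyHyp p s A V1 S T S0) {D : Subgroup H} (hD : IsHyper S0 T s D)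
    (hW : Wof V1 D ≠ ⊥) : ∃ x0 ∈ A, x0 ≠ 1 ∧ x0 ∈ normalizer (D : Set H) := by
  by_contra hcon
  push Not at hcon
  apply hW
  have h1 : cgen S A ≤ centralizer ((Wof V1 D : Subgroup H) : Set H) := by
    unfold cgen
    apply iSup_le
    rintro ⟨a, ha, ha1⟩
    exact h.key_i hD ha (hcon a ha ha1)
  have h2 : S ≤ centralizer ((Wof V1 D : Subgroup H) : Set H) :=
    (le_cgen S A h.not_dvd_card_S h.hAS h.hA).trans h1
  obtain ⟨t, ht, htD⟩ := h.exists_not_mem hD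
  rw [eq_bot_iff]
  intro w hw
  rw [mem_bot]
  have h3 := mem_centralizer_iff.mp (h2 (h.hTS ht)) w hw
  exact h.eq_one_of_commute hD ht htD hw (conj_eq_iff.mpr h3)

theorem not_dvd_card_of_le (h : KeyHyp p s A V1 S T S0) {K : Subgroup H} (hK : K ≤ S) :
    ¬ p ∣ Nat.card K := fun hd =>
  h.not_dvd_card_S (hd.trans (Subgroup.card_dvd_of_le hK))

/-- **Key lemma, part (iii).** -/
theorem key_iii (h : KeyHyp p s A V1 S T S0) {D : Subgroup H} (hD : IsHyper S0 T s D)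
    (hAD : A ≤ normalizer (D : Set H)) :
    ∃ x0 ∈ A, x0 ≠ 1 ∧ ∀ x ∈ A, x ∉ zpowers x0 →
      S ⊓ centralizer {x} ≤ centralizer ((Wof V1 D : Subgroup H) : Set H) := by
  classical
  have hDS : D ≤ S := hD.2.1.trans h.hTS
  -- Step 1
  have step1 : ∃ x0 ∈ A, x0 ≠ 1 ∧ ∃ t0 ∈ T, t0 ∈ centralizer {x0} ∧ t0 ∉ D := by
    by_contra hcon
    push Not at hcon
    have h1 : cgen T A ≤ D := by
      unfold cgen
      apply iSup_le
      rintro ⟨a, ha, ha1⟩ t ht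
      exact hcon a ha ha1 t ht.1 ht.2
    have h2 : T ≤ D := (le_cgen T A (h.not_dvd_card_of_le h.hTS) h.hAT h.hA).trans h1
    obtain ⟨t, ht, htD⟩ := h.exists_not_mem hD
    exact htD (h2 ht)
  obtain ⟨x0, hx0, hx01, t0, ht0, ht0c, ht0D⟩ := step1
  refine ⟨x0, hx0, hx01, ?_⟩
  intro x hx hxn c hc
  have hcS : c ∈ S := hc.1
  have hcx : c * x = x * c := mem_centralizer_singleton_iff.mp hc.2
  have hxp : x ^ p = 1 := h.hA.2.1 x hx
  have hx1 : x ≠ 1 := by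
    rintro rfl
    exact hxn (Subgroup.one_mem _)
  have hxx0 : x * x0 = x0 * x := h.hA.1 x hx x0 hx0
  have ht0S : t0 ∈ S := h.hTS ht0
  have ht0x0 : t0 * x0 = x0 * t0 := mem_centralizer_singleton_iff.mp ht0c
  -- Step 3
  have step3 : x * t0 * x⁻¹ * t0⁻¹ ∉ D := by
    intro hmem
    set Φ : Subgroup H := D ⊓ centralizer {x0} with hΦ
    have hxΦ : x ∈ normalizer (Φ : Set H) := by
      have h1 : zpowers x ≤ normalizer (D : Set H) := zpowers_le.mpr (hAD hx)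
      have h2 : zpowers x ≤ normalizer ((centralizer {x0} : Subgroup H) : Set H) := by
        refine (?_ : zpowers x ≤ centralizer {x0}).trans Subgroup.le_normalizer
        rw [zpowers_le, mem_centralizer_singleton_iff]
        exact hxx0
      exact (inf_le_normalizer h1 h2) (mem_zpowers x)
    have hcos : t0⁻¹ * (x * t0 * x⁻¹) ∈ Φ := by
      refine mem_inf.mpr ⟨?_, ?_⟩
      · have := conj_inv_mem_of_le_normalizer (h.S_le_normalizer_D hD) ht0S hmem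
        have e : t0⁻¹ * (x * t0 * x⁻¹ * t0⁻¹) * t0 = t0⁻¹ * (x * t0 * x⁻¹) := by group
        rwa [e] at this
      · have hxc : x ∈ centralizer {x0} := mem_centralizer_singleton_iff.mpr hxx0
        exact Subgroup.mul_mem _ (Subgroup.inv_mem _ ht0c)
          (Subgroup.mul_mem _ (Subgroup.mul_mem _ hxc ht0c) (Subgroup.inv_mem _ hxc))
    have hpz : IsPGroup p (zpowers x) := (IsEA2.isPGroup h.hA).to_le (zpowers_le.mpr hx)
    have hΦS : Φ ≤ S := inf_le_left.trans hDS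
    obtain ⟨y, hy1, hy2⟩ := Cfsg.Agent.Helper75.ShultNil.exists_fixed_in_coset hpz
      (h.not_dvd_card_of_le hΦS) (zpowers_le.mpr hxΦ) t0
      (coset_stable_zpowers hxΦ hcos)
    have hyT : y ∈ T := by
      have := T.mul_mem ht0 (hD.2.1 hy1.1)
      rwa [mul_inv_cancel_left] at this
    have hyx0 : y ∈ centralizer {x0} := by
      have := Subgroup.mul_mem _ ht0c hy1.2
      rwa [mul_inv_cancel_left] at this
    have hyx : y ∈ centralizer {x} := by
      rw [mem_centralizer_singleton_iff]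
      exact conj_eq_iff.mp (hy2 x (mem_zpowers x))
    have hyA : y ∈ S ⊓ centralizer (A : Set H) :=
      mem_inf.mpr ⟨h.hTS hyT, IsEA2.mem_centralizer_of_commute h.hA hx0 hx01 hx hxn hyx0 hyx⟩
    rw [h.hC5, mem_bot] at hyA
    rw [hyA, mul_one] at hy1
    exact ht0D (by simpa using D.inv_mem hy1.1)
  -- Step 4
  have step4 : ∃ k : ℕ, ∃ d ∈ D, x * t0 * x⁻¹ = d * t0 ^ k ∧ ¬ k ≡ 1 [MOD s] := by
    have hxt : x * t0 * x⁻¹ ∈ T := conj_mem_of_le_normalizer h.hAT hx ht0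
    have hle := h.le_sup_zpowers hD ht0 ht0D
    have hnorm : zpowers t0 ≤ normalizer (D : Set H) :=
      (zpowers_le.mpr ht0S).trans (h.S_le_normalizer_D hD)
    obtain ⟨d, hd, b, hb, hdb⟩ :=
      (Cfsg.Agent.Helper23.mem_sup_iff_of_le_normalizer hnorm).mp (hle hxt)
    rw [← mem_powers_iff_mem_zpowers] at hb
    obtain ⟨k, rfl⟩ := (Submonoid.mem_powers_iff b t0).mp hb
    refine ⟨k, d, hd, hdb, ?_⟩
    intro hk
    apply step3
    have hk1 : k % s = 1 := by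
      have := hk
      unfold Nat.ModEq at this
      rw [this, Nat.mod_eq_of_lt hs.out.one_lt]
    have hk2 : k = s * (k / s) + 1 := by
      have := Nat.div_add_mod k s
      omega
    have h3 : t0 ^ k = (t0 ^ s) ^ (k / s) * t0 := by
      conv_lhs => rw [hk2]
      rw [pow_add, pow_mul, pow_one]
    rw [hdb, h3]
    have h4 : (t0 ^ s) ^ (k / s) ∈ D := D.pow_mem (hD.1 (h.hpow t0 ht0)) _
    have e : d * ((t0 ^ s) ^ (k / s) * t0) * t0⁻¹ = d * (t0 ^ s) ^ (k / s) := by group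
    rw [e]
    exact D.mul_mem hd h4
  obtain ⟨k, d, hd, hrel0, hk⟩ := step4
  -- Step 5
  set W : Subgroup H := Wof V1 D with hWdef
  have hWV : W ≤ V1 := inf_le_left
  letI : CommGroup ↥W := { (inferInstance : Group ↥W) with
    mul_comm := fun u v => Subtype.ext (h.hVab u (hWV u.2) v (hWV v.2)) }
  have hSW : S ≤ normalizer (W : Set H) := h.S_le_normalizer_Wof hD
  have hAW : A ≤ normalizer (W : Set H) := le_normalizer_Wof V1 h.hAV hAD
  have htN : t0 ∈ normalizer (W : Set H) := hSW ht0S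
  have hxN : x ∈ normalizer (W : Set H) := hAW hx
  set τ : MulAut ↥W := cjAut W t0 htN with hτ
  set ξ : MulAut ↥W := cjAut W x hxN with hξ
  have hcentW : centralizer (V1 : Set H) ≤ centralizer (W : Set H) :=
    Subgroup.centralizer_le hWV
  have hτs : τ ^ s = 1 := by
    rw [hτ, cjAut_pow]
    exact cjAut_eq_one_of_mem_centralizer W _ _ (hcentW (h.hS0 (h.hpow t0 ht0)))
  have hξp : ξ ^ p = 1 := by
    ext w
    rw [hξ, cjAut_pow_coe, hxp, MulAut.one_apply]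
    group
  have hrel : ξ * τ * ξ⁻¹ = τ ^ k := by
    rw [hξ, hτ, cjAut_inv, cjAut_mul, cjAut_mul, cjAut_pow]
    ext w
    rw [cjAut_coe, cjAut_coe, hrel0]
    have hw' : t0 ^ k * (w : H) * (t0 ^ k)⁻¹ ∈ W :=
      (mem_normalizer_iff.mp ((normalizer (W : Set H)).pow_mem htN k) _).mp w.2
    have hdc := mem_centralizer_iff.mp hw'.2 d hd
    calc d * t0 ^ k * (w : H) * (d * t0 ^ k)⁻¹
        = (d * (t0 ^ k * (w : H) * (t0 ^ k)⁻¹)) * d⁻¹ := by group
      _ = ((t0 ^ k * (w : H) * (t0 ^ k)⁻¹) * d) * d⁻¹ := by rw [hdc]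
      _ = t0 ^ k * (w : H) * (t0 ^ k)⁻¹ := by group
  have hfix : ∀ w : ↥W, τ w = w → w = 1 := by
    intro w hw
    apply Subtype.ext
    have := congrArg Subtype.val hw
    rw [hτ, cjAut_coe] at this
    exact h.eq_one_of_commute hD ht0 ht0D w.2 this
  have hcop : (Nat.card ↥W).Coprime s :=
    Nat.Coprime.coprime_dvd_left (Subgroup.card_dvd_of_le hWV) h.hcops
  set Y : Subgroup ↥W := (centralizer {c}).subgroupOf W with hY
  have hY1 : ∀ w : ↥W, (∏ i ∈ Finset.range p, (ξ ^ i) w) ∈ Y := by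
    intro w
    have hfixξ : ξ (nrm ξ p w) = nrm ξ p w := nrm_fixed ξ hξp w
    have hu : ((nrm ξ p w : ↥W) : H) ∈ V1 ⊓ centralizer {x} := by
      refine mem_inf.mpr ⟨hWV (nrm ξ p w).2, ?_⟩
      rw [mem_centralizer_singleton_iff]
      have := congrArg (Subtype.val) hfixξ
      rw [hξ, cjAut_coe] at this
      exact conj_eq_iff.mp this
    have hcu := mem_centralizer_iff.mp (h.hC4 x hx hx1 hc) _ hu
    show (∏ i ∈ Finset.range p, (ξ ^ i) w) ∈ (centralizer {c}).subgroupOf W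
    rw [mem_subgroupOf, mem_centralizer_singleton_iff]
    exact hcu
  have hY2 : ∀ y ∈ Y, τ y ∈ Y := by
    intro y hy
    rw [hY, mem_subgroupOf, mem_centralizer_singleton_iff] at hy ⊢
    rw [hτ, cjAut_coe]
    -- `z = t0 c t0⁻¹ c⁻¹ ∈ S0` centralizes `V1`
    have hz : t0 * c * t0⁻¹ * c⁻¹ ∈ S0 := h.hcomm t0 ht0 c hcS
    have hzc := h.hS0 hz
    have hyV : t0 * (y : H) * t0⁻¹ ∈ V1 := hWV ((mem_normalizer_iff.mp htN _).mp y.2)
    have hzy := mem_centralizer_iff.mp hzc _ hyV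
    -- c * (t0 y t0⁻¹) = z⁻¹ t0 c y c⁻¹ ...
    have e1 : c * (t0 * (y : H) * t0⁻¹) * c⁻¹
        = (t0 * c * t0⁻¹ * c⁻¹)⁻¹ * (t0 * (c * (y : H) * c⁻¹) * t0⁻¹) * (t0 * c * t0⁻¹ * c⁻¹) := by
      group
    have e2 : c * (y : H) * c⁻¹ = y := conj_eq_iff.mpr hy
    have e3 : c * (t0 * (y : H) * t0⁻¹) * c⁻¹ = t0 * (y : H) * t0⁻¹ := by
      rw [e1, e2]
      calc (t0 * c * t0⁻¹ * c⁻¹)⁻¹ * (t0 * (y : H) * t0⁻¹) * (t0 * c * t0⁻¹ * c⁻¹)
          = (t0 * c * t0⁻¹ * c⁻¹)⁻¹ * ((t0 * (y : H) * t0⁻¹) * (t0 * c * t0⁻¹ * c⁻¹)) := by group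
        _ = (t0 * c * t0⁻¹ * c⁻¹)⁻¹ * ((t0 * c * t0⁻¹ * c⁻¹) * (t0 * (y : H) * t0⁻¹)) := by
            rw [hzy]
        _ = t0 * (y : H) * t0⁻¹ := by group
    exact conj_eq_iff.mp e3
  have hYtop := Cfsg.Agent.Helper76.WardW1.frob_gen hs.out hp.out τ ξ hτs hξp hrel hk hfix hcop Y hY1 hY2
  rw [mem_centralizer_iff]
  intro w hw
  have : (⟨w, hw⟩ : ↥W) ∈ Y := by rw [hYtop]; exact mem_top _
  rw [hY, mem_subgroupOf, mem_centralizer_singleton_iff] at this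
  exact this

end KeyHyp

end Cfsg.Agent.Helper21.Ward
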