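import Mathlib
import Cfsg.Agent.Helper21.WardDefs
import Cfsg.Agent.Helper21.WardKey3

set_option autoImplicit false
set_option linter.unusedSectionVars false
set_option linter.style.haveILetI false

/-!
# Ward's theorem (S3796): the key lemma and the tower lemma `LemmaCStmt`
-/

namespace Cfsg.Agent.Helper21.Ward

open Subgroup Cfsg.Agent.Helper71.Shult Cfsg.Agent.Helper48
open scoped commutatorElement

variable {H : Type*} [Group H] [Finite H]

/-- The commutator of two `W`-invariant subgroups is `W`-invariant. -/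
theorem le_normalizer_commutator {W A B : Subgroup H} (hA : W ≤ normalizer (A : Set H))
    (hB : W ≤ normalizer (B : Set H)) : W ≤ normalizer ((⁅A, B⁆ : Subgroup H) : Set H) := by
  apply le_normalizer_of_conj_mem
  intro x hx c hc
  have h1 : A.map (MulAut.conj x).toMonoidHom ≤ A := by
    rintro _ ⟨a, ha, rfl⟩
    exact conj_mem_of_le_normalizer hA hx ha
  have h2 : B.map (MulAut.conj x).toMonoidHom ≤ B := by
    rintro _ ⟨b, hb, rfl⟩
    exact conj_mem_of_le_normalizer hB hx hb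
  have h3 : x * c * x⁻¹ ∈ (⁅A, B⁆).map (MulAut.conj x).toMonoidHom := ⟨c, hc, rfl⟩
  rw [Subgroup.map_commutator] at h3
  exact Subgroup.commutator_mono h1 h2 h3

/-- `[A, B] ≤ A` when `B` normalizes `A`. -/
theorem commutator_le_left_of_le_normalizer {A B : Subgroup H}
    (h : B ≤ normalizer (A : Set H)) : ⁅A, B⁆ ≤ A := by
  rw [Subgroup.commutator_le]
  intro a ha b hb
  have h1 := conj_mem_of_le_normalizer h hb (A.inv_mem ha)
  have e : ⁅a, b⁆ = a * (b * a⁻¹ * b⁻¹) := by rw [commutatorElement_def]; group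
  rw [e]
  exact A.mul_mem ha h1

theorem cjSub_cjSub_inv (g : H) (D : Subgroup H) : cjSub g⁻¹ (cjSub g D) = D := by
  ext x
  constructor
  · rintro ⟨_, ⟨d, hd, rfl⟩, rfl⟩
    simpa [MulAut.conj_apply, mul_assoc] using hd
  · intro hx
    refine ⟨g * x * g⁻¹, ⟨x, hx, rfl⟩, ?_⟩
    simp [MulAut.conj_apply, mul_assoc]

/-- `g W(D) g⁻¹ = W(g D g⁻¹)` for `g ∈ N(V1)` -/
theorem cjSub_Wof {V1 D : Subgroup H} {g : H} (hg : g ∈ normalizer (V1 : Set H)) :
    cjSub g (KeyHyp.Wof V1 D) = KeyHyp.Wof V1 (cjSub g D) := by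
  apply le_antisymm
  · rintro _ ⟨w, hw, rfl⟩
    exact conj_mem_Wof hg hw
  · intro w hw
    have h1 := conj_mem_Wof ((normalizer (V1 : Set H)).inv_mem hg) hw
    rw [cjSub_cjSub_inv] at h1
    refine ⟨g⁻¹ * w * g⁻¹⁻¹, h1, ?_⟩
    simp [MulAut.conj_apply, mul_assoc]

namespace KeyHyp

variable {p s : ℕ} [hp : Fact p.Prime] [hs : Fact s.Prime] {A V1 S T S0 : Subgroup H}

/-- **Key lemma.** -/
theorem key (h : KeyHyp p s A V1 S T S0) {D : Subgroup H} (hD : IsHyper S0 T s D)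
    (hW : Wof V1 D ≠ ⊥) :
    ∃ x0 ∈ A, x0 ≠ 1 ∧ x0 ∈ normalizer ((Wof V1 D : Subgroup H) : Set H) ∧
      ∀ x ∈ A, x ∉ zpowers x0 →
        S ⊓ centralizer {x} ≤ centralizer ((Wof V1 D : Subgroup H) : Set H) := by
  by_cases hAD : A ≤ normalizer (D : Set H)
  · obtain ⟨x0, hx0, hx01, hrest⟩ := h.key_iii hD hAD
    exact ⟨x0, hx0, hx01, le_normalizer_Wof V1 h.hAV hAD hx0, hrest⟩
  · obtain ⟨x0, hx0, hx01, hx0D⟩ := h.key_ii hD hW
    have hz : zpowers x0 ≤ normalizer (D : Set H) := zpowers_le.mpr hx0D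
    have hzV : zpowers x0 ≤ normalizer (V1 : Set H) := (zpowers_le.mpr hx0).trans h.hAV
    refine ⟨x0, hx0, hx01, le_normalizer_Wof V1 hzV hz (mem_zpowers x0), ?_⟩
    intro x hx hxn
    apply h.key_i hD hx
    intro hxD
    apply hAD
    refine (IsEA2.le_sup_zpowers h.hA hx0 hx01 hx hxn).trans ?_
    exact sup_le hz (zpowers_le.mpr hxD)

/-- `S` does not centralize a nontrivial `W(D)` -/
theorem not_le_centralizer_Wof (h : KeyHyp p s A V1 S T S0) {D : Subgroup H}
    (hD : IsHyper S0 T s D) (hW : Wof V1 D ≠ ⊥) :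
    ¬ S ≤ centralizer ((Wof V1 D : Subgroup H) : Set H) := by
  intro hle
  apply hW
  obtain ⟨t, ht, htD⟩ := h.exists_not_mem hD
  rw [eq_bot_iff]
  intro w hw
  rw [mem_bot]
  have h3 := mem_centralizer_iff.mp (hle (h.hTS ht)) w hw
  exact h.eq_one_of_commute hD ht htD hw (conj_eq_iff.mpr h3)

end KeyHyp

end Cfsg.Agent.Helper21.Ward
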