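import Mathlib
import Cfsg.Agent.Helper21.THDefs2
import Cfsg.Agent.Helper21.WardC
import Cfsg.Agent.Helper71.ShultBasic
import Cfsg.Agent.Helper75.ShultNilA

/-!
# S3797: the minimal configuration `(X, D, U, R)` (helper21)
-/

set_option autoImplicit false
set_option linter.unusedSectionVars false

namespace Cfsg.Agent.Helper21.TH

open Subgroup Cfsg.Agent.Helper71.Shult Cfsg.Agent.Helper75.ShultNil
open scoped commutatorElement

universe u

variable {G : Type u} [Group G]

section basic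

variable [Finite G] {X D U R : Subgroup G}

theorem MCfg.D_le (h : MCfg X D U R) : D ≤ X := by rw [h.hD]; exact inf_le_left

theorem MCfg.D_le_cent (h : MCfg X D U R) : D ≤ centralizer (U : Set G) := by
  rw [h.hD]; exact inf_le_right

theorem MCfg.X_norm_D (h : MCfg X D U R) : X ≤ normalizer (D : Set G) := by
  rw [h.hD]
  exact inf_le_normalizer le_normalizer (le_normalizer_centralizer h.hXU)

theorem MCfg.R_norm_D (h : MCfg X D U R) : R ≤ normalizer (D : Set G) := by
  rw [h.hD]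
  exact inf_le_normalizer h.hRX (le_normalizer_centralizer h.hRU)

theorem MCfg.D_ne (h : MCfg X D U R) : D ≠ X := by
  intro he
  have := h.hidx
  rw [he, Subgroup.relIndex_self] at this
  omega

theorem MCfg.not_le (h : MCfg X D U R) : ¬ X ≤ centralizer (U : Set G) := by
  intro hle
  apply h.D_ne
  rw [h.hD]
  exact inf_eq_left.mpr hle

/-- The Frattini subgroup of `X` lies in `D`. -/
theorem MCfg.fratIn_le (h : MCfg X D U R) : fratIn X ≤ D := by
  have hF : fratIn X ⊔ D ≤ X := sup_le (Cfsg.Agent.Helper75.ShultNil.fratIn_le X) h.D_le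
  have hRF : R ≤ normalizer ((fratIn X ⊔ D : Subgroup G) : Set G) :=
    sup_le_normalizer (h.hRX.trans (normalizer_le_normalizer_fratIn X)) h.R_norm_D
  have hne : fratIn X ⊔ D ≠ X := by
    intro he
    -- `D.subgroupOf X` lies in a coatom `M`; the Frattini subgroup too
    have hDX : D.subgroupOf X ≠ ⊤ := by
      intro ht
      rw [Subgroup.subgroupOf_eq_top] at ht
      exact h.D_ne (le_antisymm h.D_le ht)
    rcases IsCoatomic.eq_top_or_exists_le_coatom (D.subgroupOf X) with h1 | ⟨M, hM, hDM⟩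
    · exact hDX h1
    · have h2 : frattini ↥X ≤ M := frattini_le_coatom hM
      have h3 : (fratIn X ⊔ D).subgroupOf X ≤ M := by
        intro z hz
        rw [Subgroup.mem_subgroupOf] at hz
        -- z.1 ∈ fratIn X ⊔ D
        have h4 : fratIn X ⊔ D ≤ M.map X.subtype := by
          apply sup_le
          · exact Subgroup.map_mono h2
          · intro d hd
            exact ⟨⟨d, h.D_le hd⟩, hDM (by rw [Subgroup.mem_subgroupOf]; exact hd), rfl⟩
        obtain ⟨w, hw, hwz⟩ := h4 hz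
        have : w = z := Subtype.ext hwz
        rwa [← this]
      rw [he] at h3
      have h5 : (X.subgroupOf X) = ⊤ := Subgroup.subgroupOf_self X
      rw [h5] at h3
      exact hM.1 (eq_top_iff.mpr h3)
  have hlt : fratIn X ⊔ D < X := lt_of_le_of_ne hF hne
  exact le_sup_left.trans (h.hXmin _ hlt hRF)

theorem MCfg.sq_mem (h : MCfg X D U R) {x : G} (hx : x ∈ X) : x ^ 2 ∈ D :=
  haveI : Fact (Nat.Prime 2) := ⟨Nat.prime_two⟩
  h.fratIn_le (pow_mem_fratIn h.hX2 hx)

theorem MCfg.comm_mem (h : MCfg X D U R) {x y : G} (hx : x ∈ X) (hy : y ∈ X) : ⁅x, y⁆ ∈ D :=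
  haveI : Fact (Nat.Prime 2) := ⟨Nat.prime_two⟩
  h.fratIn_le (commutator_mem_fratIn h.hX2 hx hy)


/-- `x u x⁻¹ = u c` with `c` commuting with `x`: then `x^k u x^{-k} = u c^k`. -/
theorem conj_pow_eq {x u c : G} (h : x * u * x⁻¹ = u * c) (hc : x * c = c * x) (k : ℕ) :
    x ^ k * u * (x ^ k)⁻¹ = u * c ^ k := by
  induction k with
  | zero => simp
  | succ k ih =>
    have hck : x * c ^ k = c ^ k * x := (Commute.pow_right (show Commute x c from hc) k).eq
    calc x ^ (k + 1) * u * (x ^ (k + 1))⁻¹ = x * (x ^ k * u * (x ^ k)⁻¹) * x⁻¹ := by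
          rw [pow_succ']; group
      _ = x * (u * c ^ k) * x⁻¹ := by rw [ih]
      _ = (x * u * x⁻¹) * (x * c ^ k * x⁻¹) := by group
      _ = (u * c) * (c ^ k * x * x⁻¹) := by rw [h, hck]
      _ = u * c ^ (k + 1) := by rw [pow_succ']; group

/-- a `2`-element `x` and an odd-order element `c` commuting with `x`, `x u x⁻¹ = u c`: then `c = 1`. -/
theorem eq_one_of_conj_eq_mul {x u c : G} {e m : ℕ} (hx : x ^ (2 ^ e) = 1) (hcm : c ^ m = 1) (hm : Odd m)
    (h : x * u * x⁻¹ = u * c) (hc : x * c = c * x) : c = 1 := by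
  have h1 := conj_pow_eq h hc (2 ^ e)
  rw [hx] at h1
  have h2 : c ^ (2 ^ e) = 1 := by
    have : u = u * c ^ (2 ^ e) := by simpa using h1
    exact (mul_eq_left.mp this.symm)
  have hcop : Nat.Coprime (2 ^ e) m := Nat.Coprime.pow_left e (Nat.coprime_two_left.mpr hm)
  have h3 : orderOf c ∣ Nat.gcd (2 ^ e) m :=
    Nat.dvd_gcd (orderOf_dvd_of_pow_eq_one h2) (orderOf_dvd_of_pow_eq_one hcm)
  rw [hcop] at h3
  exact orderOf_eq_one_iff.mp (Nat.dvd_one.mp h3)

/-- `[U, X] = U`. -/
theorem MCfg.comm_eq (h : MCfg X D U R) : ⁅U, X⁆ = U := by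
  have hle : ⁅U, X⁆ ≤ U := Cfsg.Agent.Helper21.Ward.commutator_le_left_of_le_normalizer h.hXU
  by_contra hne
  have hlt : ⁅U, X⁆ < U := lt_of_le_of_ne hle hne
  have hXW : X ≤ normalizer ((⁅U, X⁆ : Subgroup G) : Set G) :=
    Cfsg.Agent.Helper21.Ward.le_normalizer_commutator h.hXU le_normalizer
  have hRW : R ≤ normalizer ((⁅U, X⁆ : Subgroup G) : Set G) :=
    Cfsg.Agent.Helper21.Ward.le_normalizer_commutator h.hRU h.hRX
  have hcent := h.hUmin _ hlt hXW hRW
  apply h.not_le
  intro x hx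
  rw [mem_centralizer_iff]
  intro u hu
  -- c = u⁻¹ * (x u x⁻¹) ∈ [U, X]
  set c := u⁻¹ * (x * u * x⁻¹) with hcdef
  have hcW : c ∈ ⁅U, X⁆ := by
    have h1 : ⁅u⁻¹, x⁆ ∈ ⁅U, X⁆ := Subgroup.commutator_mem_commutator (U.inv_mem hu) hx
    have e : ⁅u⁻¹, x⁆ = c := by rw [commutatorElement_def, hcdef]; group
    rwa [e] at h1
  have hxc : x * c = c * x := ((mem_centralizer_iff.mp (hcent hx)) c hcW).symm
  have hconj : x * u * x⁻¹ = u * c := by rw [hcdef]; group
  obtain ⟨e, he⟩ := (IsPGroup.iff_orderOf.mp h.hX2) ⟨x, hx⟩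
  have hxe : x ^ (2 ^ e) = 1 := by
    have : orderOf x = 2 ^ e := by rw [← Subgroup.orderOf_mk x hx]; exact he
    rw [← this]; exact pow_orderOf_eq_one x
  have hcU : c ∈ U := hle hcW
  have hcm : c ^ (Nat.card U) = 1 := by
    have := pow_card_eq_one' (G := ↥U) (x := ⟨c, hcU⟩)
    exact congrArg Subtype.val this
  have hc1 := eq_one_of_conj_eq_mul hxe hcm h.hUodd hconj hxc
  rw [hc1, mul_one] at hconj
  calc u * x = (x * u * x⁻¹) * x := by rw [hconj]
    _ = x * u := by group

theorem MCfg.U_ne_bot (h : MCfg X D U R) : U ≠ ⊥ := by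
  intro he
  apply h.not_le
  rw [he]
  intro x _
  rw [mem_centralizer_iff]
  intro u hu
  have : u = 1 := by simpa using hu
  rw [this]; simp

/-- `X` centralizes `U'`. -/
theorem MCfg.X_cent_derived (h : MCfg X D U R) : X ≤ centralizer ((⁅U, U⁆ : Subgroup G) : Set G) := by
  have hle : ⁅U, U⁆ ≤ U := Cfsg.Agent.Helper21.Ward.commutator_le_left_of_le_normalizer le_normalizer
  have hne : ⁅U, U⁆ ≠ U := by
    intro he
    haveI := h.hUsol
    haveI : Nontrivial ↥U := (Subgroup.nontrivial_iff_ne_bot U).mpr h.U_ne_bot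
    have h1 := IsSolvable.commutator_lt_top_of_nontrivial ↥U
    have h2 : (_root_.commutator ↥U).map U.subtype = ⁅U, U⁆ := Subgroup.map_subtype_commutator U
    rw [he] at h2
    have h3 : _root_.commutator ↥U = ⊤ := by
      rw [eq_top_iff]
      intro z _
      have : (z : G) ∈ (_root_.commutator ↥U).map U.subtype := by rw [h2]; exact z.2
      obtain ⟨w, hw, hwz⟩ := this
      have : w = z := Subtype.ext hwz
      rwa [← this]
    exact h1.ne h3
  exact h.hUmin _ (lt_of_le_of_ne hle hne)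
    (Cfsg.Agent.Helper21.Ward.le_normalizer_commutator h.hXU h.hXU)
    (Cfsg.Agent.Helper21.Ward.le_normalizer_commutator h.hRU h.hRU)

/-- a subgroup `K ≤ U` centralized by `X` with `[U, K]` centralized by `X` is central in `U`. -/
theorem MCfg.central_of (h : MCfg X D U R) {K : Subgroup G} (hKX : X ≤ centralizer (K : Set G))
    (hUK : X ≤ centralizer ((⁅U, K⁆ : Subgroup G) : Set G)) : K ≤ centralizer (U : Set G) := by
  have h1 : ⁅⁅U, K⁆, X⁆ = ⊥ :=
    commutator_eq_bot_of_le_centralizer (le_centralizer_symm hUK)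
  have h2 : ⁅⁅K, X⁆, U⁆ = ⊥ := by
    have : ⁅K, X⁆ = ⊥ := commutator_eq_bot_of_le_centralizer (le_centralizer_symm hKX)
    rw [this]; exact Subgroup.commutator_bot_left U
  have h3 : ⁅⁅X, U⁆, K⁆ = ⊥ := Subgroup.commutator_commutator_eq_bot_of_rotate h1 h2
  rw [Subgroup.commutator_comm X U, h.comm_eq] at h3
  exact le_centralizer_symm (Subgroup.commutator_eq_bot_iff_le_centralizer.mp h3)

/-- `U' ≤ Z(U)`. -/
theorem MCfg.derived_central (h : MCfg X D U R) : ⁅U, U⁆ ≤ centralizer (U : Set G) := by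
  apply h.central_of h.X_cent_derived
  have hle : ⁅U, ⁅U, U⁆⁆ ≤ ⁅U, U⁆ := Subgroup.commutator_mono le_rfl
    (Cfsg.Agent.Helper21.Ward.commutator_le_left_of_le_normalizer le_normalizer)
  exact h.X_cent_derived.trans (Subgroup.centralizer_le (by exact_mod_cast hle))

/-- `C_U(X) ≤ Z(U)`. -/
theorem MCfg.fix_central (h : MCfg X D U R) : U ⊓ centralizer (X : Set G) ≤ centralizer (U : Set G) := by
  apply h.central_of
  · exact le_centralizer_symm inf_le_right
  · have hle : ⁅U, U ⊓ centralizer (X : Set G)⁆ ≤ ⁅U, U⁆ := Subgroup.commutator_mono le_rfl inf_le_left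
    exact h.X_cent_derived.trans (Subgroup.centralizer_le (by exact_mod_cast hle))

/-- `U' ≤ C_U(X)`. -/
theorem MCfg.derived_le_fix (h : MCfg X D U R) : ⁅U, U⁆ ≤ U ⊓ centralizer (X : Set G) :=
  le_inf (Cfsg.Agent.Helper21.Ward.commutator_le_left_of_le_normalizer le_normalizer)
    (le_centralizer_symm h.X_cent_derived)

end basic

end Cfsg.Agent.Helper21.TH
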