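import Mathlib
import Cfsg.Agent.Helper3.S3S3Defs

/-!
# S3341 (helper21): definitions for the self-centralizing `3²` configuration

`G` simple, `T` a Sylow 3-subgroup, elementary abelian of order 9, `C_G(s) = T` for all `s ∈ T#`,
more than one class of elements of order 3.  Then `N_G(T) = T ⋊ E` is a Frobenius group with
`E ≅ C₂` or `C₄`; `NData2`/`NData4` are the two normalizer structures in coordinates,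
`Loc2`/`Loc4` the purely local data handed to character theory.
-/

set_option autoImplicit false

namespace Cfsg.Agent.Helper21.A6

open Cfsg.Agent.Helper3.S3S3 (pairCount)

universe u
variable {G : Type u} [Group G]

/-- The hypotheses on the Sylow 3-subgroup `T`. -/
structure Hyp (T : Subgroup G) : Prop where
  commT : ∀ s ∈ T, ∀ t ∈ T, s * t = t * s
  expT : ∀ t ∈ T, t ^ 3 = 1
  cardT : Nat.card T = 9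
  cent : ∀ s ∈ T, s ≠ 1 → Subgroup.centralizer ({s} : Set G) = T

/-- `N_G(T) = T ⋊ ⟨j⟩`, `j` of order 4 modulo `T`, in coordinates:
`j x j⁻¹ = y`, `j y j⁻¹ = x⁻¹`. -/
structure NData4 (T : Subgroup G) (x y j : G) : Prop where
  x3 : x ^ 3 = 1
  y3 : y ^ 3 = 1
  x1 : x ≠ 1
  y1 : y ≠ 1
  comm : x * y = y * x
  commT : ∀ s ∈ T, ∀ t ∈ T, s * t = t * s
  xT : x ∈ T
  yT : y ∈ T
  indep : ∀ i k : ℕ, x ^ i = y ^ k → x ^ i = 1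
  memT : ∀ t ∈ T, ∃ i k : ℕ, t = x ^ i * y ^ k
  jN : j ∈ Subgroup.normalizer (T : Set G)
  jx : j * x * j⁻¹ = y
  jy : j * y * j⁻¹ = x⁻¹
  memN : ∀ n ∈ Subgroup.normalizer (T : Set G),
    ∃ t ∈ T, n = t ∨ n = t * j ∨ n = t * j ^ 2 ∨ n = t * j ^ 3

/-- `N_G(T) = T ⋊ ⟨t⟩`, `t` inverting `T`, in coordinates. -/
structure NData2 (T : Subgroup G) (x y t : G) : Prop where
  x3 : x ^ 3 = 1
  y3 : y ^ 3 = 1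
  x1 : x ≠ 1
  y1 : y ≠ 1
  comm : x * y = y * x
  commT : ∀ s ∈ T, ∀ u ∈ T, s * u = u * s
  xT : x ∈ T
  yT : y ∈ T
  indep : ∀ i k : ℕ, x ^ i = y ^ k → x ^ i = 1
  memT : ∀ s ∈ T, ∃ i k : ℕ, s = x ^ i * y ^ k
  tN : t ∈ Subgroup.normalizer (T : Set G)
  tx : t * x * t⁻¹ = x⁻¹
  ty : t * y * t⁻¹ = y⁻¹
  memN : ∀ n ∈ Subgroup.normalizer (T : Set G), ∃ s ∈ T, n = s ∨ n = s * t

/-- Local data in the `C₄` case: two classes of 3-elements, represented by `x` and `x * y`. -/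
structure Loc4 [Fintype G] [DecidableEq G] (x y : G) : Prop where
  x3 : x ^ 3 = 1
  z3 : (x * y) ^ 3 = 1
  x1 : x ≠ 1
  z1 : x * y ≠ 1
  xi : IsConj x x⁻¹
  zi : IsConj (x * y) (x * y)⁻¹
  nxz : ¬ IsConj x (x * y)
  cx : Nat.card (Subgroup.centralizer ({x} : Set G)) = 9
  cz : Nat.card (Subgroup.centralizer ({x * y} : Set G)) = 9
  e1 : pairCount x (x * y) x = 162

/-- Local data in the `C₂` case: four classes of 3-elements, represented by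
`x`, `y`, `x * y`, `x * y⁻¹`. -/
structure Loc2 [Fintype G] [DecidableEq G] (x y : G) : Prop where
  x3 : x ^ 3 = 1
  y3 : y ^ 3 = 1
  z3 : (x * y) ^ 3 = 1
  w3 : (x * y⁻¹) ^ 3 = 1
  x1 : x ≠ 1
  y1 : y ≠ 1
  z1 : x * y ≠ 1
  w1 : x * y⁻¹ ≠ 1
  xi : IsConj x x⁻¹
  yi : IsConj y y⁻¹
  zi : IsConj (x * y) (x * y)⁻¹
  wi : IsConj (x * y⁻¹) (x * y⁻¹)⁻¹
  nxy : ¬ IsConj x y
  nxz : ¬ IsConj x (x * y)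
  nxw : ¬ IsConj x (x * y⁻¹)
  nyz : ¬ IsConj y (x * y)
  nyw : ¬ IsConj y (x * y⁻¹)
  nzw : ¬ IsConj (x * y) (x * y⁻¹)
  cx : Nat.card (Subgroup.centralizer ({x} : Set G)) = 9
  cy : Nat.card (Subgroup.centralizer ({y} : Set G)) = 9
  cz : Nat.card (Subgroup.centralizer ({x * y} : Set G)) = 9
  cw : Nat.card (Subgroup.centralizer ({x * y⁻¹} : Set G)) = 9
  e0 : pairCount x y x = 0

namespace Hyp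
variable {T : Subgroup G}

theorem centralizer_le (h : Hyp T) : ∀ t ∈ T, t ≠ 1 →
    Subgroup.centralizer ({t} : Set G) ≤ Subgroup.normalizer (T : Set G) := by
  intro t ht ht1
  rw [h.cent t ht ht1]
  exact Subgroup.le_normalizer

/-- an element of `N(T) \ T` whose square lies in `T` inverts `T`. -/
theorem inverts_of_sq_mem (h : Hyp T) {n : G} (hn : n ∈ Subgroup.normalizer (T : Set G))
    (hnT : n ∉ T) (hn2 : n ^ 2 ∈ T) : ∀ s ∈ T, n * s * n⁻¹ = s⁻¹ := by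
  intro s hs
  have hns : n * s * n⁻¹ ∈ T := (Subgroup.mem_normalizer_iff.mp hn s).mp hs
  set u : G := s * (n * s * n⁻¹) with hu
  have huT : u ∈ T := T.mul_mem hs hns
  -- `n` centralizes `u`
  have hcu : n * u * n⁻¹ = u := by
    have e1 : n * u * n⁻¹ = (n * s * n⁻¹) * (n ^ 2 * s * (n ^ 2)⁻¹) := by
      rw [hu]; group
    have e2 : n ^ 2 * s * (n ^ 2)⁻¹ = s := by
      rw [h.commT _ hn2 s hs, mul_inv_cancel_right]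
    rw [e1, e2, hu]
    exact h.commT _ hns s hs
  by_cases hu1 : u = 1
  · rw [hu] at hu1
    exact (eq_inv_of_mul_eq_one_right hu1)
  · exfalso
    apply hnT
    rw [← h.cent u huT hu1, Subgroup.mem_centralizer_iff]
    intro v hv
    rw [Set.mem_singleton_iff] at hv
    subst hv
    have : n * u = u * n := by
      calc n * u = (n * u * n⁻¹) * n := by group
        _ = u * n := by rw [hcu]
    exact this.symm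

end Hyp

/-! ## Arithmetic statements (pieces K1 .. K4) -/

section arith
variable (ι : Type*) [Fintype ι]

/-- (K1) an integer vector of norm 2 is `± e_i ± e_j`. -/
def Shape2Stmt : Prop :=
  ∀ c : ι → ℤ, ∑ i, c i ^ 2 = 2 →
    ∃ i j : ι, i ≠ j ∧ (c i = 1 ∨ c i = -1) ∧ (c j = 1 ∨ c j = -1) ∧
      ∀ l, l ≠ i → l ≠ j → c l = 0

/-- (K3) an integer vector of norm 3 is `± e_k₁ ± e_k₂ ± e_k₃`. -/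
def Shape3Stmt : Prop :=
  ∀ f : ι → ℤ, ∑ i, f i ^ 2 = 3 →
    ∃ k₁ k₂ k₃ : ι, k₁ ≠ k₂ ∧ k₁ ≠ k₃ ∧ k₂ ≠ k₃ ∧ (f k₁ = 1 ∨ f k₁ = -1) ∧
      (f k₂ = 1 ∨ f k₂ = -1) ∧ (f k₃ = 1 ∨ f k₃ = -1) ∧
      ∀ l, l ≠ k₁ → l ≠ k₂ → l ≠ k₃ → f l = 0

/-- (K2a) three integer vectors of norm 2 with pairwise inner products 1, all orthogonal to a
positive vector `d`, form a "star" `u_m = ε (e_a - e_{b_m})`. -/
def StarStmt : Prop :=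
  ∀ (d : ι → ℕ) (u₁ u₂ u₃ : ι → ℤ), (∀ i, 0 < d i) →
    ∑ i, u₁ i ^ 2 = 2 → ∑ i, u₂ i ^ 2 = 2 → ∑ i, u₃ i ^ 2 = 2 →
    ∑ i, u₁ i * u₂ i = 1 → ∑ i, u₁ i * u₃ i = 1 → ∑ i, u₂ i * u₃ i = 1 →
    ∑ i, (d i : ℤ) * u₁ i = 0 → ∑ i, (d i : ℤ) * u₂ i = 0 → ∑ i, (d i : ℤ) * u₃ i = 0 →
    ∃ (a b₁ b₂ b₃ : ι) (ε : ℤ), [a, b₁, b₂, b₃].Nodup ∧ (ε = 1 ∨ ε = -1) ∧
      d b₁ = d a ∧ d b₂ = d a ∧ d b₃ = d a ∧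
      u₁ a = ε ∧ u₁ b₁ = -ε ∧ (∀ l, l ≠ a → l ≠ b₁ → u₁ l = 0) ∧
      u₂ a = ε ∧ u₂ b₂ = -ε ∧ (∀ l, l ≠ a → l ≠ b₂ → u₂ l = 0) ∧
      u₃ a = ε ∧ u₃ b₃ = -ε ∧ (∀ l, l ≠ a → l ≠ b₃ → u₃ l = 0)

/-- (K2b) the character-table fragment in the `C₂` case: four integer columns of norm 9,
pairwise orthogonal, orthogonal to the degree column, congruent to the degrees mod 3. -/
def Struct2Stmt : Prop :=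
  ∀ (o : ι) (d : ι → ℕ) (X₁ X₂ X₃ X₄ : ι → ℤ), (∀ i, 0 < d i) →
    X₁ o = 1 → X₂ o = 1 → X₃ o = 1 → X₄ o = 1 →
    (∀ i, ∃ m : ℤ, X₁ i = d i - 3 * m) → (∀ i, ∃ m : ℤ, X₂ i = d i - 3 * m) →
    (∀ i, ∃ m : ℤ, X₃ i = d i - 3 * m) → (∀ i, ∃ m : ℤ, X₄ i = d i - 3 * m) →
    ∑ i, X₁ i ^ 2 = 9 → ∑ i, X₂ i ^ 2 = 9 → ∑ i, X₃ i ^ 2 = 9 → ∑ i, X₄ i ^ 2 = 9 →
    ∑ i, X₁ i * X₂ i = 0 → ∑ i, X₁ i * X₃ i = 0 → ∑ i, X₁ i * X₄ i = 0 →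
    ∑ i, X₂ i * X₃ i = 0 → ∑ i, X₂ i * X₄ i = 0 → ∑ i, X₃ i * X₄ i = 0 →
    ∑ i, (d i : ℤ) * X₁ i = 0 → ∑ i, (d i : ℤ) * X₂ i = 0 →
    ∑ i, (d i : ℤ) * X₃ i = 0 → ∑ i, (d i : ℤ) * X₄ i = 0 →
    ∃ (φ θ₁ θ₂ θ₃ θ₄ : ι) (e η : ℤ), [o, φ, θ₁, θ₂, θ₃, θ₄].Nodup ∧
      (e = 1 ∨ e = -1) ∧ (η = 1 ∨ η = -1) ∧
      d θ₂ = d θ₁ ∧ d θ₃ = d θ₁ ∧ d θ₄ = d θ₁ ∧
      X₁ φ = e ∧ X₂ φ = e ∧ X₃ φ = e ∧ X₄ φ = e ∧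
      X₁ θ₁ = 2 * η ∧ X₂ θ₁ = -η ∧ X₃ θ₁ = -η ∧ X₄ θ₁ = -η ∧
      X₁ θ₂ = -η ∧ X₂ θ₂ = 2 * η ∧ X₃ θ₂ = -η ∧ X₄ θ₂ = -η ∧
      X₁ θ₃ = -η ∧ X₂ θ₃ = -η ∧ X₃ θ₃ = 2 * η ∧ X₄ θ₃ = -η ∧
      X₁ θ₄ = -η ∧ X₂ θ₄ = -η ∧ X₃ θ₄ = -η ∧ X₄ θ₄ = 2 * η ∧
      ∀ l, l ≠ o → l ≠ φ → l ≠ θ₁ → l ≠ θ₂ → l ≠ θ₃ → l ≠ θ₄ →
        X₁ l = 0 ∧ X₂ l = 0 ∧ X₃ l = 0 ∧ X₄ l = 0

/-- (K4a) the character-table fragment in the `C₄` case: two integer columns of norm 9,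
orthogonal, orthogonal to the degree column, congruent to the degrees mod 3. -/
def Struct4Stmt : Prop :=
  ∀ (o : ι) (d : ι → ℕ) (X Z : ι → ℤ), (∀ i, 0 < d i) → X o = 1 → Z o = 1 →
    (∀ i, ∃ m : ℤ, X i = d i - 3 * m) → (∀ i, ∃ m : ℤ, Z i = d i - 3 * m) →
    ∑ i, X i ^ 2 = 9 → ∑ i, Z i ^ 2 = 9 → ∑ i, X i * Z i = 0 →
    ∑ i, (d i : ℤ) * X i = 0 → ∑ i, (d i : ℤ) * Z i = 0 →
    ∃ (i j k₁ k₂ k₃ : ι) (σ : ℤ), [o, i, j, k₁, k₂, k₃].Nodup ∧ (σ = 1 ∨ σ = -1) ∧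
      d j = d i ∧ X i + Z i = -σ ∧ X j + Z j = -σ ∧
      X i * Z i * X i + X j * Z j * X j = 2 * σ ∧
      (X k₁ = 1 ∨ X k₁ = -1) ∧ Z k₁ = X k₁ ∧
      (X k₂ = 1 ∨ X k₂ = -1) ∧ Z k₂ = X k₂ ∧
      (X k₃ = 1 ∨ X k₃ = -1) ∧ Z k₃ = X k₃ ∧
      ∀ l, l ≠ o → l ≠ i → l ≠ j → l ≠ k₁ → l ≠ k₂ → l ≠ k₃ → X l = 0 ∧ Z l = 0

end arith

/-- (K2c) the numerical contradiction in the `C₂` case. -/
def Numeric2Stmt : Prop :=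
  ∀ (D dφ : ℕ) (e η : ℤ), (e = 1 ∨ e = -1) → (η = 1 ∨ η = -1) → 0 < D → 1 < dφ →
    1 + e * (dφ : ℤ) - η * (D : ℤ) = 0 →
    (1 : ℚ) + (e : ℚ) / (dφ : ℚ) - 4 * (η : ℚ) / (D : ℚ) = 0 → False

/-- (K4c) the numerical core in the `C₄` case: `n = |G : N_G(T)| = 10`. -/
def Numeric4Stmt : Prop :=
  ∀ (D d₁ d₂ d₃ n : ℕ) (σ e₁ e₂ e₃ : ℤ), (σ = 1 ∨ σ = -1) →
    (e₁ = 1 ∨ e₁ = -1) → (e₂ = 1 ∨ e₂ = -1) → (e₃ = 1 ∨ e₃ = -1) →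
    0 < D → 1 < d₁ → 1 < d₂ → 1 < d₃ →
    (∃ k : ℤ, (D : ℤ) - 4 * σ = 9 * k) →
    (∃ k : ℤ, (d₁ : ℤ) + 8 * e₁ = 9 * k) → (∃ k : ℤ, (d₂ : ℤ) + 8 * e₂ = 9 * k) →
    (∃ k : ℤ, (d₃ : ℤ) + 8 * e₃ = 9 * k) →
    n % 9 = 1 →
    (1 : ℚ) + 2 * (σ : ℚ) / (D : ℚ) + (e₁ : ℚ) / (d₁ : ℚ) + (e₂ : ℚ) / (d₂ : ℚ)
      + (e₃ : ℚ) / (d₃ : ℚ) = 162 / (36 * (n : ℚ)) →
    n = 10

/-- (GA0) coordinates in `T`. -/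
def BasisStmt (T : Subgroup G) : Prop :=
  ∀ x ∈ T, x ≠ 1 → ∀ y ∈ T, (∀ i : ℕ, y ≠ x ^ i) →
    (∀ i k : ℕ, x ^ i = y ^ k → x ^ i = 1) ∧ (∀ s ∈ T, ∃ i k : ℕ, s = x ^ i * y ^ k)

end Cfsg.Agent.Helper21.A6
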