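import Mathlib
import Cfsg.Prelude.Def_CaseTheorems

set_option autoImplicit false
set_option linter.style.haveILetI false
set_option linter.unusedSectionVars false
set_option linter.unusedVariables false

/-!
Abelian Sylow 2-subgroups, transfer, `Ω₁` (helper21).
-/

namespace Cfsg.Agent.Helper21

open Cfsg
open scoped IsMulCommutative

/-- a group without subgroups of index 2 has no nontrivial homomorphism to a finite 2-group -/
theorem hom_eq_one_of_no_index_two {G : Type*} [Group G]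
    (hG : ∀ H : Subgroup G, H.index ≠ 2) {A : Type*} [Group A] [Finite A] (hA : IsPGroup 2 A)
    (φ : G →* A) (g : G) : φ g = 1 := by
  haveI : Fact (Nat.Prime 2) := ⟨Nat.prime_two⟩
  by_contra hne
  have hI : IsPGroup 2 φ.range := hA.to_subgroup _
  obtain ⟨n, hn⟩ := IsPGroup.iff_card.1 hI
  have hn0 : n ≠ 0 := by
    rintro rfl
    rw [pow_zero] at hn
    have hsub := (Nat.card_eq_one_iff_unique.1 hn).1
    have : (⟨φ g, ⟨g, rfl⟩⟩ : φ.range) = 1 := Subsingleton.elim _ _
    exact hne (congrArg Subtype.val this)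
  have hdvd : 2 ^ (n - 1) ∣ Nat.card φ.range := by
    rw [hn]; exact pow_dvd_pow 2 (Nat.sub_le n 1)
  obtain ⟨M, hM⟩ := Sylow.exists_subgroup_card_pow_prime 2 hdvd
  have hidx : M.index = 2 := by
    have h1 := M.card_mul_index
    rw [hM, hn] at h1
    have h2 : 2 ^ n = 2 ^ (n - 1) * 2 := by
      rw [← pow_succ]; congr 1; omega
    rw [h2] at h1
    exact Nat.eq_of_mul_eq_mul_left (pow_pos (by norm_num) _) h1
  apply hG (M.comap φ.rangeRestrict)
  exact (Subgroup.index_comap_of_surjective (H := M) φ.rangeRestrict_surjective).trans hidx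

/-- an element of an abelian Sylow 2-subgroup fixed by the normalizer is trivial, if the group
has no subgroup of index 2 -/
theorem eq_one_of_normalizer_fixed {G : Type*} [Group G] [Finite G]
    (hG : ∀ H : Subgroup G, H.index ≠ 2) (S : Sylow 2 G) [hS : IsMulCommutative (S : Subgroup G)]
    (y : G) (hy : y ∈ (S : Subgroup G))
    (hfix : ∀ n ∈ Subgroup.normalizer ((S : Subgroup G) : Set G), n⁻¹ * y * n = y) : y = 1 := by
  haveI : Fact (Nat.Prime 2) := ⟨Nat.prime_two⟩
  have key : ∀ (k : ℕ) (g₀ : G), g₀⁻¹ * y ^ k * g₀ ∈ (S : Subgroup G) →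
      g₀⁻¹ * y ^ k * g₀ = y ^ k := by
    intro k g₀ h
    obtain ⟨n, hn, hn'⟩ := S.conj_eq_normalizer_conj_of_mem (y ^ k) g₀
      ((S : Subgroup G).pow_mem hy k) h
    rw [hn']
    have : n⁻¹ * y ^ k * n = (n⁻¹ * y * n) ^ k := by
      have := conj_pow (a := n⁻¹) (b := y) (i := k)
      rw [inv_inv] at this
      exact this.symm
    rw [this, hfix n hn]
  have h1 := MonoidHom.transfer_eq_pow (MonoidHom.id (S : Subgroup G)) y key
  have h2 : MonoidHom.transfer (MonoidHom.id (S : Subgroup G)) y = 1 :=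
    hom_eq_one_of_no_index_two hG S.isPGroup' _ y
  rw [h2, MonoidHom.id_apply] at h1
  have h3 : y ^ (S : Subgroup G).index = 1 := by
    have := congrArg Subtype.val h1
    simpa using this.symm
  -- y is a 2-element and the index is odd
  obtain ⟨k, hk⟩ := S.isPGroup' ⟨y, hy⟩
  have hk' : y ^ 2 ^ k = 1 := by
    have := congrArg Subtype.val hk
    simpa using this
  have hcop : Nat.Coprime ((S : Subgroup G).index) (2 ^ k) := by
    apply Nat.Coprime.pow_right
    rw [Nat.coprime_comm, Nat.Prime.coprime_iff_not_dvd Nat.prime_two]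
    exact S.not_dvd_index
  have h4 : orderOf y ∣ (S : Subgroup G).index := orderOf_dvd_of_pow_eq_one h3
  have h5 : orderOf y ∣ 2 ^ k := orderOf_dvd_of_pow_eq_one hk'
  have h6 : orderOf y = 1 := Nat.eq_one_of_dvd_coprimes hcop h4 h5
  exact orderOf_eq_one_iff.1 h6

/-- parity of a product of elements of `Ω ∖ K`, `K` of index 2 in `Ω` -/
theorem prod_mem_iff_even {A : Type*} [CommGroup A] (Ω K : Subgroup A) (hK : K.relIndex Ω = 2)
    {ι : Type*} (s : Finset ι) (f : ι → A) (hf : ∀ i ∈ s, f i ∈ Ω ∧ f i ∉ K) :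
    (∏ i ∈ s, f i) ∈ Ω ∧ ((∏ i ∈ s, f i) ∈ K ↔ Even s.card) := by
  classical
  have hmul : ∀ a b : A, a ∈ Ω → b ∈ Ω → (a * b ∈ K ↔ (a ∈ K ↔ b ∈ K)) := by
    intro a b ha hb
    have := Subgroup.mul_mem_iff_of_index_two (H := K.subgroupOf Ω) hK (a := ⟨a, ha⟩) (b := ⟨b, hb⟩)
    simpa [Subgroup.mem_subgroupOf] using this
  induction s using Finset.induction_on with
  | empty => simp [K.one_mem, Ω.one_mem]
  | insert a s ha ih =>
    have ih' := ih (fun i hi => hf i (Finset.mem_insert_of_mem hi))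
    obtain ⟨hfa1, hfa2⟩ := hf a (Finset.mem_insert_self a s)
    rw [Finset.prod_insert ha, Finset.card_insert_of_notMem ha]
    refine ⟨Ω.mul_mem hfa1 ih'.1, ?_⟩
    rw [hmul _ _ hfa1 ih'.1, ih'.2, Nat.even_add_one]
    tauto

/-- `Ω₁` of a commutative group -/
def omegaOne (p : ℕ) (A : Type*) [Group A] [hA : IsMulCommutative A] : Subgroup A where
  carrier := {x | x ^ p = 1}
  one_mem' := one_pow p
  mul_mem' := fun {a b} ha hb => by
    have ha' : a ^ p = 1 := ha
    have hb' : b ^ p = 1 := hb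
    show (a * b) ^ p = 1
    rw [(show Commute a b from hA.is_comm.comm a b).mul_pow, ha', hb', one_mul]
  inv_mem' := fun {a} ha => by
    have ha' : a ^ p = 1 := ha
    show (a⁻¹) ^ p = 1
    rw [inv_pow, ha', inv_one]

theorem mem_omegaOne {p : ℕ} {A : Type*} [Group A] [IsMulCommutative A] {x : A} :
    x ∈ omegaOne p A ↔ x ^ p = 1 := Iff.rfl

theorem card_omegaOne {p : ℕ} (hp : p.Prime) {A : Type*} [Group A] [Finite A]
    [hA : IsMulCommutative A] (hpA : IsPGroup p A) (k : ℕ) (h1 : PRankLE p k A)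
    (h2 : k = 0 ∨ ¬ PRankLE p (k - 1) A) : Nat.card (omegaOne p A) = p ^ k := by
  haveI : Fact p.Prime := ⟨hp⟩
  have hcomm : IsMulCommutative (omegaOne p A) :=
    ⟨⟨fun a b => Subtype.ext (hA.is_comm.comm a b)⟩⟩
  have hle : Nat.card (omegaOne p A) ≤ p ^ k := h1 _ hcomm (fun a ha => ha)
  obtain ⟨n, hn⟩ := IsPGroup.iff_card.1 (hpA.to_subgroup (omegaOne p A))
  rcases h2 with rfl | h2
  · rw [pow_zero] at hle ⊢
    have : 0 < Nat.card (omegaOne p A) := Nat.card_pos
    omega
  · unfold PRankLE at h2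
    push Not at h2
    obtain ⟨A₀, hA₀c, hA₀e, hA₀⟩ := h2
    have hA₀le : A₀ ≤ omegaOne p A := fun a ha => hA₀e a ha
    have h3 : Nat.card A₀ ≤ Nat.card (omegaOne p A) := Subgroup.card_le_of_le hA₀le
    rw [hn] at hle h3 ⊢
    have h4 : p ^ (k - 1) < p ^ n := lt_of_lt_of_le hA₀ h3
    have h5 : k - 1 < n := (Nat.pow_lt_pow_iff_right hp.one_lt).1 h4
    have h6 : n ≤ k := (Nat.pow_le_pow_iff_right hp.one_lt).1 hle
    have : n = k := by omega
    rw [this]

end Cfsg.Agent.Helper21
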