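import Mathlib
import Cfsg.Agent.Helper21.A6Defs
import Cfsg.Agent.Helper97.A6_K13
import Cfsg.Agent.Helper97.A6_K24c
import Cfsg.Agent.Helper51.A6_K2a
import Cfsg.Agent.Helper51.A6_K4a
import Cfsg.Agent.Helper48.A6_K2d
import Cfsg.Agent.Helper48.A6_K2b
import Cfsg.Agent.Helper48.A6_K4d
import Cfsg.Agent.Helper79.ClassMult
import Cfsg.Agent.Helper79.Linear
import Cfsg.Agent.Helper79.S3S3CH1
import Cfsg.Agent.Helper91.S3S3CH2a
import Cfsg.Agent.Helper91.S3S3CH2b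

/-!
# S3341 (helper21): character-theoretic glue

`(GE)` linear characters of a nonabelian simple group are trivial; `(CH4)`, `(CH2)` feed the local
data `Loc4` / `Loc2` to the arithmetic cores.
-/

set_option autoImplicit false
open Cfsg Finset
open scoped ComplexConjugate commutatorElement

namespace Cfsg.Agent.Helper21.A6

open Cfsg.Agent.Helper3.S3S3 (pairCount)

universe u

section chr
variable {G : Type u} [Group G]

/-- (GE) a nonabelian simple group has no nontrivial linear character. -/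
theorem linear_eq_principal [Finite G] [IsSimpleGroup G] (hnc : ∃ a b : G, a * b ≠ b * a)
    (χ : IrrCharacter G) (h1 : charDegree (χ : G → ℂ) = 1) :
    χ = Cfsg.Agent.Helper79.principalIrr G := by
  have hχ1 : (χ : G → ℂ) 1 = 1 := by
    rw [Cfsg.Agent.Helper79.irr_one, h1]; simp
  have hperf : commutator G = ⊤ := by
    have hn : (commutator G).Normal := inferInstance
    rcases hn.eq_bot_or_eq_top with h | h
    · exfalso
      obtain ⟨a, b, hab⟩ := hnc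
      apply hab
      have hmem : ⁅a, b⁆ ∈ commutator G := by
        rw [commutator_def]
        exact Subgroup.commutator_mem_commutator (Subgroup.mem_top a) (Subgroup.mem_top b)
      rw [h, Subgroup.mem_bot, commutatorElement_eq_one_iff_mul_comm] at hmem
      exact hmem
    · exact h
  apply Subtype.ext
  funext u
  have hu : u ∈ commutator G := by rw [hperf]; exact Subgroup.mem_top u
  exact Cfsg.Agent.Helper79.isCharacter_linear_commutator
    (Cfsg.Agent.Helper74.irr_isCharacter χ) hχ1 hu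

end chr

section core
variable {G : Type u} [Group G] [Fintype G]

/-- (CH4) the character-theoretic core in the `C₄` case. -/
theorem n_eq_ten_of_loc4 [DecidableEq G] (x y : G) (h : Loc4 x y)
    (hlin : ∀ χ : IrrCharacter G, charDegree (χ : G → ℂ) = 1 →
      χ = Cfsg.Agent.Helper79.principalIrr G)
    (h9 : ∀ χ : IrrCharacter G, ∃ k : ℕ,
      (χ : G → ℂ) 1 + 4 * (χ : G → ℂ) x + 4 * (χ : G → ℂ) (x * y) = 9 * (k : ℂ))
    (n : ℕ) (hg : Nat.card G = 36 * n) (hn : n % 9 = 1) : n = 10 := by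
  classical
  have : Finite (IrrCharacter G) := Cfsg.Agent.Helper79.irr_finite
  let _ : Fintype (IrrCharacter G) := Fintype.ofFinite _
  have hx := fun χ : IrrCharacter G => Cfsg.Agent.Helper79.S3S3.irr_order_three_value χ x h.x3 h.xi
  have hz := fun χ : IrrCharacter G =>
    Cfsg.Agent.Helper79.S3S3.irr_order_three_value χ (x * y) h.z3 h.zi
  choose mx hmx using hx
  choose mz hmz using hz
  set d : IrrCharacter G → ℕ := fun χ => charDegree (χ : G → ℂ) with hddef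
  have hd1 : ∀ χ : IrrCharacter G, (χ : G → ℂ) 1 = (d χ : ℂ) :=
    fun χ => Cfsg.Agent.Helper79.irr_one χ
  let X : IrrCharacter G → ℤ := fun χ => (d χ : ℤ) - 3 * (mx χ : ℤ)
  let Z : IrrCharacter G → ℤ := fun χ => (d χ : ℤ) - 3 * (mz χ : ℤ)
  have hX : ∀ χ : IrrCharacter G, (χ : G → ℂ) x = (X χ : ℂ) := by
    intro χ; rw [hmx χ, hd1 χ]; simp only [X]; push_cast; ring
  have hZ : ∀ χ : IrrCharacter G, (χ : G → ℂ) (x * y) = (Z χ : ℂ) := by
    intro χ; rw [hmz χ, hd1 χ]; simp only [Z]; push_cast; ring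
  have hD : ∀ χ : IrrCharacter G, (χ : G → ℂ) 1 = (((d χ : ℕ) : ℤ) : ℂ) := by
    intro χ; rw [hd1 χ]; push_cast; rfl
  have one_val : ∀ g : G,
      ((Cfsg.Agent.Helper79.principalIrr G : IrrCharacter G) : G → ℂ) g = 1 := fun g => rfl
  have hXo : X (Cfsg.Agent.Helper79.principalIrr G) = 1 := by
    have := hX (Cfsg.Agent.Helper79.principalIrr G); rw [one_val] at this; exact_mod_cast this.symm
  have hZo : Z (Cfsg.Agent.Helper79.principalIrr G) = 1 := by
    have := hZ (Cfsg.Agent.Helper79.principalIrr G); rw [one_val] at this; exact_mod_cast this.symm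
  have hdo : d (Cfsg.Agent.Helper79.principalIrr G) = 1 := by
    have := hd1 (Cfsg.Agent.Helper79.principalIrr G); rw [one_val] at this; exact_mod_cast this.symm
  have hx1 : ¬ IsConj x 1 := fun hc => h.x1 (isConj_one_left.mp hc)
  have hz1 : ¬ IsConj (x * y) 1 := fun hc => h.z1 (isConj_one_left.mp hc)
  have hzx : ¬ IsConj (x * y) x := fun hc => h.nxz hc.symm
  have hXX : ∑ χ, X χ ^ 2 = 9 := by
    have := Cfsg.Agent.Helper91.S3S3.sum_int_cols_mul x x X X hX hX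
    rw [if_pos (IsConj.refl x), h.cx] at this
    rw [← show ((9 : ℕ) : ℤ) = 9 by norm_num, ← this]
    exact Finset.sum_congr rfl fun χ _ => by ring
  have hZZ : ∑ χ, Z χ ^ 2 = 9 := by
    have := Cfsg.Agent.Helper91.S3S3.sum_int_cols_mul (x * y) (x * y) Z Z hZ hZ
    rw [if_pos (IsConj.refl (x * y)), h.cz] at this
    rw [← show ((9 : ℕ) : ℤ) = 9 by norm_num, ← this]
    exact Finset.sum_congr rfl fun χ _ => by ring
  have hXZ : ∑ χ, X χ * Z χ = 0 := by
    have := Cfsg.Agent.Helper91.S3S3.sum_int_cols_mul x (x * y) X Z hX hZ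
    rwa [if_neg hzx] at this
  have hdX : ∑ χ : IrrCharacter G, (d χ : ℤ) * X χ = 0 := by
    have := Cfsg.Agent.Helper91.S3S3.sum_int_cols_mul 1 x (fun χ => ((d χ : ℕ) : ℤ)) X hD hX
    rwa [if_neg hx1] at this
  have hdZ : ∑ χ : IrrCharacter G, (d χ : ℤ) * Z χ = 0 := by
    have := Cfsg.Agent.Helper91.S3S3.sum_int_cols_mul 1 (x * y) (fun χ => ((d χ : ℕ) : ℤ)) Z hD hZ
    rwa [if_neg hz1] at this
  have hE : ∑ χ : IrrCharacter G, ((X χ : ℚ) * (Z χ : ℚ) * (X χ : ℚ)) / (d χ : ℚ)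
      = 162 / (Nat.card G : ℚ) := by
    have := Cfsg.Agent.Helper91.S3S3.sum_int_cols_eq x (x * y) x X Z X hX hZ hX
    rw [h.e1] at this
    rw [this]; norm_num
  have h9' : ∀ χ : IrrCharacter G, ∃ k : ℤ, (d χ : ℤ) + 4 * X χ + 4 * Z χ = 9 * k := by
    intro χ
    obtain ⟨k, hk⟩ := h9 χ
    refine ⟨(k : ℤ), ?_⟩
    rw [hd1 χ, hX χ, hZ χ] at hk
    exact_mod_cast hk
  exact Cfsg.Agent.Helper48.A6.core4_of
    (Cfsg.Agent.Helper51.A6K4a.struct4_of Cfsg.Agent.Helper97.A6.shape2 Cfsg.Agent.Helper97.A6.shape3)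
    Cfsg.Agent.Helper97.A6.numeric4 (Cfsg.Agent.Helper79.principalIrr G) d X Z
    (Nat.card G) n (fun χ => Cfsg.Agent.Helper79.irr_charDegree_pos χ) hdo
    (fun χ hχ => hlin χ hχ) hXo hZo
    (fun χ => ⟨(mx χ : ℤ), by simp only [X]⟩) (fun χ => ⟨(mz χ : ℤ), by simp only [Z]⟩)
    h9' hXX hZZ hXZ hdX hdZ hE hg hn

/-- (CH2) the character-theoretic core in the `C₂` case. -/
theorem false_of_loc2 [DecidableEq G] (x y : G) (h : Loc2 x y)
    (hlin : ∀ χ : IrrCharacter G, charDegree (χ : G → ℂ) = 1 →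
      χ = Cfsg.Agent.Helper79.principalIrr G) : False := by
  classical
  have : Finite (IrrCharacter G) := Cfsg.Agent.Helper79.irr_finite
  let _ : Fintype (IrrCharacter G) := Fintype.ofFinite _
  have hx := fun χ : IrrCharacter G => Cfsg.Agent.Helper79.S3S3.irr_order_three_value χ x h.x3 h.xi
  have hy := fun χ : IrrCharacter G => Cfsg.Agent.Helper79.S3S3.irr_order_three_value χ y h.y3 h.yi
  have hz := fun χ : IrrCharacter G =>
    Cfsg.Agent.Helper79.S3S3.irr_order_three_value χ (x * y) h.z3 h.zi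
  have hw := fun χ : IrrCharacter G =>
    Cfsg.Agent.Helper79.S3S3.irr_order_three_value χ (x * y⁻¹) h.w3 h.wi
  choose m1 hm1 using hx
  choose m2 hm2 using hy
  choose m3 hm3 using hz
  choose m4 hm4 using hw
  set d : IrrCharacter G → ℕ := fun χ => charDegree (χ : G → ℂ) with hddef
  have hd1 : ∀ χ : IrrCharacter G, (χ : G → ℂ) 1 = (d χ : ℂ) :=
    fun χ => Cfsg.Agent.Helper79.irr_one χ
  let X₁ : IrrCharacter G → ℤ := fun χ => (d χ : ℤ) - 3 * (m1 χ : ℤ)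
  let X₂ : IrrCharacter G → ℤ := fun χ => (d χ : ℤ) - 3 * (m2 χ : ℤ)
  let X₃ : IrrCharacter G → ℤ := fun χ => (d χ : ℤ) - 3 * (m3 χ : ℤ)
  let X₄ : IrrCharacter G → ℤ := fun χ => (d χ : ℤ) - 3 * (m4 χ : ℤ)
  have hX1 : ∀ χ : IrrCharacter G, (χ : G → ℂ) x = (X₁ χ : ℂ) := by
    intro χ; rw [hm1 χ, hd1 χ]; simp only [X₁]; push_cast; ring
  have hX2 : ∀ χ : IrrCharacter G, (χ : G → ℂ) y = (X₂ χ : ℂ) := by
    intro χ; rw [hm2 χ, hd1 χ]; simp only [X₂]; push_cast; ring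
  have hX3 : ∀ χ : IrrCharacter G, (χ : G → ℂ) (x * y) = (X₃ χ : ℂ) := by
    intro χ; rw [hm3 χ, hd1 χ]; simp only [X₃]; push_cast; ring
  have hX4 : ∀ χ : IrrCharacter G, (χ : G → ℂ) (x * y⁻¹) = (X₄ χ : ℂ) := by
    intro χ; rw [hm4 χ, hd1 χ]; simp only [X₄]; push_cast; ring
  have hD : ∀ χ : IrrCharacter G, (χ : G → ℂ) 1 = (((d χ : ℕ) : ℤ) : ℂ) := by
    intro χ; rw [hd1 χ]; push_cast; rfl
  have one_val : ∀ g : G,
      ((Cfsg.Agent.Helper79.principalIrr G : IrrCharacter G) : G → ℂ) g = 1 := fun g => rfl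
  have h1o : X₁ (Cfsg.Agent.Helper79.principalIrr G) = 1 := by
    have := hX1 (Cfsg.Agent.Helper79.principalIrr G); rw [one_val] at this; exact_mod_cast this.symm
  have h2o : X₂ (Cfsg.Agent.Helper79.principalIrr G) = 1 := by
    have := hX2 (Cfsg.Agent.Helper79.principalIrr G); rw [one_val] at this; exact_mod_cast this.symm
  have h3o : X₃ (Cfsg.Agent.Helper79.principalIrr G) = 1 := by
    have := hX3 (Cfsg.Agent.Helper79.principalIrr G); rw [one_val] at this; exact_mod_cast this.symm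
  have h4o : X₄ (Cfsg.Agent.Helper79.principalIrr G) = 1 := by
    have := hX4 (Cfsg.Agent.Helper79.principalIrr G); rw [one_val] at this; exact_mod_cast this.symm
  have hdo : d (Cfsg.Agent.Helper79.principalIrr G) = 1 := by
    have := hd1 (Cfsg.Agent.Helper79.principalIrr G); rw [one_val] at this; exact_mod_cast this.symm
  have hx1 : ¬ IsConj x 1 := fun hc => h.x1 (isConj_one_left.mp hc)
  have hy1 : ¬ IsConj y 1 := fun hc => h.y1 (isConj_one_left.mp hc)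
  have hz1 : ¬ IsConj (x * y) 1 := fun hc => h.z1 (isConj_one_left.mp hc)
  have hw1 : ¬ IsConj (x * y⁻¹) 1 := fun hc => h.w1 (isConj_one_left.mp hc)
  -- norms
  have nrm : ∀ (p : G) (P : IrrCharacter G → ℤ),
      (∀ χ : IrrCharacter G, (χ : G → ℂ) p = (P χ : ℂ)) →
      Nat.card (Subgroup.centralizer ({p} : Set G)) = 9 → ∑ χ, P χ ^ 2 = 9 := by
    intro p P hP hc
    have := Cfsg.Agent.Helper91.S3S3.sum_int_cols_mul p p P P hP hP
    rw [if_pos (IsConj.refl p), hc] at this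
    rw [← show ((9 : ℕ) : ℤ) = 9 by norm_num, ← this]
    exact Finset.sum_congr rfl fun χ _ => by ring
  have orth : ∀ (p q : G) (P Q : IrrCharacter G → ℤ),
      (∀ χ : IrrCharacter G, (χ : G → ℂ) p = (P χ : ℂ)) →
      (∀ χ : IrrCharacter G, (χ : G → ℂ) q = (Q χ : ℂ)) →
      ¬ IsConj p q → ∑ χ, P χ * Q χ = 0 := by
    intro p q P Q hP hQ hpq
    have := Cfsg.Agent.Helper91.S3S3.sum_int_cols_mul p q P Q hP hQ
    rwa [if_neg (fun hc => hpq hc.symm)] at this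
  have dorth : ∀ (q : G) (Q : IrrCharacter G → ℤ),
      (∀ χ : IrrCharacter G, (χ : G → ℂ) q = (Q χ : ℂ)) →
      ¬ IsConj q 1 → ∑ χ : IrrCharacter G, (d χ : ℤ) * Q χ = 0 := by
    intro q Q hQ hq
    have := Cfsg.Agent.Helper91.S3S3.sum_int_cols_mul 1 q (fun χ => ((d χ : ℕ) : ℤ)) Q hD hQ
    rwa [if_neg hq] at this
  have hE : ∑ χ : IrrCharacter G, ((X₁ χ : ℚ) * (X₂ χ : ℚ) * (X₁ χ : ℚ)) / (d χ : ℚ) = 0 := by
    have := Cfsg.Agent.Helper91.S3S3.sum_int_cols_eq x y x X₁ X₂ X₁ hX1 hX2 hX1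
    rw [h.e0] at this
    rw [this]; simp
  exact Cfsg.Agent.Helper48.A6.core2_of
    (Cfsg.Agent.Helper48.A6.struct2_of (Cfsg.Agent.Helper51.A6K2a.star_of Cfsg.Agent.Helper97.A6.shape2))
    Cfsg.Agent.Helper97.A6.numeric2 (Cfsg.Agent.Helper79.principalIrr G) d
    X₁ X₂ X₃ X₄ (fun χ => Cfsg.Agent.Helper79.irr_charDegree_pos χ) hdo
    (fun χ hχ => hlin χ hχ) h1o h2o h3o h4o
    (fun χ => ⟨(m1 χ : ℤ), by simp only [X₁]⟩) (fun χ => ⟨(m2 χ : ℤ), by simp only [X₂]⟩)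
    (fun χ => ⟨(m3 χ : ℤ), by simp only [X₃]⟩) (fun χ => ⟨(m4 χ : ℤ), by simp only [X₄]⟩)
    (nrm x X₁ hX1 h.cx) (nrm y X₂ hX2 h.cy) (nrm (x * y) X₃ hX3 h.cz)
    (nrm (x * y⁻¹) X₄ hX4 h.cw)
    (orth x y X₁ X₂ hX1 hX2 h.nxy) (orth x (x * y) X₁ X₃ hX1 hX3 h.nxz)
    (orth x (x * y⁻¹) X₁ X₄ hX1 hX4 h.nxw) (orth y (x * y) X₂ X₃ hX2 hX3 h.nyz)
    (orth y (x * y⁻¹) X₂ X₄ hX2 hX4 h.nyw) (orth (x * y) (x * y⁻¹) X₃ X₄ hX3 hX4 h.nzw)
    (dorth x X₁ hX1 hx1) (dorth y X₂ hX2 hy1) (dorth (x * y) X₃ hX3 hz1)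
    (dorth (x * y⁻¹) X₄ hX4 hw1) hE

end core

end Cfsg.Agent.Helper21.A6
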