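import Mathlib
import Cfsg.Agent.Helper21.A6Defs
import Cfsg.Agent.Helper63.A6_GA0
import Cfsg.Agent.Helper67.A6_GA1
import Cfsg.Agent.Helper67.A6_GA2
import Cfsg.Agent.Helper67.A6_GA3a
import Cfsg.Agent.Helper72.A6_GA3b
import Cfsg.Agent.Helper63.A6_GA4
import Cfsg.Agent.Helper72.A6_GA5a
import Cfsg.Agent.Helper72.A6_GA5b
import Cfsg.Agent.Helper12.A6_GB1
import Cfsg.Agent.Helper12.A6_GC1
import Cfsg.Agent.Helper74.A6_GB3
import Cfsg.Agent.Helper74.A6_GD
import Cfsg.Agent.Helper67.A6_GB2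
import Cfsg.Agent.Helper67.A6_GC2
import Cfsg.Agent.Helper21.A6Char
import Cfsg.Agent.Helper3.S3S3Main

/-!
# S3341 (helper21): assembly — `|G| = 360`.
-/

set_option autoImplicit false
open Cfsg Finset

namespace Cfsg.Agent.Helper21.A6

open Cfsg.Agent.Helper3.S3S3 (pairCount)

universe u

variable {G : Type u} [Group G] [Finite G]

omit [Finite G] in
/-- `x ≠ x⁻¹` for a nontrivial element of order 3. -/
theorem ne_inv_of_pow_three {x : G} (x3 : x ^ 3 = 1) (x1 : x ≠ 1) : x⁻¹ ≠ x := by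
  intro hx
  apply x1
  have h2 : x ^ 2 = 1 := by
    rw [pow_two]
    nth_rewrite 1 [← hx]
    exact inv_mul_cancel x
  calc x = x ^ 3 * (x ^ 2)⁻¹ := by group
    _ = 1 := by rw [x3, h2]; group

theorem card_eq_360 [IsSimpleGroup G] (T : Sylow 3 G) (hT : Hyp (T : Subgroup G))
    (hcl : ∃ a b : G, orderOf a = 3 ∧ orderOf b = 3 ∧ ∀ g : G, g * a * g⁻¹ ≠ b) :
    Nat.card G = 360 := by
  classical
  let _ : Fintype G := Fintype.ofFinite G
  have hb : BasisStmt (T : Subgroup G) := Cfsg.Agent.Helper63.A6GA0.basisStmt (T : Subgroup G) hT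
  have hTI := Cfsg.Agent.Helper89.S3S3.mem_normalizer_of_conj_mem T hT.commT hT.centralizer_le
  have hpair : ∀ x₁ x₂ x₃ : G, x₁ ∈ (T : Subgroup G) → x₂ ∈ (T : Subgroup G) →
      x₃ ∈ (T : Subgroup G) → x₁ ≠ 1 → x₂ ≠ 1 → x₃ ≠ 1 →
      ¬ IsConj x₁ x₂ → ∀ g h : G, g * x₁ * g⁻¹ * (h * x₂ * h⁻¹) = x₃ →
      g ∈ Subgroup.normalizer ((T : Subgroup G) : Set G) ∧
        h ∈ Subgroup.normalizer ((T : Subgroup G) : Set G) :=
    fun x₁ x₂ x₃ h1 h2 h3 h11 h21 h31 hnc g h hgh =>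
      Cfsg.Agent.Helper3.S3S3.local_pair T hT.commT hT.expT hT.centralizer_le
        x₁ x₂ x₃ h1 h2 h3 h11 h21 h31 hnc g h hgh
  obtain ⟨e, hNe, he8⟩ := Cfsg.Agent.Helper67.A6GA1.card_normalizer (T : Subgroup G) hT
  have he : e = 1 ∨ e = 2 ∨ e = 4 ∨ e = 8 := by
    have hle : e ≤ 8 := Nat.le_of_dvd (by norm_num) he8
    interval_cases e <;> simp_all
  rcases he with rfl | rfl | rfl | rfl
  · -- `N = T`: Burnside
    exact absurd hNe (Cfsg.Agent.Helper67.A6GA2.card_normalizer_ne_nine T hT)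
  · -- `N = T ⋊ C₂`
    exfalso
    obtain ⟨x, y, t, hd⟩ := Cfsg.Agent.Helper63.A6GA4.exists_ndata2 (T : Subgroup G) hT hb (by rw [hNe])
    obtain ⟨z1, w1, xi, yi, zi, wi, nxy, nxz, nxw, nyz, nyw, nzw⟩ :=
      Cfsg.Agent.Helper12.A6.fusion2 (T : Subgroup G) x y t hd hTI
    have e0 := Cfsg.Agent.Helper67.A6GC2.pair_count2 (T : Subgroup G) x y t hd hpair nxy
    have hyinv : y⁻¹ ∈ (T : Subgroup G) := (T : Subgroup G).inv_mem hd.yT
    have hzT : x * y ∈ (T : Subgroup G) := (T : Subgroup G).mul_mem hd.xT hd.yT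
    have hwT : x * y⁻¹ ∈ (T : Subgroup G) := (T : Subgroup G).mul_mem hd.xT hyinv
    have hc : ∀ s ∈ (T : Subgroup G), s ≠ 1 →
        Nat.card (Subgroup.centralizer ({s} : Set G)) = 9 := by
      intro s hs hs1
      rw [hT.cent s hs hs1]; exact hT.cardT
    have hL : Loc2 x y :=
      { x3 := hd.x3, y3 := hd.y3, z3 := hT.expT _ hzT, w3 := hT.expT _ hwT
        x1 := hd.x1, y1 := hd.y1, z1 := z1, w1 := w1
        xi := xi, yi := yi, zi := zi, wi := wi
        nxy := nxy, nxz := nxz, nxw := nxw, nyz := nyz, nyw := nyw, nzw := nzw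
        cx := hc x hd.xT hd.x1, cy := hc y hd.yT hd.y1, cz := hc _ hzT z1, cw := hc _ hwT w1
        e0 := e0 }
    have hnc : ∃ a b : G, a * b ≠ b * a := by
      refine ⟨t, x, fun hcomm => ?_⟩
      have h1 : t * x * t⁻¹ = x := by rw [hcomm]; group
      rw [hd.tx] at h1
      exact ne_inv_of_pow_three hd.x3 hd.x1 h1
    exact false_of_loc2 x y hL (fun χ hχ => linear_eq_principal hnc χ hχ)
  · -- `N = T ⋊ C₄`
    have hN36 : Nat.card (Subgroup.normalizer ((T : Subgroup G) : Set G)) = 36 := by rw [hNe]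
    obtain ⟨j, hjN, hj2⟩ := Cfsg.Agent.Helper72.A6.exists_sq_not_mem (T : Subgroup G) hT hN36
    obtain ⟨x, y, hd⟩ := Cfsg.Agent.Helper72.A6.exists_ndata4 (T : Subgroup G) hT hb hN36 j hjN hj2
    obtain ⟨z1, xi, zi, nxz⟩ := Cfsg.Agent.Helper12.A6.fusion4 (T : Subgroup G) x y j hd hTI
    have e1 := Cfsg.Agent.Helper67.A6GB2.pair_count4 (T : Subgroup G) hT x y j hd hpair nxz
    have hzT : x * y ∈ (T : Subgroup G) := (T : Subgroup G).mul_mem hd.xT hd.yT
    have hc : ∀ s ∈ (T : Subgroup G), s ≠ 1 →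
        Nat.card (Subgroup.centralizer ({s} : Set G)) = 9 := by
      intro s hs hs1
      rw [hT.cent s hs hs1]; exact hT.cardT
    have hL : Loc4 x y :=
      { x3 := hd.x3, z3 := hT.expT _ hzT, x1 := hd.x1, z1 := z1, xi := xi, zi := zi, nxz := nxz
        cx := hc x hd.xT hd.x1, cz := hc _ hzT z1, e1 := e1 }
    have hnc : ∃ a b : G, a * b ≠ b * a := by
      refine ⟨j, x, fun hcomm => ?_⟩
      have h1 : j * x * j⁻¹ = x := by rw [hcomm]; group
      rw [hd.jx] at h1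
      -- `y = x` contradicts independence
      have := hd.indep 1 1 (by rw [pow_one, pow_one, h1])
      rw [pow_one] at this
      exact hd.x1 this
    obtain ⟨n, hGn, hn9⟩ := Cfsg.Agent.Helper74.A6.index_mod_nine T hT
    rw [hN36] at hGn
    have h9 : ∀ χ : IrrCharacter G, ∃ k : ℕ,
        (χ : G → ℂ) 1 + 4 * (χ : G → ℂ) x + 4 * (χ : G → ℂ) (x * y) = 9 * (k : ℂ) :=
      fun χ => Cfsg.Agent.Helper74.A6.int9 (T : Subgroup G) hT x y j hd (χ : G → ℂ) (Cfsg.Agent.Helper74.irr_isCharacter χ)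
    have hn10 := n_eq_ten_of_loc4 x y hL (fun χ hχ => linear_eq_principal hnc χ hχ) h9 n hGn hn9
    rw [hGn, hn10]
  · -- `N = T ⋊ (order 8)`: one class of 3-elements
    exfalso
    obtain ⟨a, b, ha, hb', ha1, hb1, hab⟩ := Cfsg.Agent.Helper67.A6GA3a.exists_nonconj_mem T hcl
    exact hab (Cfsg.Agent.Helper72.A6.isConj_of_card_normalizer (T : Subgroup G) hT (by rw [hNe]) a ha b hb' ha1 hb1)

end Cfsg.Agent.Helper21.A6
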