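import Mathlib
import Cfsg.Prelude.Def_OddOrderLocal
import Cfsg.Agent.Helper23.Sup
import Cfsg.Agent.Helper25.PF8Excl
import Cfsg.Agent.Helper25.PF8TypeII
import Cfsg.Agent.Helper29.BG11A
import Cfsg.Agent.Helper60.BGAsmD

/-!
# Group lemmas (A1), (A2), (A3) of board post #3330 (helper75's plan for B-G Theorem II)

All black boxes (S1350, S1354, S1355, S1364, S1365) enter as hypotheses in statement shape, so this
file is unconditional.

* `typeF_false` : generalisation of `Helper25.PF8.not_typeF_of_typeP`.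
* `typeF_K_eq_bot` (A3) : `IsOfTypeF ↥M` forces `K = ⊥`.
* `typeP_K_ne_bot` (A1) : type-`P` data force `K ≠ ⊥`.
* `typeP_conj` (A2) : `W₁ = cj n K`, `W₂ = cj n (M_σ ⊓ C(K))` for some `n ∈ M`.
-/

set_option autoImplicit false

namespace Cfsg.Agent.Helper21.BGIIA

open Cfsg Cfsg.Agent.Helper29.BG10 Cfsg.Agent.Helper29.BG11

variable {G : Type*} [Group G]

/-- `IsComplIn` is symmetric in its two factors. -/
theorem isComplIn_symm {A B M : Subgroup G} (h : IsComplIn A B M) : IsComplIn B A M := by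
  refine ⟨h.2.1, h.1, by rw [inf_comm]; exact h.2.2.1, ?_⟩
  intro m hm
  obtain ⟨a, ha, b, hb, hab⟩ := h.2.2.2 m⁻¹ (M.inv_mem hm)
  refine ⟨b⁻¹, B.inv_mem hb, a⁻¹, A.inv_mem ha, ?_⟩
  rw [← mul_inv_rev, ← hab, inv_inv]

/-- A Hall `π`-subgroup (in the sense of `IsPiHallOf`) has order coprime to its relative index. -/
theorem coprime_of_isPiHallOf {π : Set ℕ} {K M : Subgroup G} (hK : IsPiHallOf π K M) :
    (Nat.card K).Coprime (K.relIndex M) := by
  by_contra h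
  obtain ⟨q, hq, h1, h2⟩ := Nat.Prime.not_coprime_iff_dvd.mp h
  exact hK.2.2 q hq (hK.2.1 q hq h1) h2

/-- `K ⊓ M_σ = ⊥` for a `κ(M)`-subgroup `K`. -/
theorem sigmaCore_inf_eq_bot [Finite G] {M K : Subgroup G}
    (hK : ∀ p : ℕ, p.Prime → p ∣ Nat.card K → p ∈ kappa M) : sigmaCore M ⊓ K = ⊥ :=
  inf_eq_bot_of_primes_disjoint (primes_sigmaCore M) hK (fun _ hq hk => hk.2.2.1 hq)

/-- Generalisation of `Helper25.PF8.not_typeF_of_typeP`: a subgroup of Frobenius type has no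
nontrivial Hall subgroup `W₁` meeting `M_F` trivially and centralizing a nontrivial subgroup `W₂`
of `M_F`. -/
theorem typeF_false [Finite G] {M W₁ W₂ : Subgroup G} (hF : IsOfTypeF ↥M)
    (hW₁M : W₁ ≤ M) (hW₁ne : W₁ ≠ ⊥) (hHall : (Nat.card W₁).Coprime (W₁.relIndex M))
    (hdisj : fittingHallOf M ⊓ W₁ = ⊥) (hW₂ne : W₂ ≠ ⊥) (hW₂H : W₂ ≤ fittingHallOf M)
    (hcomm : ∀ a ∈ W₁, ∀ b ∈ W₂, a * b = b * a) : False := by
  classical
  obtain ⟨-, -, -, -, UF, -, hcompl, -, ⟨U₀, -, hexp, hfpf⟩⟩ := hF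
  have hcard1 : Nat.card W₁ ≠ 1 := by
    intro h
    exact hW₁ne ((Subgroup.card_eq_one).mp h)
  set s := (Nat.card W₁).minFac with hs
  have hsp : Fact s.Prime := ⟨Nat.minFac_prime hcard1⟩
  have hsW : s ∣ Nat.card W₁ := Nat.minFac_dvd _
  obtain ⟨w, hw⟩ := exists_prime_orderOf_dvd_card' s hsW
  set wM : ↥M := ⟨(w : G), hW₁M w.2⟩ with hwM
  have hwMord : orderOf wM = s := by
    rw [← hw]
    have h1 : orderOf (wM : G) = orderOf wM := Subgroup.orderOf_coe wM
    have h2 : orderOf (w : G) = orderOf w := Subgroup.orderOf_coe w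
    rw [← h1, ← h2]
  have hw1 : (w : G) ≠ 1 := by
    intro h
    have : w = 1 := Subtype.ext h
    rw [this, orderOf_one] at hw
    exact hsp.out.one_lt.ne hw
  have hwnot : wM ∉ fittingHall ↥M := by
    intro h
    have h1 : (w : G) ∈ fittingHallOf M := ⟨wM, h, rfl⟩
    have h2 : (w : G) ∈ fittingHallOf M ⊓ W₁ := ⟨h1, w.2⟩
    rw [hdisj, Subgroup.mem_bot] at h2
    exact hw1 h2
  have hsidx : s ∣ (fittingHall ↥M).index := by
    by_contra hnd
    have hcop : ((fittingHall ↥M).index).Coprime (orderOf wM) := by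
      rw [hwMord]
      exact ((Nat.Prime.coprime_iff_not_dvd hsp.out).mpr hnd).symm
    obtain ⟨k, hk⟩ := exists_pow_eq_self_of_coprime hcop
    apply hwnot
    rw [← hk]
    exact Subgroup.pow_mem _ ((fittingHall ↥M).pow_index_mem wM) k
  have hsUF : s ∣ Nat.card UF := by
    rw [← hcompl.symm.index_eq_card]; exact hsidx
  obtain ⟨u, hu⟩ := exists_prime_orderOf_dvd_card' s hsUF
  have hsexp : s ∣ Monoid.exponent ↥U₀ := by
    rw [hexp, ← hu]; exact Monoid.order_dvd_exponent u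
  have hsU₀ : s ∣ Nat.card U₀ := hsexp.trans Group.exponent_dvd_nat_card
  obtain ⟨u₀, hu₀⟩ := exists_prime_orderOf_dvd_card' s hsU₀
  have hu₀ord : orderOf (u₀ : ↥M) = s := by rw [Subgroup.orderOf_coe, hu₀]
  have hWcard : Nat.card (W₁.subgroupOf M) = Nat.card W₁ :=
    Nat.card_congr (Subgroup.subgroupOfEquivOfLe hW₁M).toEquiv
  have hWhall : (Nat.card (W₁.subgroupOf M)).Coprime (W₁.subgroupOf M).index := by
    rw [hWcard]; exact hHall
  obtain ⟨g, hg⟩ := Cfsg.Agent.Helper25.PF8.exists_conj_mem_of_hall (W₁.subgroupOf M) hWhall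
    (by rw [hWcard]; exact hsW) hu₀ord
  rw [Subgroup.mem_subgroupOf] at hg
  obtain ⟨y, hy, hy1⟩ : ∃ y : G, y ∈ W₂ ∧ y ≠ 1 := by
    obtain ⟨y, hy⟩ := (Subgroup.ne_bot_iff_exists_ne_one (H := W₂)).mp hW₂ne
    exact ⟨(y : G), y.2, fun h => hy (Subtype.ext h)⟩
  have hyH : y ∈ fittingHallOf M := hW₂H hy
  obtain ⟨yM, hyM, hyMe⟩ := hyH
  have hcomm' : ((g * (u₀ : ↥M) * g⁻¹ : ↥M) : G) * y = y * ((g * (u₀ : ↥M) * g⁻¹ : ↥M) : G) :=
    hcomm _ hg y hy
  have hz : g⁻¹ * yM * g ∈ fittingHall ↥M := by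
    have := (fittingHall_normal ↥M).conj_mem yM hyM g⁻¹
    simpa using this
  have hcomm'' : (u₀ : ↥M) * (g⁻¹ * yM * g) = (g⁻¹ * yM * g) * (u₀ : ↥M) := by
    have h3 : (g * (u₀ : ↥M) * g⁻¹) * yM = yM * (g * (u₀ : ↥M) * g⁻¹) := by
      apply Subtype.ext
      have e : (yM : G) = y := hyMe
      simp only [Subgroup.coe_mul] at hcomm' ⊢
      rw [e]
      exact hcomm'
    calc (u₀ : ↥M) * (g⁻¹ * yM * g) = g⁻¹ * ((g * (u₀ : ↥M) * g⁻¹) * yM) * g := by group
      _ = g⁻¹ * (yM * (g * (u₀ : ↥M) * g⁻¹)) * g := by rw [h3]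
      _ = (g⁻¹ * yM * g) * (u₀ : ↥M) := by group
  have hu₀1 : (u₀ : ↥M) ≠ 1 := by
    intro h
    rw [h, orderOf_one] at hu₀ord
    exact hsp.out.one_lt.ne hu₀ord
  have := hfpf (u₀ : ↥M) u₀.2 hu₀1 _ hz hcomm''
  have hyM1 : yM = 1 := by
    have e : yM = g * (g⁻¹ * yM * g) * g⁻¹ := by group
    rw [e, this]; group
  apply hy1
  rw [← hyMe, hyM1]
  rfl

/-- **(A3)** If `M` is of Frobenius type then `K = ⊥`.  Black boxes in statement shape:
`hHMs` = S1355 (second clause), `hKst_ne` = S1354 (first clause), `hKst_le` = S1364 (third clause). -/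
theorem typeF_K_eq_bot [Finite G] {M K : Subgroup G} (hF : IsOfTypeF ↥M)
    (hK : IsPiHallOf (kappa M) K M) (hHMs : fittingHallOf M ≤ sigmaCore M)
    (hKst_ne : sigmaCore M ⊓ Subgroup.centralizer (K : Set G) ≠ ⊥)
    (hKst_le : K ≠ ⊥ → sigmaCore M ⊓ Subgroup.centralizer (K : Set G) ≤ fittingHallOf M) :
    K = ⊥ := by
  by_contra hK1
  refine typeF_false hF hK.1 hK1 (coprime_of_isPiHallOf hK) ?_ hKst_ne (hKst_le hK1) ?_
  · rw [eq_bot_iff, ← sigmaCore_inf_eq_bot (M := M) (K := K) hK.2.1]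
    exact inf_le_inf hHMs le_rfl
  · intro a ha b hb
    exact (Subgroup.mem_centralizer_iff.mp hb.2 a ha)

/-- **(A1)** Type-`P` data force `K ≠ ⊥`.  Black boxes in statement shape: `hMsHall` = S1350 (first
clause), `hHMs`, `hMsD` = S1355 (second and third clauses). -/
theorem typeP_K_ne_bot [Finite G] {M K W₁ U' W₂ : Subgroup G}
    (hMsHall : IsPiHallOf (sigma M) (sigmaCore M) M)
    (hHMs : fittingHallOf M ≤ sigmaCore M) (hMsD : sigmaCore M ≤ ⁅M, M⁆)
    (hK : IsPiHallOf (kappa M) K M) (hP : IsTypePWith M W₁ U' W₂) : K ≠ ⊥ := by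
  classical
  have hW₁M : W₁ ≤ M := hP.W₁_compl.2.1
  have hcard1 : Nat.card W₁ ≠ 1 := fun h => hP.W₁_ne (Subgroup.card_eq_one.mp h)
  set r := (Nat.card W₁).minFac with hr
  have hrp : r.Prime := Nat.minFac_prime hcard1
  have hrf : Fact r.Prime := ⟨hrp⟩
  have hrW : r ∣ Nat.card W₁ := Nat.minFac_dvd _
  obtain ⟨w, hw⟩ := exists_prime_orderOf_dvd_card' r hrW
  set x0 : ↥M := ⟨(w : G), hW₁M w.2⟩ with hx0
  have hx0ord : orderOf x0 = r := by
    rw [← hw]
    have h1 : orderOf (x0 : G) = orderOf x0 := Subgroup.orderOf_coe x0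
    have h2 : orderOf (w : G) = orderOf w := Subgroup.orderOf_coe w
    rw [← h1, ← h2]
  have hx01 : x0 ≠ 1 := by
    intro h
    rw [h, orderOf_one] at hx0ord
    exact hrp.one_lt.ne hx0ord
  have hw1 : (w : G) ≠ 1 := fun h => hx01 (Subtype.ext h)
  have hrM : r ∣ Nat.card M := hrW.trans (Subgroup.card_dvd_of_le hW₁M)
  -- `r ∉ σ(M)`
  have hrσ : r ∉ sigma M := by
    intro hσ
    have hnd : ¬ r ∣ (sigmaCore M).relIndex M := hMsHall.2.2 r hrp hσ
    have hidx : (piCore (sigma M) ↥M).index = (sigmaCore M).relIndex M := by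
      unfold Cfsg.sigmaCore Subgroup.relIndex
      congr 1
      ext x
      rw [Subgroup.mem_subgroupOf]
      constructor
      · intro hx; exact ⟨x, hx, rfl⟩
      · rintro ⟨y, hy, hyx⟩
        have : y = x := Subtype.ext hyx
        rwa [← this]
    have h1 : x0 ^ (piCore (sigma M) ↥M).index ∈ piCore (sigma M) ↥M :=
      Subgroup.pow_index_mem _ _
    have hcop : ((piCore (sigma M) ↥M).index).Coprime (orderOf x0) := by
      rw [hx0ord, hidx]
      exact ((Nat.Prime.coprime_iff_not_dvd hrp).mpr hnd).symm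
    obtain ⟨k, hk⟩ := exists_pow_eq_self_of_coprime hcop
    have h2 : x0 ∈ piCore (sigma M) ↥M := by
      rw [← hk]; exact Subgroup.pow_mem _ h1 k
    have h3 : (w : G) ∈ sigmaCore M := ⟨x0, h2, rfl⟩
    have h4 : (w : G) ∈ ⁅M, M⁆ ⊓ W₁ := ⟨hMsD h3, w.2⟩
    rw [hP.W₁_compl.2.2.1, Subgroup.mem_bot] at h4
    exact hw1 h4
  -- a non-identity element of `W₂`
  obtain ⟨y, hy, hy1⟩ : ∃ y : G, y ∈ W₂ ∧ y ≠ 1 := by
    obtain ⟨y, hy⟩ := (Subgroup.ne_bot_iff_exists_ne_one (H := W₂)).mp hP.selfNormalizing.2.1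
    exact ⟨(y : G), y.2, fun h => hy (Subtype.ext h)⟩
  have hyMs : y ∈ sigmaCore M := hHMs ((hP.W₂_le.trans inf_le_left) hy)
  have hcomm : (w : G) * y = y * w := hP.selfNormalizing.2.2.2.1 _ w.2 y hy
  -- the Hall subgroup `W₁` inside `↥M`
  have hWcard : Nat.card (W₁.subgroupOf M) = Nat.card W₁ :=
    Nat.card_congr (Subgroup.subgroupOfEquivOfLe hW₁M).toEquiv
  have hWcyc : IsCyclic ↥(W₁.subgroupOf M) := by
    have := hP.W₁_cyclic
    exact isCyclic_of_surjective (Subgroup.subgroupOfEquivOfLe hW₁M).symm.toMonoidHom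
      (Subgroup.subgroupOfEquivOfLe hW₁M).symm.surjective
  -- `r ∈ κ(M)`
  have hrκ : r ∈ kappa M := by
    refine ⟨hrp, hrM, hrσ, ?_⟩
    intro P
    constructor
    · -- `P` is cyclic
      obtain S₀ : Sylow r ↥(W₁.subgroupOf M) := default
      have hS' : IsPGroup r ((S₀ : Subgroup ↥(W₁.subgroupOf M)).map (W₁.subgroupOf M).subtype) :=
        S₀.2.map _
      have hidx : ¬ r ∣ ((S₀ : Subgroup ↥(W₁.subgroupOf M)).map
          (W₁.subgroupOf M).subtype).index := by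
        rw [Subgroup.index_map_subtype]
        intro h
        rcases (Nat.Prime.dvd_mul hrp).mp h with h | h
        · exact S₀.not_dvd_index h
        · have hh : (Nat.card (W₁.subgroupOf M)).Coprime (W₁.subgroupOf M).index := by
            rw [hWcard]; exact hP.W₁_hall
          exact hrp.one_lt.ne' (Nat.eq_one_of_dvd_coprimes hh (by rw [hWcard]; exact hrW) h)
      set S : Sylow r ↥M := hS'.toSylow hidx with hS
      obtain ⟨g, hg⟩ := MulAction.exists_smul_eq ↥M S P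
      have hScyc : IsCyclic ↥(S : Subgroup ↥M) := by
        have e : (S : Subgroup ↥M) =
            (S₀ : Subgroup ↥(W₁.subgroupOf M)).map (W₁.subgroupOf M).subtype := by
          rw [hS]; rfl
        rw [e]
        exact isCyclic_of_surjective
          ((S₀ : Subgroup ↥(W₁.subgroupOf M)).equivMapOfInjective (W₁.subgroupOf M).subtype
            (Subgroup.subtype_injective _)).toMonoidHom
          ((S₀ : Subgroup ↥(W₁.subgroupOf M)).equivMapOfInjective (W₁.subgroupOf M).subtype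
            (Subgroup.subtype_injective _)).surjective
      have e2 := Sylow.equivSMul S g
      rw [hg] at e2
      exact isCyclic_of_surjective e2.toMonoidHom e2.surjective
    · -- an element of `P` centralizing a non-identity element of `M_σ`
      have hzp : IsPGroup r (Subgroup.zpowers x0) := by
        apply IsPGroup.of_card (n := 1)
        rw [Nat.card_zpowers, hx0ord, pow_one]
      obtain ⟨Q, hQ⟩ := hzp.exists_le_sylow
      obtain ⟨g, hg⟩ := MulAction.exists_smul_eq ↥M Q P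
      have hxQ : x0 ∈ (Q : Subgroup ↥M) := hQ (Subgroup.mem_zpowers x0)
      have h1 : g * x0 * g⁻¹ ∈ ((g • Q : Sylow r ↥M) : Subgroup ↥M) := by
        rw [Sylow.coe_subgroup_smul]
        have := Subgroup.smul_mem_pointwise_smul x0 (MulAut.conj g) (Q : Subgroup ↥M) hxQ
        simpa [MulAut.smul_def] using this
      rw [hg] at h1
      refine ⟨g * x0 * g⁻¹, h1, Cfsg.Agent.Helper25.PF8.conj_ne_one hx01,
        (g : G) * y * (g : G)⁻¹, ?_, Cfsg.Agent.Helper25.PF8.conj_ne_one hy1, ?_⟩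
      · exact (Subgroup.mem_normalizer_iff.mp (le_normalizer_sigmaCore M g.2) y).mp hyMs
      · have := Cfsg.Agent.Helper25.PF8.conj_comm (m := (g : G)) hcomm
        simpa using this
  have hnd := hK.2.2 r hrp hrκ
  intro hKbot
  have h5 := Cfsg.Agent.Helper60.BGAsm.card_mul_relIndex_of_le hK.1
  rw [hKbot, Subgroup.card_bot, one_mul] at h5
  rw [hKbot, h5] at hnd
  exact hnd hrM

/-- `M' ⊓ K = ⊥` when `M' = U M_σ`. -/
theorem commutator_inf_K_eq_bot [Finite G] {M K U : Subgroup G}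
    (hKU : IsSigmaDecomposition M K U) (hD : ⁅M, M⁆ = U ⊔ sigmaCore M) : ⁅M, M⁆ ⊓ K = ⊥ := by
  have hUM : U ≤ M := hKU.compl.1
  have hMsK : sigmaCore M ⊓ K = ⊥ := sigmaCore_inf_eq_bot hKU.hall.2.1
  rw [eq_bot_iff]
  intro x hx
  obtain ⟨hx1, hx2⟩ := Subgroup.mem_inf.mp hx
  rw [hD, sup_comm,
    Cfsg.Agent.Helper23.mem_sup_iff_of_le_normalizer (hUM.trans (le_normalizer_sigmaCore M))] at hx1
  obtain ⟨a, ha, b, hb, rfl⟩ := hx1
  have hb' : b ∈ U ⊓ (K ⊔ sigmaCore M) := by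
    refine ⟨hb, ?_⟩
    have e : b = a⁻¹ * (a * b) := by group
    rw [e]
    exact Subgroup.mul_mem _ (Subgroup.mem_sup_right (Subgroup.inv_mem _ ha))
      (Subgroup.mem_sup_left hx2)
  rw [hKU.compl.2.2.1, Subgroup.mem_bot] at hb'
  subst hb'
  rw [mul_one] at hx2 ⊢
  have : a ∈ sigmaCore M ⊓ K := ⟨ha, hx2⟩
  rwa [hMsK] at this

/-- `K` is a complement of `M' = U M_σ` in `M`. -/
theorem isComplIn_commutator_K [Finite G] {M K U : Subgroup G}
    (hKU : IsSigmaDecomposition M K U) (hD : ⁅M, M⁆ = U ⊔ sigmaCore M) :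
    IsComplIn ⁅M, M⁆ K M := by
  have hUM : U ≤ M := hKU.compl.1
  have hKM : K ≤ M := hKU.hall.1
  refine ⟨Cfsg.Agent.Helper25.PF8.commutator_self_le M, hKM, commutator_inf_K_eq_bot hKU hD, ?_⟩
  intro m hm
  obtain ⟨u, hu, t, ht, rfl⟩ := hKU.compl.2.2.2 m hm
  rw [sup_comm,
    Cfsg.Agent.Helper23.mem_sup_iff_of_le_normalizer (hKM.trans (le_normalizer_sigmaCore M))] at ht
  obtain ⟨s, hs, k, hk, rfl⟩ := ht
  refine ⟨u * s, ?_, k, hk, by group⟩
  rw [hD]
  exact Subgroup.mul_mem _ (Subgroup.mem_sup_left hu) (Subgroup.mem_sup_right hs)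

/-- `M' ⊓ C(k) = M_σ ⊓ C(K)` for `1 ≠ k ∈ K`. -/
theorem commutator_inf_centralizer [Finite G] {M K U : Subgroup G}
    (hKU : IsSigmaDecomposition M K U) (hD : ⁅M, M⁆ = U ⊔ sigmaCore M)
    (hcent : ∀ k ∈ K, k ≠ 1 → M ⊓ Subgroup.centralizer ({k} : Set G) =
      K ⊔ (sigmaCore M ⊓ Subgroup.centralizer (K : Set G)))
    {k : G} (hk : k ∈ K) (hk1 : k ≠ 1) :
    ⁅M, M⁆ ⊓ Subgroup.centralizer ({k} : Set G) =
      sigmaCore M ⊓ Subgroup.centralizer (K : Set G) := by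
  have hcomm : ∀ a ∈ K, ∀ b ∈ sigmaCore M ⊓ Subgroup.centralizer (K : Set G), a * b = b * a :=
    fun a ha b hb => Subgroup.mem_centralizer_iff.mp hb.2 a ha
  apply le_antisymm
  · intro z hz
    obtain ⟨hz1, hz2⟩ := Subgroup.mem_inf.mp hz
    have hz3 : z ∈ M ⊓ Subgroup.centralizer ({k} : Set G) :=
      Subgroup.mem_inf.mpr ⟨Cfsg.Agent.Helper25.PF8.commutator_self_le M hz1, hz2⟩
    rw [hcent k hk hk1, Cfsg.Agent.Helper23.mem_sup_iff_of_commute hcomm] at hz3
    obtain ⟨a, ha, b, hb, rfl⟩ := hz3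
    have hbD : b ∈ ⁅M, M⁆ := by
      rw [hD]; exact Subgroup.mem_sup_right hb.1
    have haD : a ∈ ⁅M, M⁆ ⊓ K := by
      refine ⟨?_, ha⟩
      have e : a = (a * b) * b⁻¹ := by group
      rw [e]
      exact Subgroup.mul_mem _ hz1 (Subgroup.inv_mem _ hbD)
    rw [commutator_inf_K_eq_bot hKU hD, Subgroup.mem_bot] at haD
    subst haD
    rw [one_mul]
    exact hb
  · intro z hz
    obtain ⟨hz1, hz2⟩ := Subgroup.mem_inf.mp hz
    refine Subgroup.mem_inf.mpr ⟨?_, ?_⟩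
    · rw [hD]; exact Subgroup.mem_sup_right hz1
    · rw [Subgroup.mem_centralizer_iff]
      intro h hh
      rw [Set.mem_singleton_iff] at hh
      subst hh
      exact Subgroup.mem_centralizer_iff.mp hz2 h hk

/-- **(A2)** Type-`P` data `(W₁, W₂)` are `M`-conjugate to `(K, M_σ ⊓ C(K))`.  Black boxes in
statement shape: `hD` = S1365 (first clause), `hcent` = S1354 (second clause). -/
theorem typeP_conj [Finite G] (hG : IsMinSimpleOddOrder G) {M K U W₁ U' W₂ : Subgroup G}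
    (hM : IsCoatom M) (hKU : IsSigmaDecomposition M K U)
    (hD : ⁅M, M⁆ = U ⊔ sigmaCore M)
    (hcent : ∀ k ∈ K, k ≠ 1 → M ⊓ Subgroup.centralizer ({k} : Set G) =
      K ⊔ (sigmaCore M ⊓ Subgroup.centralizer (K : Set G)))
    (hK1 : K ≠ ⊥) (hP : IsTypePWith M W₁ U' W₂) :
    ∃ n ∈ M, W₁ = cj n K ∧ W₂ = cj n (sigmaCore M ⊓ Subgroup.centralizer (K : Set G)) := by
  have hsolv : Group.IsSolvable ↥M := hG.2.2.2 M hM.1
  have hHn : M ≤ Subgroup.normalizer ((⁅M, M⁆ : Subgroup G) : Set G) := by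
    intro d hd
    rw [Subgroup.mem_normalizer_iff]
    intro x
    constructor
    · exact fun hx => Cfsg.Agent.Helper25.PF8.conj_mem_commutator_self hd hx
    · intro hx
      have := Cfsg.Agent.Helper25.PF8.conj_mem_commutator_self (M.inv_mem hd) hx
      simpa [mul_assoc] using this
  have hcop : (Nat.card ↥⁅M, M⁆).Coprime ((⁅M, M⁆ : Subgroup G).relIndex M) := by
    rw [Cfsg.Agent.Helper60.BGAsm.card_eq_relIndex_of_isComplIn hP.W₁_compl,
      ← Cfsg.Agent.Helper60.BGAsm.card_eq_relIndex_of_isComplIn (isComplIn_symm hP.W₁_compl)]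
    exact hP.W₁_hall.symm
  obtain ⟨d, hd, h1, h2⟩ := Cfsg.Agent.Helper25.PF8.exists_conj_of_isComplIn hsolv hHn hcop
    (isComplIn_commutator_K hKU hD) hP.W₁_compl
  have hW₁ : W₁ = cj d K := by
    ext x
    rw [mem_cj]
    constructor
    · exact fun hx => h2 x hx
    · intro hx
      have := h1 _ hx
      have e : d * (d⁻¹ * x * d) * d⁻¹ = x := by group
      rwa [e] at this
  refine ⟨d, hd, hW₁, ?_⟩
  obtain ⟨k, hk, hk1⟩ : ∃ k : G, k ∈ K ∧ k ≠ 1 := by
    obtain ⟨y, hy⟩ := (Subgroup.ne_bot_iff_exists_ne_one (H := K)).mp hK1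
    exact ⟨(y : G), y.2, fun h => hy (Subtype.ext h)⟩
  have hW₂ := hP.W₂_centralizer (d * k * d⁻¹) (h1 k hk) (Cfsg.Agent.Helper25.PF8.conj_ne_one hk1)
  rw [← hW₂, ← commutator_inf_centralizer hKU hD hcent hk hk1]
  ext z
  rw [mem_cj]
  constructor
  · intro hz
    obtain ⟨hz1, hz2⟩ := Subgroup.mem_inf.mp hz
    refine Subgroup.mem_inf.mpr ⟨?_, ?_⟩
    · have := Cfsg.Agent.Helper25.PF8.conj_mem_commutator_self (M.inv_mem hd) hz1
      simpa using this
    · rw [Subgroup.mem_centralizer_iff] at hz2 ⊢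
      intro h hh
      rw [Set.mem_singleton_iff] at hh
      subst hh
      have := hz2 (d * h * d⁻¹) rfl
      calc h * (d⁻¹ * z * d) = d⁻¹ * ((d * h * d⁻¹) * z) * d := by group
        _ = d⁻¹ * (z * (d * h * d⁻¹)) * d := by rw [this]
        _ = d⁻¹ * z * d * h := by group
  · intro hz
    obtain ⟨hz1, hz2⟩ := Subgroup.mem_inf.mp hz
    refine Subgroup.mem_inf.mpr ⟨?_, ?_⟩
    · have := Cfsg.Agent.Helper25.PF8.conj_mem_commutator_self hd hz1
      have e : d * (d⁻¹ * z * d) * d⁻¹ = z := by group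
      rwa [e] at this
    · rw [Subgroup.mem_centralizer_iff] at hz2 ⊢
      intro h hh
      rw [Set.mem_singleton_iff] at hh
      subst hh
      have := hz2 k rfl
      calc d * k * d⁻¹ * z = d * (k * (d⁻¹ * z * d)) * d⁻¹ := by group
        _ = d * ((d⁻¹ * z * d) * k) * d⁻¹ := by rw [this]
        _ = z * (d * k * d⁻¹) := by group

end Cfsg.Agent.Helper21.BGIIA
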