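import Mathlib
import Cfsg.Prelude.Def_OddOrderLocal
import Cfsg.Agent.Helper21.BGIIA
import Cfsg.Agent.Helper23.FittingHall
import Cfsg.Agent.Helper25.PF8Main
import Cfsg.Agent.Helper25.PF8TypeII
import Cfsg.Agent.Helper60.BGAsmD

/-!
# Core of S1390 (B-G Theorem II (b)-type statement for complements of `M_F`)

Plan of helper75 (board post #3334): the given complement `U₁` of `M_F` in `M` (Type I) or in `M'`
(Type II) is itself part of a `σ`-decomposition of `M`, so that S1358/S1361/S1362 apply verbatim.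
All black boxes enter as hypotheses in statement shape; this file is unconditional.
-/

set_option autoImplicit false

namespace Cfsg.Agent.Helper21.BGIIb

open Cfsg Cfsg.Agent.Helper29.BG10 Cfsg.Agent.Helper29.BG11 Cfsg.Agent.Helper21.BGIIA

variable {G : Type*} [Group G]

/-! ### transport of `IsComplIn` and `IsSigmaDecomposition` by conjugation -/

theorem isComplIn_cj {A B M : Subgroup G} (h : IsComplIn A B M) (n : G) :
    IsComplIn (cj n A) (cj n B) (cj n M) := by
  refine ⟨cj_mono h.1, cj_mono h.2.1, ?_, ?_⟩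
  · rw [← cj_inf, h.2.2.1, cj_bot]
  · intro m hm
    obtain ⟨a, ha, b, hb, hab⟩ := h.2.2.2 _ (mem_cj.mp hm)
    refine ⟨n * a * n⁻¹, conj_mem_cj ha, n * b * n⁻¹, conj_mem_cj hb, ?_⟩
    calc m = n * (n⁻¹ * m * n) * n⁻¹ := by group
      _ = n * (a * b) * n⁻¹ := by rw [hab]
      _ = n * a * n⁻¹ * (n * b * n⁻¹) := by group

theorem isCyclic_cj {K : Subgroup G} (hK : IsCyclic K) (n : G) : IsCyclic (cj n K) := by
  unfold cj
  exact isCyclic_of_surjective
    (K.equivMapOfInjective (MulAut.conj n).toMonoidHom (MulAut.conj n).injective).toMonoidHom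
    (K.equivMapOfInjective (MulAut.conj n).toMonoidHom (MulAut.conj n).injective).surjective

theorem cj_sup (n : G) (A B : Subgroup G) : cj n (A ⊔ B) = cj n A ⊔ cj n B := by
  unfold cj
  exact Subgroup.map_sup _ _ _

/-- A `σ`-decomposition of `M` may be conjugated by an element of `M`. -/
theorem isSigmaDecomposition_cj [Finite G] {M K U : Subgroup G}
    (hKU : IsSigmaDecomposition M K U) {n : G} (hn : n ∈ M) :
    IsSigmaDecomposition M (cj n K) (cj n U) := by
  have hMM : cj n M = M := cj_eq_self_of_mem hn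
  refine ⟨isCyclic_cj hKU.cyclic n, ⟨?_, ?_, ?_⟩, ?_, ?_⟩
  · have := cj_mono (g := n) hKU.hall.1
    rwa [hMM] at this
  · intro p hp hd
    rw [card_cj] at hd
    exact hKU.hall.2.1 p hp hd
  · intro p hp hk
    have := hKU.hall.2.2 p hp hk
    rwa [← relIndex_cj n K M, hMM] at this
  · have := isComplIn_cj hKU.compl n
    rwa [hMM, cj_sup, cj_sigmaCore_of_mem hn] at this
  · rw [normalizer_cj]
    exact cj_mono hKU.normal

/-! ### conclusion (2): centralizers of subsets of `U₁` -/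

theorem cent_of_decomp {M U₁ : Subgroup G}
    (hHeq : fittingHallOf M = sigmaCore M)
    (h1361 : ∀ X : Subgroup G, X ≤ U₁ → X ≠ ⊥ →
      sigmaCore M ⊓ Subgroup.centralizer (X : Set G) ≠ ⊥ →
      Subgroup.centralizer (X : Set G) ≤ M ∧
        ∀ L : Subgroup G, IsCoatom L → Subgroup.centralizer (X : Set G) ≤ L → L = M) :
    ∀ X : Set G, X ⊆ (U₁ : Set G) \ {1} → X.Nonempty →
      fittingHallOf M ⊓ Subgroup.centralizer X ≠ ⊥ →
      Subgroup.centralizer X ≤ M ∧
        ∀ L : Subgroup G, IsCoatom L → Subgroup.centralizer X ≤ L → L = M := by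
  intro X hXU hXne hXc
  have h1 : Subgroup.closure X ≤ U₁ := (Subgroup.closure_le _).mpr (fun x hx => (hXU hx).1)
  have h2 : Subgroup.closure X ≠ ⊥ := by
    obtain ⟨x, hx⟩ := hXne
    intro h
    have hx' : x ∈ Subgroup.closure X := Subgroup.subset_closure hx
    rw [h, Subgroup.mem_bot] at hx'
    exact (hXU hx).2 hx'
  have h3 : Subgroup.centralizer ((Subgroup.closure X : Subgroup G) : Set G) =
      Subgroup.centralizer X := Subgroup.centralizer_closure X
  have := h1361 (Subgroup.closure X) h1 h2 (by rw [h3, ← hHeq]; exact hXc)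
  rwa [h3] at this

/-! ### conclusion (3): `A(M) \ A₁(M) = A(M, U₁) \ M_σ` -/

theorem ti_of_eq {M U₁ D : Subgroup G} (hD : D = U₁ ⊔ sigmaCore M) (hDM : D ≤ M)
    (hcore : typeCore M = sigmaCore M)
    (hA : typeA M = {a | a ∈ D ∧ a ≠ 1 ∧ ∃ x ∈ sigmaCore M, x ≠ 1 ∧ a * x = x * a})
    (hTI : IsTISubset (sigmaA M U₁ \ (sigmaCore M : Set G))) :
    IsTISubset (typeA M \ typeA1 M) := by
  have e : typeA M \ typeA1 M = sigmaA M U₁ \ (sigmaCore M : Set G) := by
    ext a
    unfold typeA1 sigmaA sigmaHat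
    rw [hA, hcore]
    constructor
    · rintro ⟨⟨haD, ha1, x, hx, hx1, hc⟩, hn⟩
      refine ⟨⟨⟨hDM haD, x, hx, hx1, hc⟩, ?_⟩, ?_⟩
      · rw [SetLike.mem_coe, ← hD]; exact haD
      · intro haMs
        exact hn ⟨haMs, ha1⟩
    · rintro ⟨⟨⟨-, x, hx, hx1, hc⟩, haD⟩, hn⟩
      have ha1 : a ≠ 1 := by
        intro h
        apply hn
        rw [h]
        exact Subgroup.one_mem _
      refine ⟨⟨?_, ha1, x, hx, hx1, hc⟩, ?_⟩
      · rw [SetLike.mem_coe, ← hD] at haD; exact haD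
      · intro h
        exact hn h.1
  rw [e]
  exact hTI

/-! ### Type I -/

theorem decomp_typeI [Finite G] {M K U U₁ : Subgroup G}
    (hKU : IsSigmaDecomposition M K U) (hI : IsOfTypeI M)
    (hc : IsComplIn (fittingHallOf M) U₁ M)
    (hHMs : fittingHallOf M ≤ sigmaCore M)
    (hKst_ne : sigmaCore M ⊓ Subgroup.centralizer (K : Set G) ≠ ⊥)
    (hKst_le : K ≠ ⊥ → sigmaCore M ⊓ Subgroup.centralizer (K : Set G) ≤ fittingHallOf M)
    (h1357 : fittingHallOf M ≠ sigmaCore M → (Nat.card K).Prime) :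
    fittingHallOf M = sigmaCore M ∧ IsSigmaDecomposition M ⊥ U₁ := by
  have hK : K = ⊥ := typeF_K_eq_bot hI.1 hKU.hall hHMs hKst_ne hKst_le
  subst hK
  have hHeq : fittingHallOf M = sigmaCore M := by
    by_contra h
    have := h1357 h
    rw [Subgroup.card_bot] at this
    exact Nat.not_prime_one this
  refine ⟨hHeq, hKU.cyclic, hKU.hall, ?_, bot_le⟩
  rw [bot_sup_eq, ← hHeq]
  exact isComplIn_symm hc

/-! ### Type II -/

theorem card_fittingHallOf (M : Subgroup G) :
    Nat.card (fittingHallOf M) = Nat.card (fittingHall ↥M) := by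
  unfold fittingHallOf
  rw [Subgroup.card_map_of_injective M.subtype_injective]

theorem relIndex_fittingHallOf (M : Subgroup G) :
    (fittingHallOf M).relIndex M = (fittingHall ↥M).index := by
  unfold Subgroup.relIndex fittingHallOf
  congr 1
  ext x
  simp [Subgroup.mem_subgroupOf]

/-- If a nontrivial nilpotent `UP` complements `M_F` in `M_σ` then `N_G(UP) ≤ M`. -/
theorem normalizer_le_of_compl [Finite G] {M UP : Subgroup G}
    (hMsHall : IsPiHallOf (sigma M) (sigmaCore M) M)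
    (hcompl : IsComplIn (fittingHallOf M) UP (sigmaCore M))
    (hnil : Group.IsNilpotent UP) (hUP1 : UP ≠ ⊥) :
    Subgroup.normalizer (UP : Set G) ≤ M := by
  classical
  have hcard1 : Nat.card UP ≠ 1 := fun h => hUP1 (Subgroup.card_eq_one.mp h)
  set r := (Nat.card UP).minFac with hr
  have hrp : r.Prime := Nat.minFac_prime hcard1
  have hrf : Fact r.Prime := ⟨hrp⟩
  have hrU : r ∣ Nat.card UP := Nat.minFac_dvd _
  have hMsM : sigmaCore M ≤ M := sigmaCore_le M
  have hcards := Cfsg.Agent.Helper60.BGAsm.card_mul_card_isComplIn hcompl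
  have hrMs : r ∣ Nat.card (sigmaCore M) := by
    rw [← hcards]; exact Dvd.dvd.mul_left hrU _
  have hrσ : r ∈ sigma M := primes_sigmaCore M r hrp hrMs
  -- `|UP|` is prime to `|M_F|`
  have hcop : (Nat.card (fittingHallOf M)).Coprime (Nat.card UP) := by
    have h1 := Cfsg.Agent.Helper23.fittingHall_coprime ↥M
    rw [← card_fittingHallOf, ← relIndex_fittingHallOf] at h1
    have h2 : Nat.card UP = (fittingHallOf M).relIndex (sigmaCore M) :=
      Cfsg.Agent.Helper60.BGAsm.card_eq_relIndex_of_isComplIn (isComplIn_symm hcompl)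
    have h3 := Subgroup.relIndex_mul_relIndex _ _ _ hcompl.1 hMsM
    rw [h2]
    exact Nat.Coprime.coprime_dvd_right (Dvd.intro _ h3) h1
  have hrH : ¬ r ∣ Nat.card (fittingHallOf M) := by
    intro h
    exact hrp.one_lt.ne' (Nat.eq_one_of_dvd_coprimes hcop h hrU)
  -- a Sylow `r`-subgroup of `UP`
  obtain ⟨R, -, hR⟩ := exists_isSylowIn_ge (p := r) (N := UP) (Y := ⊥) bot_le
    (IsPGroup.of_bot)
  have hRM : IsSylowIn r R M := by
    refine ⟨hR.1.trans (hcompl.2.1.trans hMsM), hR.2.1, ?_⟩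
    rw [← Subgroup.relIndex_mul_relIndex R UP M hR.1 (hcompl.2.1.trans hMsM),
      ← Subgroup.relIndex_mul_relIndex UP (sigmaCore M) M hcompl.2.1 hMsM,
      ← Cfsg.Agent.Helper60.BGAsm.card_eq_relIndex_of_isComplIn hcompl]
    intro h
    rcases (Nat.Prime.dvd_mul hrp).mp h with h | h
    · exact hR.2.2 h
    · rcases (Nat.Prime.dvd_mul hrp).mp h with h | h
      · exact hrH h
      · exact hMsHall.2.2 r hrp hrσ h
  have h1 := (sylow_of_mem_sigma hrσ hRM).1
  exact (IsSylowIn.normalizer_le_of_isNilpotent hR hnil).trans h1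

theorem decomp_typeII [Finite G] (hG : IsMinSimpleOddOrder G) {M K U U₁ : Subgroup G}
    (hM : IsCoatom M) (hKU : IsSigmaDecomposition M K U) (hII : IsOfTypeII M)
    (hc : IsComplIn (fittingHallOf M) U₁ ⁅M, M⁆)
    (hMsHall : IsPiHallOf (sigma M) (sigmaCore M) M)
    (hHMs : fittingHallOf M ≤ sigmaCore M) (hMsD : sigmaCore M ≤ ⁅M, M⁆)
    (h1357 : fittingHallOf M ≠ sigmaCore M → U = ⊥)
    (h1365 : K ≠ ⊥ → ⁅M, M⁆ = U ⊔ sigmaCore M) :
    fittingHallOf M = sigmaCore M ∧
      ∃ n ∈ M, IsSigmaDecomposition M (cj n K) U₁ ∧ cj n K ≠ ⊥ := by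
  obtain ⟨W₁, UP, W₂, hP, hUP1, -, -, -, hNU, -, -⟩ := hII
  have hK1 : K ≠ ⊥ := typeP_K_ne_bot hMsHall hHMs hMsD hKU.hall hP
  have hD := h1365 hK1
  have hUM : U ≤ M := hKU.compl.1
  have hDM : ⁅M, M⁆ ≤ M := Cfsg.Agent.Helper25.PF8.commutator_self_le M
  have hU1 : U ≠ ⊥ := by
    intro hUbot
    rw [hUbot, bot_sup_eq] at hD
    apply hNU
    have hcompl := hP.U_compl
    rw [hD] at hcompl
    exact normalizer_le_of_compl hMsHall hcompl hP.U_nilpotent hUP1
  have hHeq : fittingHallOf M = sigmaCore M := by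
    by_contra h
    exact hU1 (h1357 h)
  refine ⟨hHeq, ?_⟩
  -- the two complements of `M_σ` in `M'`
  have hUN : U ≤ Subgroup.normalizer ((sigmaCore M : Subgroup G) : Set G) :=
    hUM.trans (le_normalizer_sigmaCore M)
  have hc1 : IsComplIn (sigmaCore M) U ⁅M, M⁆ := by
    refine ⟨hMsD, by rw [hD]; exact le_sup_left, ?_, ?_⟩
    · rw [eq_bot_iff, ← hKU.compl.2.2.1, inf_comm]
      exact inf_le_inf le_rfl le_sup_right
    · intro m hm
      rw [hD, sup_comm, Cfsg.Agent.Helper23.mem_sup_iff_of_le_normalizer hUN] at hm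
      exact hm
  have hc2 : IsComplIn (sigmaCore M) U₁ ⁅M, M⁆ := by rw [← hHeq]; exact hc
  have hDtop : (⁅M, M⁆ : Subgroup G) ≠ ⊤ := fun h => hM.1 (top_le_iff.mp (h ▸ hDM))
  have hsolv : Group.IsSolvable ↥⁅M, M⁆ := hG.2.2.2 _ hDtop
  have hHn : (⁅M, M⁆ : Subgroup G) ≤ Subgroup.normalizer ((sigmaCore M : Subgroup G) : Set G) :=
    hDM.trans (le_normalizer_sigmaCore M)
  have hcop : (Nat.card (sigmaCore M)).Coprime ((sigmaCore M).relIndex ⁅M, M⁆) := by
    have h1 := coprime_of_isPiHallOf hMsHall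
    have h2 := Subgroup.relIndex_mul_relIndex _ _ _ hMsD hDM
    exact Nat.Coprime.coprime_dvd_right (Dvd.intro _ h2) h1
  obtain ⟨d, hd, h1, h2⟩ :=
    Cfsg.Agent.Helper25.PF8.exists_conj_of_isComplIn hsolv hHn hcop hc1 hc2
  have hU₁ : U₁ = cj d U := by
    ext x
    rw [mem_cj]
    constructor
    · exact fun hx => h2 x hx
    · intro hx
      have := h1 _ hx
      have e : d * (d⁻¹ * x * d) * d⁻¹ = x := by group
      rwa [e] at this
  refine ⟨d, hDM hd, ?_, cj_ne_bot hK1⟩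
  rw [hU₁]
  exact isSigmaDecomposition_cj hKU (hDM hd)

/-! ### assembly -/

/-- S1390 with all black boxes as hypotheses in statement shape: `h1350` = S1350 (first clause),
`h1351` = S1351, `h1352` = S1352 (first clause), `h1354` = S1354 (first clause), `h1355` = S1355
(second and third clauses), `h1357` = S1357 (first and third clauses), `h1358` = S1358,
`h1361` = S1361, `h1362` = S1362, `h1364` = S1364 (third clause), `h1365` = S1365 (first clause). -/
theorem s1390_core [Finite G] (hG : IsMinSimpleOddOrder G) (M : Subgroup G) (hM : IsCoatom M)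
    (h1350 : IsPiHallOf (sigma M) (sigmaCore M) M)
    (h1351 : ∃ K : Subgroup G, IsPiHallOf (kappa M) K M ∧ IsCyclic K)
    (h1352 : ∀ K : Subgroup G, IsCyclic K → IsPiHallOf (kappa M) K M →
      ∃ U : Subgroup G, IsSigmaDecomposition M K U)
    (h1354 : ∀ K : Subgroup G, IsCyclic K → IsPiHallOf (kappa M) K M →
      sigmaCore M ⊓ Subgroup.centralizer (K : Set G) ≠ ⊥)
    (h1355 : fittingHallOf M ≤ sigmaCore M ∧ sigmaCore M ≤ ⁅M, M⁆)
    (h1357 : ∀ K U : Subgroup G, IsSigmaDecomposition M K U →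
      fittingHallOf M ≠ sigmaCore M → U = ⊥ ∧ (Nat.card K).Prime)
    (h1358 : ∀ K U : Subgroup G, IsSigmaDecomposition M K U →
      ∀ (p : ℕ), p.Prime → ∀ P : Sylow p U,
        IsMulCommutative (P : Subgroup U) ∧ PRankLE p 2 (P : Subgroup U))
    (h1361 : ∀ K U : Subgroup G, IsSigmaDecomposition M K U → ∀ X : Subgroup G, X ≤ U → X ≠ ⊥ →
      sigmaCore M ⊓ Subgroup.centralizer (X : Set G) ≠ ⊥ →
      Subgroup.centralizer (X : Set G) ≤ M ∧
        ∀ L : Subgroup G, IsCoatom L → Subgroup.centralizer (X : Set G) ≤ L → L = M)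
    (h1362 : ∀ K U : Subgroup G, IsSigmaDecomposition M K U →
      IsTISubset (sigmaA M U \ (sigmaCore M : Set G)))
    (h1364 : ∀ K U : Subgroup G, IsSigmaDecomposition M K U → K ≠ ⊥ →
      sigmaCore M ⊓ Subgroup.centralizer (K : Set G) ≤ fittingHallOf M)
    (h1365 : ∀ K U : Subgroup G, IsSigmaDecomposition M K U → K ≠ ⊥ →
      ⁅M, M⁆ = U ⊔ sigmaCore M)
    (U : Subgroup G)
    (hU : (IsOfTypeI M ∧ IsComplIn (fittingHallOf M) U M) ∨
      (IsOfTypeII M ∧ IsComplIn (fittingHallOf M) U ⁅M, M⁆)) :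
    (∀ (p : ℕ), p.Prime → ∀ P : Sylow p U,
        IsMulCommutative (P : Subgroup U) ∧ PRankLE p 2 (P : Subgroup U)) ∧
      (∀ X : Set G, X ⊆ (U : Set G) \ {1} → X.Nonempty →
        fittingHallOf M ⊓ Subgroup.centralizer X ≠ ⊥ →
        Subgroup.centralizer X ≤ M ∧
          ∀ L : Subgroup G, IsCoatom L → Subgroup.centralizer X ≤ L → L = M) ∧
      IsTISubset (typeA M \ typeA1 M) := by
  classical
  obtain ⟨K₀, hK₀, hK₀c⟩ := h1351
  obtain ⟨U₀, hKU₀⟩ := h1352 K₀ hK₀c hK₀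
  rcases hU with ⟨hI, hc⟩ | ⟨hII, hc⟩
  · -- Type I
    obtain ⟨hHeq, hdec⟩ := decomp_typeI hKU₀ hI hc h1355.1 (h1354 K₀ hK₀c hK₀)
      (h1364 K₀ U₀ hKU₀) (fun h => (h1357 K₀ U₀ hKU₀ h).2)
    refine ⟨h1358 ⊥ U hdec, cent_of_decomp hHeq (h1361 ⊥ U hdec), ?_⟩
    have hcore : typeCore M = sigmaCore M := by
      rw [Cfsg.Agent.Helper25.PF8.typeCore_of_typeI hI, hHeq]
    have hMeq : M = U ⊔ sigmaCore M := by
      apply le_antisymm
      · intro m hm
        obtain ⟨u, hu, t, ht, rfl⟩ := hdec.compl.2.2.2 m hm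
        rw [bot_sup_eq] at ht
        exact Subgroup.mul_mem _ (Subgroup.mem_sup_left hu) (Subgroup.mem_sup_right ht)
      · exact sup_le hdec.compl.1 (sigmaCore_le M)
    refine ti_of_eq (D := M) hMeq le_rfl hcore ?_ (h1362 ⊥ U hdec)
    unfold typeA
    rw [if_pos hI, hHeq]
  · -- Type II
    obtain ⟨hHeq, n, hn, hdec, hK1⟩ := decomp_typeII hG hM hKU₀ hII hc h1350 h1355.1 h1355.2
      (fun h => (h1357 K₀ U₀ hKU₀ h).1) (h1365 K₀ U₀ hKU₀)
    refine ⟨h1358 _ U hdec, cent_of_decomp hHeq (h1361 _ U hdec), ?_⟩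
    have hcore : typeCore M = sigmaCore M := by
      rw [Cfsg.Agent.Helper25.PF8.typeCore_of_typeII hG hM hII, hHeq]
    have hnotI : ¬ IsOfTypeI M := by
      intro hI
      obtain ⟨W₁, UP, W₂, hP, -⟩ := hII
      exact Cfsg.Agent.Helper25.PF8.not_typeF_of_typeP hI.1 hP
    refine ti_of_eq (D := ⁅M, M⁆) (h1365 _ U hdec hK1)
      (Cfsg.Agent.Helper25.PF8.commutator_self_le M) hcore ?_ (h1362 _ U hdec)
    unfold typeA
    rw [if_neg hnotI, hcore]

end Cfsg.Agent.Helper21.BGIIb
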