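import Cfsg.Agent.Helper79.FeitData
import Cfsg.Agent.Helper74.CharComplete
import Cfsg.Agent.Helper74.CharCount
import Cfsg.Agent.Helper15.IndChar

/-!
# Feit's theorem on Zassenhaus groups: the case `c = 0` of the coherence core (helper21)

`feit_core_zero`: `FeitData K e h` + coherence of `tfS K` + "`star χ = χ` on `K \ {1}`" is
contradictory.  (Requested by helper79, WANTED #3124 (P3).)
-/

set_option autoImplicit false

namespace Cfsg.Agent.Helper21.FeitP3

open Cfsg Cfsg.Agent.Helper75 Cfsg.Agent.Helper9.FP Cfsg.Agent.Helper79.Feit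
open scoped ComplexConjugate

universe u

variable {G : Type u} [Group G] [Fintype G] {K : Subgroup G}
  [Fintype ↥(Subgroup.normalizer (K : Set G))]

/-- Step A: `ε • Θ` is not a function that is constant `0` or `1` on `K \ {1}`. -/
theorem ne_of_const {e h : ℕ} (hC : ∀ k ∈ K, k ≠ 1 → Subgroup.centralizer ({k} : Set G) ≤ K)
    (hh : Nat.card K = h) (he0 : 0 < e) (hlt : 2 * e < h - 1)
    {φ : ↥(Subgroup.normalizer (K : Set G)) → ℂ} (hφ : φ ∈ tfS K) (hφ1 : φ 1 = (e : ℂ))
    {Θ : G → ℂ}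
    (hΘ : ∀ k ∈ Ksharp K, Θ k = extendByZero (Subgroup.normalizer (K : Set G)) φ k)
    {ε : ℤ} (hε : ε = 1 ∨ ε = -1) {X : G → ℂ} {c : ℂ} (hc : c = 0 ∨ c = 1)
    (hX : ∀ k ∈ Ksharp K, X k = c) : (ε : ℂ) • Θ ≠ X := by
  intro heq
  have hsum := fp_rel_sum hC hφ
  have h1 : ∑ g ∈ Ksharp K, X g = ((Ksharp K).card : ℂ) * c := by
    rw [Finset.sum_congr rfl hX, Finset.sum_const, nsmul_eq_mul]
  have h2 : ∑ g ∈ Ksharp K, X g = (ε : ℂ) * (-(e : ℂ)) := by
    rw [← heq, ← hφ1, ← hsum, Finset.mul_sum]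
    refine Finset.sum_congr rfl (fun k hk => ?_)
    rw [Pi.smul_apply, smul_eq_mul, hΘ k hk]
  have hcard := card_Ksharp K
  rw [hh] at hcard
  have h3 : ((Ksharp K).card : ℂ) * c = (ε : ℂ) * (-(e : ℂ)) := by rw [← h1, h2]
  have hcardpos : 2 * e < (Ksharp K).card := by omega
  rcases hc with rfl | rfl
  · rcases hε with rfl | rfl
    · have : (e : ℂ) = 0 := by push_cast at h3; linear_combination h3
      have : e = 0 := by exact_mod_cast this
      omega
    · have : (e : ℂ) = 0 := by push_cast at h3; linear_combination -h3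
      have : e = 0 := by exact_mod_cast this
      omega
  · rcases hε with rfl | rfl
    · have : (((Ksharp K).card + e : ℕ) : ℂ) = 0 := by push_cast at h3 ⊢; linear_combination h3
      have : (Ksharp K).card + e = 0 := by exact_mod_cast this
      omega
    · have : (((Ksharp K).card : ℕ) : ℂ) = (e : ℂ) := by push_cast at h3; linear_combination h3
      have : (Ksharp K).card = e := by exact_mod_cast this
      omega


omit [Fintype ↥(Subgroup.normalizer (K : Set G))] in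
/-- Distinct irreducible characters are orthogonal (function form). -/
theorem inner_irr_of_ne {X Y : G → ℂ} (hX : IsIrrCharacter G X) (hY : IsIrrCharacter G Y)
    (hne : X ≠ Y) : classInner X Y = 0 := by
  have : (⟨X, hX⟩ : IrrCharacter G) ≠ ⟨Y, hY⟩ := fun h => hne (congrArg Subtype.val h)
  exact Helper74.irr_inner_ne this

omit [Fintype G] [Fintype ↥(Subgroup.normalizer (K : Set G))] in
theorem eps_sq {ε : ℤ} (hε : ε = 1 ∨ ε = -1) : (ε : ℂ) * (ε : ℂ) = 1 := by
  rcases hε with rfl | rfl <;> simp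

/-- Step B: `Θ` is orthogonal to `ind μ` for every irreducible `μ` of `N` trivial on `K`. -/
theorem inner_ind_zero {e h : ℕ} (D : FeitData K e h)
    {φ : ↥(Subgroup.normalizer (K : Set G)) → ℂ} (hφ : φ ∈ tfS K) (hφ1 : φ 1 = (e : ℂ))
    {Θ : G → ℂ}
    (hΘ : ∀ k ∈ Ksharp K, Θ k = extendByZero (Subgroup.normalizer (K : Set G)) φ k)
    {ε : ℤ} (hε : ε = 1 ∨ ε = -1) (hirr : IsIrrCharacter G ((ε : ℂ) • Θ))
    (μ : ↥(Subgroup.normalizer (K : Set G)) → ℂ)
    (hμ : IsIrrCharacter ↥(Subgroup.normalizer (K : Set G)) μ)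
    (hμK : ∀ u : ↥(Subgroup.normalizer (K : Set G)), (u : G) ∈ K → μ u = μ 1) :
    classInner Θ (indFun (Subgroup.normalizer (K : Set G)) μ) = 0 := by
  have he0 : 0 < e := lt_trans Nat.zero_lt_one D.he1
  have hΘeq : Θ = (ε : ℂ) • ((ε : ℂ) • Θ) := by
    rw [smul_smul, eps_sq hε, one_smul]
  have hne : ∀ {X : G → ℂ} {c : ℂ}, (c = 0 ∨ c = 1) → (∀ k ∈ Ksharp K, X k = c) →
      (ε : ℂ) • Θ ≠ X := fun hc hX =>
    ne_of_const D.hC D.hh he0 D.hlt hφ hφ1 hΘ hε hc hX
  rw [hΘeq, Helper15.classInner_smul_left]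
  suffices hsuff : classInner ((ε : ℂ) • Θ) (indFun (Subgroup.normalizer (K : Set G)) μ) = 0 by
    rw [hsuff, mul_zero]
  by_cases hμ1 : μ = fun _ => 1
  · subst hμ1
    obtain ⟨ψ₀, hψ₀, hind, hψ₀K⟩ := D.h2t
    rw [hind, Helper15.classInner_add_right,
      inner_irr_of_ne hirr Helper79.isIrrCharacter_one (hne (Or.inr rfl) (fun _ _ => rfl)),
      inner_irr_of_ne hirr hψ₀ (hne (Or.inl rfl) (fun k hk => hψ₀K k (mem_Ksharp.mp hk).1
        (mem_Ksharp.mp hk).2)), add_zero]
  · obtain ⟨hirr', hval⟩ := D.hps μ hμ hμK hμ1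
    exact inner_irr_of_ne hirr hirr' (hne (Or.inr rfl) (fun k hk => hval k (mem_Ksharp.mp hk).1
        (mem_Ksharp.mp hk).2))

/-- Step C: a class function of `N` orthogonal to all irreducible characters trivial on `K`
vanishes off `K` and has sum zero. -/
theorem restrict_vanish (hC : ∀ k ∈ K, k ≠ 1 → Subgroup.centralizer ({k} : Set G) ≤ K)
    {R : ↥(Subgroup.normalizer (K : Set G)) → ℂ}
    (hRcf : IsClassFunction ↥(Subgroup.normalizer (K : Set G)) R)
    (hR0 : ∀ μ : ↥(Subgroup.normalizer (K : Set G)) → ℂ,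
      IsIrrCharacter ↥(Subgroup.normalizer (K : Set G)) μ →
      (∀ u : ↥(Subgroup.normalizer (K : Set G)), (u : G) ∈ K → μ u = μ 1) → classInner R μ = 0) :
    (∀ n : ↥(Subgroup.normalizer (K : Set G)), (n : G) ∉ K → R n = 0) ∧ ∑ n, R n = 0 := by
  classical
  let _ := Helper74.irrFintype ↥(Subgroup.normalizer (K : Set G))
  have hdec := Helper74.classFunction_eq_sum_irr hRcf
  refine ⟨?_, ?_⟩
  · intro n hn
    have h1 := congrFun hdec n
    rw [h1]
    simp only [Finset.sum_apply, Pi.smul_apply, smul_eq_mul]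
    apply Finset.sum_eq_zero
    intro ζ _
    by_cases hrel : ∃ k : ↥(Subgroup.normalizer (K : Set G)), (k : G) ∈ K ∧ ζ.1 k ≠ ζ.1 1
    · have hmem : ζ.1 ∈ tfS K := ⟨ζ.2, hrel⟩
      rw [tf_vanish hC hmem n hn, mul_zero]
    · push Not at hrel
      rw [hR0 ζ.1 ζ.2 hrel, zero_mul]
  · have h1 := hR0 (fun _ => 1) Helper79.isIrrCharacter_one (fun _ _ => rfl)
    rw [Helper15.classInner_apply] at h1
    have hN : (Nat.card ↥(Subgroup.normalizer (K : Set G)) : ℂ)⁻¹ ≠ 0 := by
      apply inv_ne_zero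
      have : Nat.card ↥(Subgroup.normalizer (K : Set G)) ≠ 0 := Nat.card_pos.ne'
      exact_mod_cast this
    have h2 := (mul_eq_zero.mp h1).resolve_left hN
    simpa using h2


/-- Step C': `Θ 1 = φ 1`. -/
theorem theta_one (hC : ∀ k ∈ K, k ≠ 1 → Subgroup.centralizer ({k} : Set G) ≤ K)
    {φ : ↥(Subgroup.normalizer (K : Set G)) → ℂ} (hφ : φ ∈ tfS K) {Θ : G → ℂ}
    (hΘ : ∀ k ∈ Ksharp K, Θ k = extendByZero (Subgroup.normalizer (K : Set G)) φ k)
    (hvan : ∀ n : ↥(Subgroup.normalizer (K : Set G)), (n : G) ∉ K → Θ n = 0)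
    (hsum : ∑ n : ↥(Subgroup.normalizer (K : Set G)), Θ n = 0) : Θ 1 = φ 1 := by
  have hle : K ≤ Subgroup.normalizer (K : Set G) := Subgroup.le_normalizer
  let R : ↥(Subgroup.normalizer (K : Set G)) → ℂ := fun n => Θ n
  have hext_van : ∀ g : G, g ∉ K → extendByZero (Subgroup.normalizer (K : Set G)) R g = 0 := by
    intro g hg
    by_cases hgN : g ∈ Subgroup.normalizer (K : Set G)
    · rw [Helper15.extendByZero_of_mem _ R hgN]
      exact hvan ⟨g, hgN⟩ hg
    · exact Helper15.extendByZero_of_not_mem _ R hgN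
  have h1 := sum_Ksharp_of_vanish K (extendByZero (Subgroup.normalizer (K : Set G)) R) hext_van
  rw [Helper15.sum_extendByZero, fp_rel_ext_one] at h1
  have h2 : ∑ h : ↥(Subgroup.normalizer (K : Set G)), R h = 0 := hsum
  rw [h2, zero_sub] at h1
  have h3 : ∑ g ∈ Ksharp K, extendByZero (Subgroup.normalizer (K : Set G)) R g
      = ∑ g ∈ Ksharp K, extendByZero (Subgroup.normalizer (K : Set G)) φ g := by
    refine Finset.sum_congr rfl (fun g hg => ?_)
    rw [← hΘ g hg, Helper15.extendByZero_of_mem _ R (hle (mem_Ksharp.mp hg).1)]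
  rw [h3, fp_rel_sum hC hφ] at h1
  have h4 : R 1 = Θ 1 := by
    show Θ ((1 : ↥(Subgroup.normalizer (K : Set G))) : G) = Θ 1
    rw [OneMemClass.coe_one]
  rw [← h4]
  linear_combination h1

omit [Fintype G] [Fintype ↥(Subgroup.normalizer (K : Set G))] in
/-- Step D: the sign is `+1`. -/
theorem eps_one {e : ℕ} (he0 : 0 < e) {Θ : G → ℂ} (hΘ1 : Θ 1 = (e : ℂ)) {ε : ℤ}
    (hε : ε = 1 ∨ ε = -1) (hirr : IsIrrCharacter G ((ε : ℂ) • Θ)) : ε = 1 := by
  rcases hε with rfl | rfl
  · rfl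
  · exfalso
    obtain ⟨d, hd0, hd⟩ := fk_irr_apply_one (⟨_, hirr⟩ : IrrCharacter G)
    simp only [Pi.smul_apply, smul_eq_mul, hΘ1] at hd
    have : ((d + e : ℕ) : ℂ) = 0 := by push_cast at hd ⊢; linear_combination -hd
    have : d + e = 0 := by exact_mod_cast this
    omega

/-- Step D': the restriction of `Θ` to `N` is `φ`. -/
theorem restrict_eq (hC : ∀ k ∈ K, k ≠ 1 → Subgroup.centralizer ({k} : Set G) ≤ K)
    {φ : ↥(Subgroup.normalizer (K : Set G)) → ℂ} (hφ : φ ∈ tfS K) {Θ : G → ℂ}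
    (hΘ : ∀ k ∈ Ksharp K, Θ k = extendByZero (Subgroup.normalizer (K : Set G)) φ k)
    (hvan : ∀ n : ↥(Subgroup.normalizer (K : Set G)), (n : G) ∉ K → Θ n = 0)
    (hΘ1 : Θ 1 = φ 1) :
    (fun n : ↥(Subgroup.normalizer (K : Set G)) => Θ n) = φ := by
  funext n
  by_cases hn : (n : G) ∈ K
  · by_cases hn1 : n = 1
    · subst hn1
      show Θ ((1 : ↥(Subgroup.normalizer (K : Set G))) : G) = φ 1
      rw [OneMemClass.coe_one, hΘ1]
    · have hmem : (n : G) ∈ Ksharp K := mem_Ksharp.mpr ⟨hn, fun h => hn1 (Subtype.ext h)⟩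
      show Θ (n : G) = φ n
      rw [hΘ _ hmem, Helper15.extendByZero_coe]
  · show Θ (n : G) = φ n
    rw [hvan n hn, tf_vanish hC hφ n hn]

/-- Step E: multiplicity of `ind μ` in `Θ * conj Θ`. -/
theorem inner_gamma_ind (hC : ∀ k ∈ K, k ≠ 1 → Subgroup.centralizer ({k} : Set G) ≤ K)
    {φ : ↥(Subgroup.normalizer (K : Set G)) → ℂ} (hφ : φ ∈ tfS K) {Θ : G → ℂ}
    (hΘirr : IsIrrCharacter G Θ)
    (hres : (fun n : ↥(Subgroup.normalizer (K : Set G)) => Θ n) = φ)
    (μ : ↥(Subgroup.normalizer (K : Set G)) → ℂ)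
    (hμK : ∀ u : ↥(Subgroup.normalizer (K : Set G)), (u : G) ∈ K → μ u = μ 1) (hμ1 : μ 1 = 1) :
    classInner (fun g => Θ g * conj (Θ g)) (indFun (Subgroup.normalizer (K : Set G)) μ) = 1 := by
  have hΘc := Helper74.isCharacter_of_isIrr hΘirr
  have hΓ : IsCharacter G (fun g => Θ g * conj (Θ g)) :=
    Helper74.isCharacter_mul hΘc (Helper74.isCharacter_conj hΘc)
  have hΓcf := Helper74.isClassFunction_of_isCharacter hΓ
  rw [Helper15.frobenius_reciprocity' _ μ _ hΓcf, Helper15.classInner_apply]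
  have h5 := Helper74.irr_inner_self (⟨φ, hφ.1⟩ : IrrCharacter ↥(Subgroup.normalizer (K : Set G)))
  rw [Helper15.classInner_apply] at h5
  rw [← h5]
  congr 1
  refine Finset.sum_congr rfl (fun n _ => ?_)
  have hn : Θ (n : G) = φ n := congrFun hres n
  show Θ (n : G) * conj (Θ (n : G)) * conj (μ n) = φ n * conj (φ n)
  rw [hn]
  by_cases hnK : (n : G) ∈ K
  · rw [hμK n hnK, hμ1, map_one, mul_one]
  · rw [tf_vanish hC hφ n hnK]; simp

omit [Fintype ↥(Subgroup.normalizer (K : Set G))] in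
theorem inner_gamma_one {Θ : G → ℂ} (hΘirr : IsIrrCharacter G Θ) :
    classInner (fun g => Θ g * conj (Θ g)) (fun _ => (1 : ℂ)) = 1 := by
  have h5 := Helper74.irr_inner_self (⟨Θ, hΘirr⟩ : IrrCharacter G)
  rw [Helper15.classInner_apply] at h5 ⊢
  simp only [map_one, mul_one]
  exact h5


/-- The number of irreducible characters of `N` trivial on `K` is `e = |N : K|`, when all of
them are linear. -/
theorem card_trivial {e : ℕ} (he : caE K = e)
    (hlin : ∀ μ : ↥(Subgroup.normalizer (K : Set G)) → ℂ,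
      IsIrrCharacter ↥(Subgroup.normalizer (K : Set G)) μ →
      (∀ u : ↥(Subgroup.normalizer (K : Set G)), (u : G) ∈ K → μ u = μ 1) → μ 1 = 1) :
    Nat.card {ζ : IrrCharacter ↥(Subgroup.normalizer (K : Set G)) //
      ∀ u : ↥(Subgroup.normalizer (K : Set G)), (u : G) ∈ K → ζ.1 u = ζ.1 1} = e := by
  classical
  let _ := Helper74.irrFintype ↥(Subgroup.normalizer (K : Set G))
  let p : IrrCharacter ↥(Subgroup.normalizer (K : Set G)) → Prop := fun ζ =>
    ∃ k ∈ K.subgroupOf (Subgroup.normalizer (K : Set G)),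
      (ζ : ↥(Subgroup.normalizer (K : Set G)) → ℂ) k
        ≠ (ζ : ↥(Subgroup.normalizer (K : Set G)) → ℂ) 1
  let f : IrrCharacter ↥(Subgroup.normalizer (K : Set G)) → ℕ := fun ζ =>
    charDegree (ζ : ↥(Subgroup.normalizer (K : Set G)) → ℂ)
      * charDegree (ζ : ↥(Subgroup.normalizer (K : Set G)) → ℂ)
  have h1 : ∑ ζ : {ζ // p ζ}, f ζ.1
      + (K.subgroupOf (Subgroup.normalizer (K : Set G))).index
      = Nat.card ↥(Subgroup.normalizer (K : Set G)) :=
    fp_sum_degree_sq (K.subgroupOf (Subgroup.normalizer (K : Set G)))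
  have h2 : ∑ ζ, f ζ = Nat.card ↥(Subgroup.normalizer (K : Set G)) := tf_sum_degree_sq_nat
  have hsplit := Fintype.sum_subtype_add_sum_subtype p f
  have htriv : ∀ ζ : IrrCharacter ↥(Subgroup.normalizer (K : Set G)), ¬ p ζ ↔
      ∀ u : ↥(Subgroup.normalizer (K : Set G)), (u : G) ∈ K → ζ.1 u = ζ.1 1 := by
    intro ζ
    constructor
    · intro hnp u hu
      by_contra hne
      exact hnp ⟨u, Subgroup.mem_subgroupOf.mpr hu, hne⟩
    · rintro h ⟨k, hk, hne⟩
      exact hne (h k (Subgroup.mem_subgroupOf.mp hk))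
  have h4 : ∀ ζ : {ζ // ¬ p ζ}, f ζ.1 = 1 := by
    intro ζ
    have h5 := hlin ζ.1.1 ζ.1.2 ((htriv ζ.1).mp ζ.2)
    have h6 : charDegree (ζ.1.1 : ↥(Subgroup.normalizer (K : Set G)) → ℂ) = 1 := by
      have h7 := Helper78.irrChar_one_eq_charDegree ζ.1.2
      rw [h5] at h7
      exact_mod_cast h7.symm
    show charDegree (ζ.1.1 : ↥(Subgroup.normalizer (K : Set G)) → ℂ)
      * charDegree (ζ.1.1 : ↥(Subgroup.normalizer (K : Set G)) → ℂ) = 1
    rw [h6]
  have h3 : ∑ ζ : {ζ // ¬ p ζ}, f ζ.1 = Fintype.card {ζ // ¬ p ζ} := by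
    rw [Finset.sum_congr rfl (fun ζ _ => h4 ζ), Finset.sum_const, Finset.card_univ, smul_eq_mul,
      mul_one]
  have h8 : Fintype.card {ζ // ¬ p ζ} = e := by
    rw [← he]
    unfold caE
    omega
  rw [← h8, Nat.card_eq_fintype_card]
  exact Fintype.card_congr (Equiv.subtypeEquivRight (fun ζ => (htriv ζ).symm))

/-- Step F: the counting contradiction. -/
theorem count_false {e h : ℕ} (D : FeitData K e h)
    {φ : ↥(Subgroup.normalizer (K : Set G)) → ℂ} (hφ : φ ∈ tfS K) (hφ1 : φ 1 = (e : ℂ))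
    {Θ : G → ℂ} (hΘirr : IsIrrCharacter G Θ)
    (hres : (fun n : ↥(Subgroup.normalizer (K : Set G)) => Θ n) = φ) : False := by
  classical
  let _ := Helper74.irrFintype ↥(Subgroup.normalizer (K : Set G))
  let _ := Helper74.irrFintype G
  have hle : K ≤ Subgroup.normalizer (K : Set G) := Subgroup.le_normalizer
  -- the character Γ
  let Γ : G → ℂ := fun g => Θ g * conj (Θ g)
  have hΘc := Helper74.isCharacter_of_isIrr hΘirr
  have hΓ : IsCharacter G Γ := Helper74.isCharacter_mul hΘc (Helper74.isCharacter_conj hΘc)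
  have hΘ1 : Θ 1 = (e : ℂ) := by
    have := congrFun hres 1
    simp only [OneMemClass.coe_one] at this
    rw [this, hφ1]
  have hΓ1 : Γ 1 = ((e * e : ℕ) : ℂ) := by
    show Θ 1 * conj (Θ 1) = _
    rw [hΘ1]; simp
  -- multiplicities and degrees
  have hm : ∀ ψ : IrrCharacter G, ∃ m : ℕ, classInner Γ (ψ : G → ℂ) = m :=
    fun ψ => Helper74.isCharacter_inner_irr_nat hΓ ψ
  have hd : ∀ ψ : IrrCharacter G, ∃ d : ℕ, 0 < d ∧ (ψ : G → ℂ) 1 = d := fk_irr_apply_one
  choose m hm using hm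
  choose d hdpos hd using hd
  have hdec := congrFun (Helper74.isCharacter_eq_sum_irr hΓ) 1
  simp only [Finset.sum_apply, Pi.smul_apply, smul_eq_mul] at hdec
  have htot : ∑ ψ : IrrCharacter G, m ψ * d ψ = e * e := by
    have h1 : ((∑ ψ : IrrCharacter G, m ψ * d ψ : ℕ) : ℂ) = ((e * e : ℕ) : ℂ) := by
      rw [← hΓ1, hdec]
      push_cast
      refine Finset.sum_congr rfl (fun ψ _ => ?_)
      rw [hm ψ, hd ψ]
    exact_mod_cast h1
  -- the characters of `N` trivial on `K`
  let P : IrrCharacter ↥(Subgroup.normalizer (K : Set G)) → Prop := fun ζ =>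
    ∀ u : ↥(Subgroup.normalizer (K : Set G)), (u : G) ∈ K → ζ.1 u = ζ.1 1
  let S : Finset (IrrCharacter ↥(Subgroup.normalizer (K : Set G))) := Finset.univ.filter P
  have hScard : S.card = e := by
    have h1 := card_trivial D.he D.hlin
    rw [Nat.card_eq_fintype_card, Fintype.card_subtype] at h1
    exact h1
  let oneN : IrrCharacter ↥(Subgroup.normalizer (K : Set G)) :=
    ⟨fun _ => 1, Helper79.isIrrCharacter_one⟩
  have honeS : oneN ∈ S := by
    simp only [S, Finset.mem_filter, Finset.mem_univ, true_and]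
    intro u _
    rfl
  let S' := S.erase oneN
  have hS'card : S'.card + 1 = e := by
    rw [← hScard]
    exact Finset.card_erase_add_one honeS
  -- properties of members of S'
  have hS'mem : ∀ ζ ∈ S', P ζ ∧ ζ.1 ≠ (fun _ => (1 : ℂ)) := by
    intro ζ hζ
    obtain ⟨hne, hζS⟩ := Finset.mem_erase.mp hζ
    refine ⟨(Finset.mem_filter.mp hζS).2, fun h => hne (Subtype.ext h)⟩
  have hirrInd : ∀ ζ ∈ S', IsIrrCharacter G (indFun (Subgroup.normalizer (K : Set G)) ζ.1) :=
    fun ζ hζ => (D.hps ζ.1 ζ.2 (hS'mem ζ hζ).1 (hS'mem ζ hζ).2).1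
  let oneG : IrrCharacter G := ⟨fun _ => 1, Helper79.isIrrCharacter_one⟩
  let F : IrrCharacter ↥(Subgroup.normalizer (K : Set G)) → IrrCharacter G := fun ζ =>
    if hζ : IsIrrCharacter G (indFun (Subgroup.normalizer (K : Set G)) ζ.1) then
      ⟨indFun (Subgroup.normalizer (K : Set G)) ζ.1, hζ⟩ else oneG
  have hF : ∀ ζ ∈ S', ((F ζ : IrrCharacter G) : G → ℂ)
      = indFun (Subgroup.normalizer (K : Set G)) ζ.1 := by
    intro ζ hζ
    have h1 : F ζ = ⟨indFun (Subgroup.normalizer (K : Set G)) ζ.1, hirrInd ζ hζ⟩ :=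
      dif_pos (hirrInd ζ hζ)
    rw [h1]
  let J : Finset (IrrCharacter G) := S'.image F
  -- fibres have at most two elements
  have hfib : ∀ a ∈ S'.image F, (S'.filter (fun x => F x = a)).card ≤ 2 := by
    intro a ha
    obtain ⟨μ₀, hμ₀, rfl⟩ := Finset.mem_image.mp ha
    have hcard : (S'.filter (fun x => F x = F μ₀)).card ≤ (Finset.univ : Finset Bool).card := by
      apply Finset.card_le_card_of_injOn (fun x => decide (x = μ₀))
      · intro x _; exact Finset.mem_univ _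
      · intro x hx y hy hxy
        have hx' := Finset.mem_filter.mp hx
        have hy' := Finset.mem_filter.mp hy
        have hxind : indFun (Subgroup.normalizer (K : Set G)) μ₀.1
            = indFun (Subgroup.normalizer (K : Set G)) x.1 := by
          rw [← hF x hx'.1, ← hF μ₀ hμ₀, hx'.2]
        have hyind : indFun (Subgroup.normalizer (K : Set G)) μ₀.1
            = indFun (Subgroup.normalizer (K : Set G)) y.1 := by
          rw [← hF y hy'.1, ← hF μ₀ hμ₀, hy'.2]
        have hx2 := D.hpsd μ₀.1 x.1 μ₀.2 (hS'mem μ₀ hμ₀).1 x.2 (hS'mem x hx'.1).1 hxind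
        have hy2 := D.hpsd μ₀.1 y.1 μ₀.2 (hS'mem μ₀ hμ₀).1 y.2 (hS'mem y hy'.1).1 hyind
        simp only [decide_eq_decide] at hxy
        by_cases hxe : x = μ₀
        · rw [hxe, ← hxy.mp hxe]
        · have hye : ¬ y = μ₀ := fun h => hxe (hxy.mpr h)
          have hx3 := hx2.resolve_left (fun h => hxe (Subtype.ext h))
          have hy3 := hy2.resolve_left (fun h => hye (Subtype.ext h))
          exact Subtype.ext (hx3.trans hy3.symm)
    simpa using hcard
  have hJcard : S'.card ≤ 2 * J.card := Finset.card_le_mul_card_image S' 2 hfib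
  -- values of m and d on J and on the principal character
  have hmJ : ∀ ψ ∈ J, m ψ = 1 ∧ d ψ = h + 1 := by
    intro ψ hψ
    obtain ⟨ζ, hζ, rfl⟩ := Finset.mem_image.mp hψ
    have hζ1 : ζ.1 1 = 1 := D.hlin ζ.1 ζ.2 (hS'mem ζ hζ).1
    constructor
    · have h1 := hm (F ζ)
      rw [hF ζ hζ, inner_gamma_ind D.hC hφ hΘirr hres ζ.1 (hS'mem ζ hζ).1 hζ1] at h1
      exact_mod_cast h1.symm
    · have h1 := hd (F ζ)
      rw [hF ζ hζ, Helper15.indFun_apply_one, hζ1, D.hidx, mul_one] at h1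
      exact_mod_cast h1.symm
  have hmone : m oneG = 1 ∧ d oneG = 1 := by
    constructor
    · have h1 := hm oneG
      rw [show ((oneG : IrrCharacter G) : G → ℂ) = fun _ => 1 from rfl,
        inner_gamma_one hΘirr] at h1
      exact_mod_cast h1.symm
    · have h1 := hd oneG
      rw [show ((oneG : IrrCharacter G) : G → ℂ) 1 = 1 from rfl] at h1
      exact_mod_cast h1.symm
  have honeJ : oneG ∉ J := by
    intro hmem
    have h1 := (hmJ oneG hmem).2
    rw [hmone.2] at h1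
    have := D.hlt
    omega
  -- the final estimate
  have hsub : ∑ ψ ∈ insert oneG J, m ψ * d ψ ≤ ∑ ψ : IrrCharacter G, m ψ * d ψ :=
    Finset.sum_le_sum_of_subset (Finset.subset_univ _)
  rw [Finset.sum_insert honeJ, hmone.1, hmone.2, htot] at hsub
  have hJsum : ∑ ψ ∈ J, m ψ * d ψ = J.card * (h + 1) := by
    rw [Finset.sum_congr rfl (fun ψ hψ => by rw [(hmJ ψ hψ).1, (hmJ ψ hψ).2, one_mul]),
      Finset.sum_const, smul_eq_mul]
  rw [hJsum] at hsub
  have hlt := D.hlt
  have he1 := D.he1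
  -- arithmetic
  have h2 : 2 * e + 2 ≤ h := by omega
  have h3 : e ≤ 2 * J.card + 1 := by omega
  nlinarith [Nat.mul_le_mul h3 (show 2 * e + 3 ≤ h + 1 by omega), hsub]

/-- **WANTED #3124 (P3)**: `FeitData`, coherence of `tfS K` and `star χ = χ` on `K \ {1}` are
contradictory. -/
theorem feit_core_zero {G : Type u} [Group G] [Fintype G] {K : Subgroup G}
    [Fintype ↥(Subgroup.normalizer (K : Set G))] {e h : ℕ} (D : FeitData K e h)
    {star : (↥(Subgroup.normalizer (K : Set G)) → ℂ) → (G → ℂ)} (hS : CohStar K star)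
    (hc0 : ∀ χ ∈ tfS K, ∀ k ∈ Ksharp K,
      star χ k = extendByZero (Subgroup.normalizer (K : Set G)) χ k) : False := by
  obtain ⟨φ, hφ, hφ1⟩ := D.hdeg
  obtain ⟨ε, hε, hirr⟩ := fp_sign D.hC hS
  have he0 : 0 < e := lt_trans Nat.zero_lt_one D.he1
  have hΘ := hc0 φ hφ
  have hirrΘ := hirr φ hφ
  have hΘcf : IsClassFunction G (star φ) := by
    have h1 : star φ = (ε : ℂ) • ((ε : ℂ) • star φ) := by
      rw [smul_smul, eps_sq hε, one_smul]
    rw [h1]
    exact Helper74.isClassFunction_smul _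
      (Helper74.isClassFunction_of_isCharacter (Helper74.isCharacter_of_isIrr hirrΘ))
  have hRcf : IsClassFunction ↥(Subgroup.normalizer (K : Set G))
      (fun n : ↥(Subgroup.normalizer (K : Set G)) => star φ n) := by
    intro g x
    show star φ ((x * g * x⁻¹ : ↥(Subgroup.normalizer (K : Set G))) : G) = star φ (g : G)
    have := hΘcf (g : G) (x : G)
    simpa using this
  have hR0 : ∀ μ : ↥(Subgroup.normalizer (K : Set G)) → ℂ,
      IsIrrCharacter ↥(Subgroup.normalizer (K : Set G)) μ →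
      (∀ u : ↥(Subgroup.normalizer (K : Set G)), (u : G) ∈ K → μ u = μ 1) →
      classInner (fun n : ↥(Subgroup.normalizer (K : Set G)) => star φ n) μ = 0 := by
    intro μ hμ hμK
    rw [← Helper15.frobenius_reciprocity' _ μ _ hΘcf]
    exact inner_ind_zero D hφ hφ1 hΘ hε hirrΘ μ hμ hμK
  obtain ⟨hvan, hsum⟩ := restrict_vanish D.hC hRcf hR0
  have hΘ1 : star φ 1 = φ 1 := theta_one D.hC hφ hΘ hvan hsum
  have hε1 : ε = 1 := eps_one he0 (hΘ1.trans hφ1) hε hirrΘ
  have hΘirr : IsIrrCharacter G (star φ) := by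
    have := hirrΘ
    rw [hε1] at this
    simpa using this
  exact count_false D hφ hφ1 hΘirr (restrict_eq D.hC hφ hΘ hvan hΘ1)

end Cfsg.Agent.Helper21.FeitP3
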