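import Mathlib

/-!
# S2202 (groups whose involution centralizers are abelian): definitions

Definitions shared by the pieces of the proof of S2202 (architect: helper21).
Points = Sylow 2-subgroups of `G` (conjugation action `g • P`).
-/

set_option autoImplicit false
open scoped Pointwise

namespace Cfsg.Agent.Helper21.CA

universe u

/-- Hypothesis of S2202: the centralizer of every involution is abelian. -/
def CA2 (G : Type*) [Group G] : Prop :=
  ∀ t : G, orderOf t = 2 → IsMulCommutative ↥(Subgroup.centralizer ({t} : Set G))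

/-- Third alternative of S2202: `G ≃* SL₂(F) × A`, `F` finite of characteristic 2, `A` abelian of odd order. -/
def IsSL2xA (G : Type*) [Group G] : Prop :=
  ∃ (F : Type) (_ : Field F) (_ : Fintype F) (A : Type) (_ : CommGroup A) (_ : Finite A),
    CharP F 2 ∧ Odd (Nat.card A) ∧ Nonempty (G ≃* Matrix.SpecialLinearGroup (Fin 2) F × A)

/-- `G ≃* SL₂(F)`, `F` finite of characteristic 2. -/
def IsSL2 (G : Type*) [Group G] : Prop :=
  ∃ (F : Type) (_ : Field F) (_ : Fintype F),
    CharP F 2 ∧ Nonempty (G ≃* Matrix.SpecialLinearGroup (Fin 2) F)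

/-- Conclusion of S2202. -/
def Concl (G : Type*) [Group G] : Prop :=
  (∀ P : Sylow 2 G, IsCyclic ↥P) ∨ (∀ P : Sylow 2 G, (P : Subgroup G).Normal) ∨ IsSL2xA G

variable {G : Type u} [Group G]

/-- `M` controls the fusion of its involutions strongly (the elementwise form of "strongly embedded"):
an element conjugating an involution of `M` into `M` lies in `M`. -/
def SE (M : Subgroup G) : Prop :=
  ∀ g t : G, orderOf t = 2 → t ∈ M → g * t * g⁻¹ ∈ M → g ∈ M

/-- `H_P = C_G(P)`. -/
def HH (P : Sylow 2 G) : Subgroup G := Subgroup.centralizer ((P : Subgroup G) : Set G)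

/-- `N_P = N_G(P)`. -/
def NN (P : Sylow 2 G) : Subgroup G := Subgroup.normalizer ((P : Subgroup G) : Set G)

/-- `K_P`: the subgroup generated by the elements of odd order of `C_G(P)` (under `CA2`, with `P ≠ 1`,
it is exactly the set of odd-order elements of the abelian group `C_G(P) = P × K_P`). -/
def KK (P : Sylow 2 G) : Subgroup G := Subgroup.closure {x : G | x ∈ HH P ∧ Odd (orderOf x)}

/-- The two-point stabilizer `D(P,Q) = N_G(P) ∩ N_G(Q)`. -/
def DD (P Q : Sylow 2 G) : Subgroup G := NN P ⊓ NN Q

/-- The involutions of `G` lying in the subgroup `M`, as a set. -/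
def Inv (M : Subgroup G) : Set G := {t : G | orderOf t = 2 ∧ t ∈ M}

/-- The involutions conjugating `P` to `Q` (they then swap `P` and `Q`). -/
def JJ (P Q : Sylow 2 G) : Set G := {v : G | orderOf v = 2 ∧ v • P = Q}

/-- Number of involutions of the Sylow 2-subgroup `P`. -/
noncomputable def ff (P : Sylow 2 G) : ℕ := Nat.card (Inv (P : Subgroup G))

/-- Standing hypotheses after the trivial cases are removed. -/
structure Setup (G : Type u) [Group G] : Prop where
  ca : CA2 G
  nn : ∀ P : Sylow 2 G, ¬ ((P : Subgroup G).Normal)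
  nc : ∀ P : Sylow 2 G, ¬ IsCyclic ↥(P : Subgroup G)

/-- Case A at `P`: the centralizer of every nonidentity element of `K_P` normalizes `P`. -/
def CaseA (P : Sylow 2 G) : Prop :=
  ∀ k ∈ KK P, k ≠ 1 → Subgroup.centralizer ({k} : Set G) ≤ NN P

end Cfsg.Agent.Helper21.CA
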