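import Cfsg.Agent.Helper21.CA.AD
import Cfsg.Agent.Helper21.CA.BC
import Cfsg.Agent.Helper21.CA.QB
import Cfsg.Agent.Helper21.CA.QC
import Cfsg.Agent.Helper21.CA.RB
import Cfsg.Agent.Helper21.CA.RC

set_option autoImplicit false
open scoped Pointwise

namespace Cfsg.Agent.Helper21.CA

universe u

theorem card_lt_of_ne_top {G : Type*} [Group G] [Finite G] (H : Subgroup G) (h : H ≠ ⊤) :
    Nat.card H < Nat.card G := by
  have h1 : H.index ≠ 1 := fun h1 => h (Subgroup.index_eq_one.mp h1)
  have h2 := H.card_mul_index
  have h3 : H.index ≠ 0 := Subgroup.index_ne_zero_of_finite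
  have h4 : 0 < Nat.card H := Nat.card_pos
  have : 2 ≤ H.index := by omega
  nlinarith

theorem IsSL2.isSL2xA {G : Type*} [Group G] (h : IsSL2 G) : IsSL2xA G := by
  obtain ⟨F, iF, iFt, hchar, ⟨e⟩⟩ := h
  refine ⟨F, iF, iFt, PUnit, inferInstance, inferInstance, hchar, ?_, ⟨?_⟩⟩
  · simp
  · exact e.trans (MulEquiv.prodUnique).symm

/-- S2202, by induction on the order. -/
theorem main_aux : ∀ (n : ℕ) (G : Type u) [Group G] [Finite G], Nat.card G = n → CA2 G → Concl G := by
  intro n
  induction n using Nat.strong_induction_on with
  | _ n IH =>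
  intro G _ _ hn hCA
  by_cases hcyc : ∀ P : Sylow 2 G, IsCyclic ↥P
  · exact Or.inl hcyc
  by_cases hnor : ∀ P : Sylow 2 G, (P : Subgroup G).Normal
  · exact Or.inr (Or.inl hnor)
  right; right
  have S : Setup G := setup_of_not hCA hcyc hnor
  by_cases hgen : Subgroup.closure {t : G | orderOf t = 2} = ⊤
  · by_cases hZ : Subgroup.center G = ⊥
    · -- the main case
      apply IsSL2.isSL2xA
      by_cases hA : ∀ P : Sylow 2 G, CaseA P
      · exact isSL2_of_caseA S hA hgen hZ
      · exfalso
        simp only [CaseA, not_forall] at hA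
        obtain ⟨P, k, hk, hk1, hnot⟩ := hA
        have hlt : Nat.card ↥(Subgroup.centralizer ({k} : Set G)) < n := by
          rw [← hn]
          have hne : Subgroup.centralizer ({k} : Set G) ≠ ⊤ := by
            intro htop
            apply hk1
            have hc : k ∈ Subgroup.center G := by
              rw [Subgroup.mem_center_iff]
              intro g
              have hg : g ∈ Subgroup.centralizer ({k} : Set G) := by rw [htop]; trivial
              exact (Subgroup.mem_centralizer_singleton_iff.mp hg)
            rw [hZ] at hc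
            exact Subgroup.mem_bot.mp hc
          exact card_lt_of_ne_top _ hne
        have hC := IH _ hlt ↥(Subgroup.centralizer ({k} : Set G)) rfl (hCA.subgroup _)
        rcases concl_centralizer S P hk hC with h | h
        · exact absurd h hnot
        · exact false_of_caseB S hZ P hk hk1 hnot h
    · -- nontrivial centre: pass to the quotient
      exfalso
      have S' := setup_quotient_center S
      have hgen' := closure_inv_quotient_center S hgen
      have hlt : Nat.card (G ⧸ Subgroup.center G) < n := by
        rw [← hn]
        have h1 : Nat.card G = Nat.card (G ⧸ Subgroup.center G) * Nat.card (Subgroup.center G) :=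
          Subgroup.card_eq_card_quotient_mul_card_subgroup _
        have h2 : 1 < Nat.card (Subgroup.center G) := by
          rw [Subgroup.one_lt_card_iff_ne_bot]; exact hZ
        have h3 : 0 < Nat.card (G ⧸ Subgroup.center G) := Nat.card_pos
        nlinarith
      have hC := IH _ hlt (G ⧸ Subgroup.center G) rfl S'.ca
      rcases hC with h | h | h
      · obtain ⟨P⟩ : Nonempty (Sylow 2 (G ⧸ Subgroup.center G)) := inferInstance
        exact S'.nc P (h P)
      · obtain ⟨P⟩ : Nonempty (Sylow 2 (G ⧸ Subgroup.center G)) := inferInstance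
        exact S'.nn P (h P)
      · exact hZ (center_eq_bot_of_quotient S hgen (isSL2_of_isSL2xA h hgen'))
  · -- not generated by involutions
    have S₀ := setup_closure_inv S
    have hlt : Nat.card ↥(Subgroup.closure {t : G | orderOf t = 2}) < n := by
      rw [← hn]
      exact card_lt_of_ne_top _ hgen
    have hC := IH _ hlt ↥(Subgroup.closure {t : G | orderOf t = 2}) rfl S₀.ca
    rcases hC with h | h | h
    · obtain ⟨P⟩ : Nonempty (Sylow 2 ↥(Subgroup.closure {t : G | orderOf t = 2})) := inferInstance
      exact absurd (h P) (S₀.nc P)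
    · obtain ⟨P⟩ : Nonempty (Sylow 2 ↥(Subgroup.closure {t : G | orderOf t = 2})) := inferInstance
      exact absurd (h P) (S₀.nn P)
    · exact isSL2xA_of_closure_inv S (isSL2_of_isSL2xA h closure_inv_closure_inv)

end Cfsg.Agent.Helper21.CA
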