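import Mathlib
import Cfsg.Agent.Helper21.LargeSub
import Cfsg.Agent.S0028

set_option autoImplicit false

/-!
Characteristic `p` for subgroups, in ambient form (helper21).

`CharPIn p X` : `C_X(O_p(X)) ≤ O_p(X)`, phrased inside the ambient group.
Key lemma: if `X` has characteristic `p` and the `p`-group `B` normalizes `X` then `C_X(B)` has
characteristic `p` (Thompson `A × B`). Consequences: `C_H(P)` has characteristic `p` for a `p`-subgroup
`P` containing an element `y` with `C_H(y)` of characteristic `p`.
-/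

namespace Cfsg.Agent.Helper21

open Cfsg Cfsg.Agent.Helper48 Cfsg.Agent.Helper47 Cfsg.Agent.Helper51 Cfsg.Agent.Helper46

variable {H : Type*} [Group H]

/-- `X` has characteristic `p` (ambient form): `C_X(O_p(X)) ≤ O_p(X)`. -/
def CharPIn (p : ℕ) (X : Subgroup H) : Prop :=
  X ⊓ Subgroup.centralizer ((pCoreOf p X : Subgroup H) : Set H) ≤ pCoreOf p X

variable [Finite H] {p : ℕ} [Fact p.Prime]

omit [Finite H] [Fact p.Prime] in
/-- A normal `p`-subgroup `R` of `X` with `C_X(R) ≤ R` witnesses characteristic `p`. -/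
theorem charPIn_of_witness {X R : Subgroup H} (hRp : IsPGroup p R) (hRX : R ≤ X)
    (hXR : X ≤ Subgroup.normalizer (R : Set H))
    (hc : X ⊓ Subgroup.centralizer (R : Set H) ≤ R) : CharPIn p X := by
  have h1 : R ≤ pCoreOf p X := le_pCoreOf hRX hRp hXR
  unfold CharPIn
  refine le_trans ?_ (hc.trans h1)
  exact le_inf inf_le_left (inf_le_right.trans
    (Subgroup.centralizer_le (SetLike.coe_subset_coe.2 h1)))

theorem charPIn_top (h : Subgroup.centralizer (pCore p H : Set H) ≤ pCore p H) :
    CharPIn p (⊤ : Subgroup H) := by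
  have hn : (pCore p H).Normal := inferInstance
  apply charPIn_of_witness (R := pCore p H) pCore_isPGroup le_top
  · rw [Subgroup.normalizer_eq_top]
  · exact inf_le_right.trans h

omit [Finite H] [Fact p.Prime] in
theorem charPIn_of_internal {K : Subgroup H}
    (h : Subgroup.centralizer (pCore p ↥K : Set ↥K) ≤ pCore p ↥K) : CharPIn p K := by
  intro x hx
  obtain ⟨hxK, hxc⟩ := Subgroup.mem_inf.1 hx
  have h1 : (⟨x, hxK⟩ : ↥K) ∈ Subgroup.centralizer (pCore p ↥K : Set ↥K) := by
    rw [Subgroup.mem_centralizer_iff]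
    intro r hr
    apply Subtype.ext
    exact Subgroup.mem_centralizer_iff.1 hxc (r : H) ⟨r, hr, rfl⟩
  exact ⟨⟨x, hxK⟩, h h1, rfl⟩

/-- **Key lemma.** If `X` has characteristic `p` and the `p`-group `B` normalizes `X`, then
`C_X(B)` has characteristic `p`. -/
theorem CharPIn.inf_centralizer {X B : Subgroup H} (hX : CharPIn p X) (hB : IsPGroup p B)
    (hBX : B ≤ Subgroup.normalizer (X : Set H)) :
    CharPIn p (X ⊓ Subgroup.centralizer (B : Set H)) := by
  set Y := X ⊓ Subgroup.centralizer (B : Set H) with hY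
  set R := pCoreOf p X with hR
  have hRp : IsPGroup p R := pCoreOf_isPGroup X
  have hXR : X ≤ Subgroup.normalizer (R : Set H) := pCoreOf_normalized X
  have hBR : B ≤ Subgroup.normalizer (R : Set H) := le_normalizer_pCoreOf hBX
  have hYX : Y ≤ X := inf_le_left
  have hYB : Y ≤ Subgroup.centralizer (B : Set H) := inf_le_right
  -- R₀ = C_R(B) ≤ O_p(Y)
  have hR₀ : R ⊓ Subgroup.centralizer (B : Set H) ≤ pCoreOf p Y := by
    apply le_pCoreOf
    · exact le_inf (inf_le_left.trans (pCoreOf_le X)) inf_le_right
    · exact hRp.to_le inf_le_left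
    · exact le_normalizer_inf_of_le (hYX.trans hXR) (hYB.trans Subgroup.le_normalizer)
  unfold CharPIn
  apply le_pCoreOf_of_no_p'_elements inf_le_left
  · exact le_normalizer_inf_of_le Subgroup.le_normalizer
      ((pCoreOf_normalized Y).trans
        (Cfsg.Agent.Helper22.normalizer_le_normalizer_centralizer _))
  · intro x hx hxp
    obtain ⟨hxY, hxc⟩ := Subgroup.mem_inf.1 hx
    have hxX : x ∈ X := hYX hxY
    have hxB : x ∈ Subgroup.centralizer (B : Set H) := hYB hxY
    -- A = ⟨x⟩
    have hAcop : (Nat.card (Subgroup.zpowers x)).Coprime p := by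
      rw [Nat.card_zpowers]; exact hxp
    have hBA : B ≤ Subgroup.centralizer ((Subgroup.zpowers x : Subgroup H) : Set H) := by
      rw [Subgroup.le_centralizer_iff, Subgroup.zpowers_le]; exact hxB
    have hAR : Subgroup.zpowers x ≤ Subgroup.normalizer (R : Set H) := by
      rw [Subgroup.zpowers_le]; exact hXR hxX
    have hC : R ⊓ Subgroup.centralizer (B : Set H) ≤
        Subgroup.centralizer ((Subgroup.zpowers x : Subgroup H) : Set H) := by
      rw [Subgroup.le_centralizer_iff, Subgroup.zpowers_le]
      exact Subgroup.centralizer_le (SetLike.coe_subset_coe.2 hR₀) hxc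
    have hres := Cfsg.Agent.S0028.result p B (Subgroup.zpowers x) R hB hAcop hRp hBA hBR hAR hC
    have hxR : x ∈ Subgroup.centralizer (R : Set H) := hres (Subgroup.mem_zpowers x)
    have hxR' : x ∈ R := hX (Subgroup.mem_inf.2 ⟨hxX, hxR⟩)
    exact eq_one_of_mem_pgroup_of_coprime hRp hxR' hxp

/-- normalizers grow in `p`-groups (ambient form) -/
theorem lt_inf_normalizer_of_lt {P' P : Subgroup H} (hP : IsPGroup p P) (hlt : P' < P) :
    P' < P ⊓ Subgroup.normalizer (P' : Set H) := by
  have : Group.IsNilpotent ↥P := hP.isNilpotent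
  have hlt' : P'.subgroupOf P < ⊤ := by
    rw [lt_top_iff_ne_top, Ne, Subgroup.subgroupOf_eq_top]
    exact not_le_of_gt hlt
  have h1 := Group.normalizerCondition_of_isNilpotent (G := ↥P) (P'.subgroupOf P) hlt'
  obtain ⟨s, hs1, hs2⟩ := SetLike.exists_of_lt h1
  have hsP' : (s : H) ∉ P' := fun h => hs2 (Subgroup.mem_subgroupOf.mpr h)
  have hsN : (s : H) ∈ Subgroup.normalizer (P' : Set H) := by
    apply mem_normalizer_of_conjSub_le
    rintro _ ⟨b, hb, rfl⟩
    rw [Subgroup.mem_normalizer_iff] at hs1
    have := (hs1 ⟨b, hlt.le hb⟩).mp (Subgroup.mem_subgroupOf.mpr hb)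
    exact Subgroup.mem_subgroupOf.mp this
  apply lt_of_le_of_ne (le_inf hlt.le Subgroup.le_normalizer)
  intro heq
  apply hsP'
  rw [heq]
  exact Subgroup.mem_inf.2 ⟨s.2, hsN⟩

/-- If `C_H(P')` has characteristic `p` for some `P' ≤ P` (`P` a `p`-group), so has `C_H(P)`. -/
theorem charPIn_centralizer_of_le {P : Subgroup H} (hP : IsPGroup p P) :
    ∀ P' : Subgroup H, P' ≤ P → CharPIn p (Subgroup.centralizer (P' : Set H)) →
      CharPIn p (Subgroup.centralizer (P : Set H)) := by
  intro P'
  induction P' using WellFoundedGT.induction with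
  | ind P' ih =>
    intro hle hchar
    by_cases heq : P' = P
    · rw [← heq]; exact hchar
    · have hlt : P' < P := lt_of_le_of_ne hle heq
      have hlt' := lt_inf_normalizer_of_lt hP hlt
      apply ih _ hlt' inf_le_left
      have hB : IsPGroup p ↥(P ⊓ Subgroup.normalizer (P' : Set H)) := hP.to_le inf_le_left
      have hBX : P ⊓ Subgroup.normalizer (P' : Set H) ≤ Subgroup.normalizer
          ((Subgroup.centralizer (P' : Set H) : Subgroup H) : Set H) :=
        inf_le_right.trans (Cfsg.Agent.Helper22.normalizer_le_normalizer_centralizer P')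
      have := CharPIn.inf_centralizer hchar hB hBX
      have heq2 : Subgroup.centralizer (P' : Set H) ⊓
          Subgroup.centralizer ((P ⊓ Subgroup.normalizer (P' : Set H) : Subgroup H) : Set H) =
          Subgroup.centralizer ((P ⊓ Subgroup.normalizer (P' : Set H) : Subgroup H) : Set H) :=
        inf_of_le_right (Subgroup.centralizer_le (SetLike.coe_subset_coe.2 hlt'.le))
      rwa [heq2] at this

/-- If `y ∈ P` (`P` a `p`-group) and `C_H(y)` has characteristic `p`, so has `C_H(P)`. -/
theorem charPIn_centralizer_of_mem {P : Subgroup H} (hP : IsPGroup p P) {y : H} (hy : y ∈ P)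
    (hK : CharPIn p (Subgroup.centralizer ({y} : Set H))) :
    CharPIn p (Subgroup.centralizer (P : Set H)) := by
  -- P₁ = C_P(y)
  have hyP₁ : y ∈ P ⊓ Subgroup.centralizer ({y} : Set H) := by
    refine Subgroup.mem_inf.2 ⟨hy, ?_⟩
    rw [Subgroup.mem_centralizer_iff]
    intro h hh
    rw [Set.mem_singleton_iff.1 hh]
  apply charPIn_centralizer_of_le hP (P ⊓ Subgroup.centralizer ({y} : Set H)) inf_le_left
  have hB : IsPGroup p ↥(P ⊓ Subgroup.centralizer ({y} : Set H)) := hP.to_le inf_le_left
  have := CharPIn.inf_centralizer hK hB (inf_le_right.trans Subgroup.le_normalizer)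
  have heq : Subgroup.centralizer ({y} : Set H) ⊓
      Subgroup.centralizer ((P ⊓ Subgroup.centralizer ({y} : Set H) : Subgroup H) : Set H) =
      Subgroup.centralizer ((P ⊓ Subgroup.centralizer ({y} : Set H) : Subgroup H) : Set H) := by
    apply inf_of_le_right
    apply Subgroup.centralizer_le
    intro z hz
    rw [Set.mem_singleton_iff.1 hz]; exact hyP₁
  rwa [heq] at this

/-- If `H` has characteristic `p` then so has `C_H(P)` for each `p`-subgroup `P`. -/
theorem charPIn_centralizer_of_top {P : Subgroup H} (hP : IsPGroup p P)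
    (h : Subgroup.centralizer (pCore p H : Set H) ≤ pCore p H) :
    CharPIn p (Subgroup.centralizer (P : Set H)) := by
  have := CharPIn.inf_centralizer (charPIn_top h) hP (by rw [Subgroup.normalizer_eq_top]; exact le_top)
  rwa [top_inf_eq] at this

end Cfsg.Agent.Helper21
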