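import Mathlib
import Cfsg.Agent.Helper21.PRank
import Cfsg.Agent.Helper21.Fitting

set_option autoImplicit false
set_option linter.style.haveILetI false
set_option linter.unusedSectionVars false
set_option linter.unusedVariables false

/-!
Subgroups controlling normalizers of `p`-subgroups of rank at least `k` (helper21).
-/

namespace Cfsg.Agent.Helper21

open Cfsg
open scoped Pointwise

variable {G : Type*} [Group G] [Finite G] {p : ℕ} [Fact p.Prime] {n : ℕ}

/-- conjugating a subgroup of `H` into a given Sylow subgroup of `H` -/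
theorem exists_conj_le_sylow (H : Subgroup G) (P : Sylow p ↥H) (U : Subgroup G)
    (hUp : IsPGroup p U) (hUH : U ≤ H) :
    ∃ h ∈ H, U.map (MulAut.conj h).toMonoidHom ≤ (P : Subgroup ↥H).map H.subtype := by
  have hUHp : IsPGroup p (U.subgroupOf H) := hUp.comap_subtype
  obtain ⟨Q, hQ⟩ := hUHp.exists_le_sylow
  obtain ⟨h, hh⟩ := MulAction.exists_smul_eq ↥H Q P
  refine ⟨(h : G), h.2, ?_⟩
  intro x hx
  rw [mem_map_conj_iff] at hx
  have hyH : (h : G)⁻¹ * x * (h : G) ∈ H := hUH hx
  have hyQ : (⟨_, hyH⟩ : ↥H) ∈ (Q : Subgroup ↥H) := hQ (Subgroup.mem_subgroupOf.2 hx)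
  have h1 : MulAut.conj h • (⟨_, hyH⟩ : ↥H) ∈ MulAut.conj h • (Q : Subgroup ↥H) :=
    Subgroup.smul_mem_pointwise_smul _ _ _ hyQ
  rw [← Sylow.coe_subgroup_smul, hh] at h1
  refine ⟨_, h1, ?_⟩
  rw [MulAut.smul_def, MulAut.conj_apply]
  simp only [Subgroup.coe_subtype, Subgroup.coe_mul, Subgroup.coe_inv]
  group

theorem normalizer_le_of_hasEA (H : Subgroup G) (P : Sylow p ↥H)
    (h1 : ∀ X : Subgroup G, X ≤ (P : Subgroup ↥H).map H.subtype → HasEA p n X →
      Subgroup.normalizer (X : Set G) ≤ H)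
    (U : Subgroup G) (hUp : IsPGroup p U) (hUH : U ≤ H) (hU : HasEA p n U) :
    Subgroup.normalizer (U : Set G) ≤ H := by
  obtain ⟨h, hhH, hX⟩ := exists_conj_le_sylow H P U hUp hUH
  have hN := h1 _ hX (hU.map_conj h)
  rw [normalizer_map_conj] at hN
  intro m hm
  have h2 : h * m * h⁻¹ ∈ H := by
    apply hN
    rw [mem_map_conj_iff]
    have : h⁻¹ * (h * m * h⁻¹) * h = m := by group
    rw [this]; exact hm
  have e : m = h⁻¹ * (h * m * h⁻¹) * h := by group
  rw [e]
  exact H.mul_mem (H.mul_mem (H.inv_mem hhH) h2) hhH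

theorem normalizer_le_conj_of_hasEA (H : Subgroup G) (P : Sylow p ↥H)
    (h1 : ∀ X : Subgroup G, X ≤ (P : Subgroup ↥H).map H.subtype → HasEA p n X →
      Subgroup.normalizer (X : Set G) ≤ H) (g : G)
    (U : Subgroup G) (hUp : IsPGroup p U) (hUH : U ≤ H.map (MulAut.conj g).toMonoidHom)
    (hU : HasEA p n U) :
    Subgroup.normalizer (U : Set G) ≤ H.map (MulAut.conj g).toMonoidHom := by
  set U' := U.map (MulAut.conj g⁻¹).toMonoidHom with hU'
  have hU'p : IsPGroup p U' := hUp.map _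
  have hU'H : U' ≤ H := by
    intro x hx
    rw [hU', mem_map_conj_iff, inv_inv] at hx
    have := hUH hx
    rw [mem_map_conj_iff] at this
    have e : g⁻¹ * (g * x * g⁻¹) * g = x := by group
    rwa [e] at this
  have hN := normalizer_le_of_hasEA H P h1 U' hU'p hU'H (hU.map_conj g⁻¹)
  have hUU' : U = U'.map (MulAut.conj g).toMonoidHom := (map_conj_map_conj_inv U g).symm
  rw [hUU', normalizer_map_conj]
  exact Subgroup.map_mono hN

/-- the key direction -/
theorem mem_of_hasEA_inf_conj (H : Subgroup G) (P : Sylow p ↥H)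
    (h1 : ∀ X : Subgroup G, X ≤ (P : Subgroup ↥H).map H.subtype → HasEA p n X →
      Subgroup.normalizer (X : Set G) ≤ H) (g : G)
    (hg : HasEA p n (H ⊓ H.map (MulAut.conj g).toMonoidHom)) : g ∈ H := by
  by_contra hgH
  set D := H ⊓ H.map (MulAut.conj g).toMonoidHom with hD
  -- the family
  let 𝒰 : Set (Subgroup G) := {U | IsPGroup p U ∧ U ≤ D ∧ HasEA p n U}
  have hne : 𝒰.Nonempty := by
    obtain ⟨E, hED, hEc, hEe, hE⟩ := hg
    refine ⟨E, ?_, hED, ⟨E, le_rfl, hEc, hEe, hE⟩⟩
    rintro ⟨a, ha⟩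
    refine ⟨1, ?_⟩
    apply Subtype.ext
    simpa using hEe a ha
  obtain ⟨U, ⟨hUp, hUD, hUea⟩, hUmax⟩ := (Set.toFinite 𝒰).exists_maximal hne
  have hUH : U ≤ H := hUD.trans inf_le_left
  have hUHg : U ≤ H.map (MulAut.conj g).toMonoidHom := hUD.trans inf_le_right
  have hN1 := normalizer_le_of_hasEA H P h1 U hUp hUH hUea
  have hN2 := normalizer_le_conj_of_hasEA H P h1 g U hUp hUHg hUea
  have hND : Subgroup.normalizer (U : Set G) ≤ D := le_inf hN1 hN2
  -- a Sylow subgroup of H containing U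
  have hUHp : IsPGroup p (U.subgroupOf H) := hUp.comap_subtype
  obtain ⟨Q, hQ⟩ := hUHp.exists_le_sylow
  set Qg := (Q : Subgroup ↥H).map H.subtype with hQg
  have hQgp : IsPGroup p Qg := Q.isPGroup'.map _
  have hUQ : U ≤ Qg := by
    intro x hx
    exact ⟨⟨x, hUH hx⟩, hQ (Subgroup.mem_subgroupOf.2 hx), rfl⟩
  have hQgH : Qg ≤ H := by
    rintro _ ⟨y, -, rfl⟩
    exact y.2
  by_cases hcase : U = Qg
  · -- U is a Sylow subgroup of H
    set U' := U.map (MulAut.conj g⁻¹).toMonoidHom with hU'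
    have hU'p : IsPGroup p U' := hUp.map _
    have hU'H : U' ≤ H := by
      intro x hx
      rw [hU', mem_map_conj_iff, inv_inv] at hx
      have := hUHg hx
      rw [mem_map_conj_iff] at this
      have e : g⁻¹ * (g * x * g⁻¹) * g = x := by group
      rwa [e] at this
    obtain ⟨h, hhH, hh⟩ := exists_conj_le_sylow H Q U' hU'p hU'H
    rw [← hQg, ← hcase] at hh
    -- cardinalities agree, so equality
    have hcard : Nat.card U ≤ Nat.card (U'.map (MulAut.conj h).toMonoidHom) := by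
      rw [Subgroup.card_map_of_injective (MulAut.conj h).injective, hU',
        Subgroup.card_map_of_injective (MulAut.conj g⁻¹).injective]
    have heq := Subgroup.eq_of_le_of_card_ge hh hcard
    -- h g⁻¹ normalizes U
    have hcomp : (MulAut.conj h).toMonoidHom.comp (MulAut.conj g⁻¹).toMonoidHom =
        (MulAut.conj (h * g⁻¹)).toMonoidHom := by
      ext x
      simp only [MonoidHom.comp_apply, MulEquiv.coe_toMonoidHom, MulAut.conj_apply]
      group
    have hnorm : h * g⁻¹ ∈ Subgroup.normalizer (U : Set G) := by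
      apply mem_normalizer_of_map_conj_eq
      rw [← hcomp, ← Subgroup.map_map, ← hU', heq]
    have h3 : h * g⁻¹ ∈ H := hN1 hnorm
    apply hgH
    have e : g = (h * g⁻¹)⁻¹ * h := by group
    rw [e]
    exact H.mul_mem (H.inv_mem h3) hhH
  · -- U is properly contained in Qg: normalizers grow
    have hlt : U.subgroupOf Qg < ⊤ := by
      rw [lt_top_iff_ne_top]
      intro h
      apply hcase
      apply le_antisymm hUQ
      intro x hx
      have : (⟨x, hx⟩ : ↥Qg) ∈ U.subgroupOf Qg := by rw [h]; trivial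
      exact Subgroup.mem_subgroupOf.1 this
    haveI : Group.IsNilpotent ↥Qg := hQgp.isNilpotent
    have hnc := normalizerCondition_of_isNilpotent (G := ↥Qg) _ hlt
    obtain ⟨x, hxN, hxU⟩ := SetLike.exists_of_lt hnc
    have hxU' : (x : G) ∉ U := fun h => hxU (Subgroup.mem_subgroupOf.2 h)
    have hconj : ∀ y : ↥Qg, y ∈ Subgroup.normalizer ((U.subgroupOf Qg : Subgroup ↥Qg) : Set ↥Qg) →
        ∀ u ∈ U, (y : G) * u * (y : G)⁻¹ ∈ U := by
      intro y hy u hu
      have h4 := (Subgroup.mem_normalizer_iff.1 hy ⟨u, hUQ hu⟩).1 (Subgroup.mem_subgroupOf.2 hu)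
      exact Subgroup.mem_subgroupOf.1 h4
    have hxNG : (x : G) ∈ Subgroup.normalizer (U : Set G) := by
      rw [Subgroup.mem_normalizer_iff]
      intro u
      constructor
      · exact hconj x hxN u
      · intro hu
        have := hconj x⁻¹ (Subgroup.inv_mem _ hxN) _ hu
        have e : ((x⁻¹ : ↥Qg) : G) * ((x : G) * u * (x : G)⁻¹) * ((x⁻¹ : ↥Qg) : G)⁻¹ = u := by
          rw [Subgroup.coe_inv]; group
        rwa [e] at this
    have hxD : (x : G) ∈ D := hND hxNG
    set U₂ := U ⊔ Subgroup.zpowers (x : G) with hU₂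
    have hU₂Q : U₂ ≤ Qg := sup_le hUQ (by rw [Subgroup.zpowers_le]; exact x.2)
    have hU₂ : U₂ ∈ 𝒰 := by
      refine ⟨hQgp.to_le hU₂Q, sup_le hUD (by rw [Subgroup.zpowers_le]; exact hxD), ?_⟩
      exact hUea.mono le_sup_left
    have := hUmax hU₂ le_sup_left
    apply hxU'
    exact this (Subgroup.mem_sup_right (Subgroup.mem_zpowers _))

end Cfsg.Agent.Helper21
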