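import Mathlib
import Cfsg.Prelude.Def_CaseTheorems
import Cfsg.Agent.Helper21.PRank2

set_option autoImplicit false

/-!
Klein four-subgroups and their commuting graph (helper21).
-/

namespace Cfsg.Agent.Helper21

open Cfsg

variable {G : Type*} [Group G]

theorem isKleinFour_iff (U : Subgroup G) :
    IsKleinFour ↥U ↔ Nat.card U = 4 ∧ ∀ a ∈ U, a ^ 2 = 1 := by
  constructor
  · intro h
    refine ⟨h.card_four, fun a ha => ?_⟩
    have h1 : (⟨a, ha⟩ : U) ^ 2 = 1 := by
      rw [← h.exponent_two]; exact Monoid.pow_exponent_eq_one _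
    simpa using congrArg Subtype.val h1
  · rintro ⟨hc, he⟩
    refine ⟨hc, ?_⟩
    have hdvd : Monoid.exponent ↥U ∣ 2 := by
      apply Monoid.exponent_dvd_of_forall_pow_eq_one
      intro a
      apply Subtype.ext
      simpa using he a a.2
    rcases (Nat.dvd_prime Nat.prime_two).1 hdvd with h1 | h2
    · exfalso
      rw [Monoid.exp_eq_one_iff] at h1
      have : Nat.card U ≤ 1 := Finite.card_le_one_iff_subsingleton.2 h1
      omega
    · exact h2

theorem isKleinFour_map {G' : Type*} [Group G'] (f : G →* G') (hf : Function.Injective f)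
    {U : Subgroup G} (h : IsKleinFour ↥U) : IsKleinFour ↥(U.map f) := by
  rw [isKleinFour_iff] at h ⊢
  refine ⟨by rw [Subgroup.card_map_of_injective hf]; exact h.1, ?_⟩
  rintro _ ⟨a, ha, rfl⟩
  rw [← map_pow, h.2 a ha, map_one]

theorem isKleinFour_subgroupOf {U S : Subgroup G} (hUS : U ≤ S) (h : IsKleinFour ↥U) :
    IsKleinFour ↥(U.subgroupOf S) := by
  rw [isKleinFour_iff] at h ⊢
  refine ⟨?_, ?_⟩
  · rw [← Subgroup.card_map_of_injective S.subtype_injective, Subgroup.map_subgroupOf_eq_of_le hUS]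
    exact h.1
  · intro a ha
    apply Subtype.ext
    simpa using h.2 _ (Subgroup.mem_subgroupOf.1 ha)

theorem IsKleinFour.isPGroup_two {U : Subgroup G} (h : IsKleinFour ↥U) : IsPGroup 2 U := by
  rw [isKleinFour_iff] at h
  intro a
  refine ⟨1, ?_⟩
  apply Subtype.ext
  simpa using h.2 a a.2

theorem IsKleinFour.hasEA {U : Subgroup G} (h : IsKleinFour ↥U) : HasEA 2 1 U := by
  rw [isKleinFour_iff] at h
  refine ⟨U, le_rfl, ?_, h.2, by rw [h.1]; norm_num⟩
  intro a ha b hb
  -- exponent two groups are commutative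
  have h1 := h.2 a ha
  have h2 := h.2 b hb
  have h3 := h.2 (a * b) (U.mul_mem ha hb)
  have ea : a⁻¹ = a := by rw [inv_eq_iff_mul_eq_one, ← sq, h1]
  have eb : b⁻¹ = b := by rw [inv_eq_iff_mul_eq_one, ← sq, h2]
  have eab : (a * b)⁻¹ = a * b := by rw [inv_eq_iff_mul_eq_one, ← sq, h3]
  rw [mul_inv_rev, ea, eb] at eab
  exact eab.symm

/-- A subgroup containing an elementary abelian `2`-subgroup of order `> 2` contains a Klein
four-group. -/
theorem HasEA.exists_isKleinFour [Finite G] {X : Subgroup G} (h : HasEA 2 1 X) :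
    ∃ U : Subgroup G, U ≤ X ∧ IsKleinFour ↥U := by
  obtain ⟨E, hEX, hEc, hEe, hE⟩ := h
  haveI : Fact (Nat.Prime 2) := ⟨Nat.prime_two⟩
  have hEp : IsPGroup 2 E := by
    intro a
    refine ⟨1, ?_⟩
    apply Subtype.ext
    simpa using hEe a a.2
  obtain ⟨n, hn⟩ := (IsPGroup.iff_card).1 hEp
  have hn2 : 2 ≤ n := by
    by_contra hlt
    have : n ≤ 1 := by omega
    have : 2 ^ n ≤ 2 ^ 1 := Nat.pow_le_pow_right (by norm_num) this
    omega
  have hdvd : 2 ^ 2 ∣ Nat.card E := by
    rw [hn]; exact pow_dvd_pow 2 hn2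
  obtain ⟨K, hK⟩ := Sylow.exists_subgroup_card_pow_prime 2 hdvd
  refine ⟨K.map E.subtype, ?_, ?_⟩
  · rintro _ ⟨a, -, rfl⟩
    exact hEX a.2
  · rw [isKleinFour_iff]
    refine ⟨?_, ?_⟩
    · rw [Subgroup.card_map_of_injective E.subtype_injective, hK]; norm_num
    · rintro _ ⟨a, -, rfl⟩
      exact hEe a a.2

/-- The commuting relation on Klein four-subgroups. -/
def FourRel (G : Type*) [Group G] (A B : Subgroup G) : Prop :=
  IsKleinFour A ∧ IsKleinFour B ∧ ∀ a ∈ A, ∀ b ∈ B, a * b = b * a

theorem FourRel.symm {A B : Subgroup G} (h : FourRel G A B) : FourRel G B A :=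
  ⟨h.2.1, h.1, fun b hb a ha => (h.2.2 a ha b hb).symm⟩

theorem FourRel.map {G' : Type*} [Group G'] (f : G →* G') (hf : Function.Injective f)
    {A B : Subgroup G} (h : FourRel G A B) : FourRel G' (A.map f) (B.map f) := by
  refine ⟨isKleinFour_map f hf h.1, isKleinFour_map f hf h.2.1, ?_⟩
  rintro _ ⟨a, ha, rfl⟩ _ ⟨b, hb, rfl⟩
  rw [← map_mul, ← map_mul, h.2.2 a ha b hb]

/-- Connectedness in the commuting graph of four-groups. -/
def FourConn (G : Type*) [Group G] (A B : Subgroup G) : Prop :=
  Relation.ReflTransGen (FourRel G) A B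

theorem FourConn.symm {A B : Subgroup G} (h : FourConn G A B) : FourConn G B A := by
  unfold FourConn at h ⊢
  induction h with
  | refl => exact Relation.ReflTransGen.refl
  | tail _ hbc ih => exact Relation.ReflTransGen.head hbc.symm ih

theorem FourConn.trans {A B C : Subgroup G} (h1 : FourConn G A B) (h2 : FourConn G B C) :
    FourConn G A C := Relation.ReflTransGen.trans h1 h2

theorem FourConn.map {G' : Type*} [Group G'] (f : G →* G') (hf : Function.Injective f)
    {A B : Subgroup G} (h : FourConn G A B) : FourConn G' (A.map f) (B.map f) := by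
  unfold FourConn at h ⊢
  induction h with
  | refl => exact Relation.ReflTransGen.refl
  | tail _ hbc ih => exact Relation.ReflTransGen.tail ih (hbc.map f hf)

theorem isFourConnected_iff : IsFourConnected G ↔
    ∀ U V : Subgroup G, IsKleinFour U → IsKleinFour V → FourConn G U V := Iff.rfl

/-- If the four-groups of the subgroup `S` are connected in `S`, then any two four-groups of `G`
inside `S` are connected in `G`. -/
theorem fourConn_of_le {S : Subgroup G} (hS : IsFourConnected ↥S) {U V : Subgroup G}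
    (hU : IsKleinFour ↥U) (hV : IsKleinFour ↥V) (hUS : U ≤ S) (hVS : V ≤ S) : FourConn G U V := by
  have h := (hS (U.subgroupOf S) (V.subgroupOf S) (isKleinFour_subgroupOf hUS hU)
    (isKleinFour_subgroupOf hVS hV))
  have h' := FourConn.map S.subtype S.subtype_injective h
  rwa [Subgroup.map_subgroupOf_eq_of_le hUS, Subgroup.map_subgroupOf_eq_of_le hVS] at h'

end Cfsg.Agent.Helper21
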