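import Mathlib
import Cfsg.Prelude.Def_LocalStructure
import Cfsg.Agent.Helper21.LargeSub

set_option autoImplicit false

/-!
Basic consequences of the basic property `M ∈ 𝔐_G(S)` in the presence of a large subgroup
(helper21).

* `IsInFrakM.le_dagger_of_parabolic_charP`: every parabolic subgroup `N ≥ M` with `O_p(N) ≠ 1`
  lies in `M† = M C_G(Y_M)`.
* `IsInFrakM.normalizer_le_dagger`: `N_G(I) ≤ M†` for every nontrivial normal `p`-subgroup `I`
  of `M`.
-/

namespace Cfsg.Agent.Helper21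

open Cfsg Cfsg.Agent.Helper46

variable {G : Type*} [Group G] [Finite G] {p : ℕ} [Fact p.Prime]

/-- Every overgroup `N ≥ M` in `𝓛_G` lies in `M†`. -/
theorem IsInFrakM.le_dagger_of_mem_charP {M N : Subgroup G} (hM : IsInFrakM p M)
    (hMN : M ≤ N) (hN : N ∈ charPSubgroups p G) :
    N ≤ M ⊔ Subgroup.centralizer ((largestPReducedOf p M : Subgroup G) : Set G) := by
  obtain ⟨X, hNX, hXmax⟩ := Set.Finite.exists_le_maximal (Set.toFinite (charPSubgroups p G)) hN
  have hXmem : X ∈ maxCharPSubgroups p G :=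
    ⟨hXmax.prop, fun L hL hXL => le_antisymm (hXmax.le_of_ge hL hXL) hXL⟩
  have := hM.2.2.1 X hXmem (hMN.trans hNX)
  rw [← this]
  exact hNX

/-- Every parabolic overgroup `N ≥ M` with `O_p(N) ≠ 1` lies in `M†` (uses `Q!`). -/
theorem IsInFrakM.le_dagger_of_parabolic {Q M N : Subgroup G} (hQp : IsPGroup p Q) (hQ1 : Q ≠ ⊥)
    (hQ : IsLarge Q) (hM : IsInFrakM p M) (hMN : M ≤ N) (hpar : IsParabolic p N)
    (hne : pCoreOf p N ≠ ⊥) :
    N ≤ M ⊔ Subgroup.centralizer ((largestPReducedOf p M : Subgroup G) : Set G) := by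
  apply IsInFrakM.le_dagger_of_mem_charP hM hMN
  refine ⟨?_, ?_⟩
  · intro h
    apply hne
    rw [pCoreOf, h, Subgroup.map_bot]
  · exact IsLarge.centralizer_pCoreOf_le_of_isParabolic hQp hQ1 hQ hpar hne

/-- `N_G(I) ≤ M†` for every nontrivial `p`-subgroup `I` normalized by `M ≥ S`. -/
theorem IsInFrakM.normalizer_le_dagger (S : Sylow p G) {Q M I : Subgroup G} (hQp : IsPGroup p Q)
    (hQ1 : Q ≠ ⊥) (hQ : IsLarge Q) (hSM : (S : Subgroup G) ≤ M) (hM : IsInFrakM p M)
    (hI1 : I ≠ ⊥) (hIp : IsPGroup p I) (hMI : M ≤ Subgroup.normalizer (I : Set G)) :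
    Subgroup.normalizer (I : Set G) ≤
      M ⊔ Subgroup.centralizer ((largestPReducedOf p M : Subgroup G) : Set G) := by
  apply IsInFrakM.le_dagger_of_parabolic hQp hQ1 hQ hM hMI ⟨S, hSM.trans hMI⟩
  intro h
  apply hI1
  have : I ≤ pCoreOf p (Subgroup.normalizer (I : Set G)) :=
    le_pCoreOf Subgroup.le_normalizer hIp le_rfl
  rw [h] at this
  exact le_bot_iff.1 this

end Cfsg.Agent.Helper21
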