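import Mathlib
import Cfsg.Prelude.Def_Local
import Cfsg.Prelude.Def_CaseTheorems
import Cfsg.Agent.Lib.Cores

/-!
# Gaschütz–Yen: passing the transitivity hypothesis to `G / O_{p'}(G)` (helper21)
-/

set_option autoImplicit false

namespace Cfsg.Agent.Helper21.GY

open Cfsg Subgroup

universe u

variable {G : Type u} [Group G]

/-- A subgroup of order `p` of `G / N`, `N` a normal `p'`-subgroup, is the image of a subgroup of order `p`. -/
theorem exists_lift_order_p [Finite G] {p : ℕ} [hp : Fact p.Prime] (N : Subgroup G) [N.Normal]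
    (hN : (Nat.card N).Coprime p) (U : Subgroup (G ⧸ N)) (hU : Nat.card U = p) :
    ∃ U0 : Subgroup G, Nat.card U0 = p ∧ U0.map (QuotientGroup.mk' N) = U := by
  classical
  have hUnt : Nontrivial U := by
    rw [← Finite.one_lt_card_iff_nontrivial, hU]; exact hp.out.one_lt
  obtain ⟨ū, hū⟩ := exists_ne (1 : U)
  obtain ⟨g, hg⟩ := QuotientGroup.mk'_surjective N (ū : G ⧸ N)
  have hūp : (ū : G ⧸ N) ^ p = 1 := by
    have h1 : ū ^ Nat.card U = 1 := pow_card_eq_one'
    rw [hU] at h1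
    have h2 := congrArg Subtype.val h1
    simpa using h2
  have hū1 : (ū : G ⧸ N) ≠ 1 := fun h => hū (Subtype.ext h)
  have hord : orderOf (ū : G ⧸ N) = p := orderOf_eq_prime hūp hū1
  set n := Nat.card N with hn
  set x : G := g ^ n with hx
  have hgp : g ^ p ∈ N := by
    rw [← QuotientGroup.eq_one_iff]
    have : ((g ^ p : G) : G ⧸ N) = (QuotientGroup.mk' N g) ^ p := by simp
    rw [this, hg, hūp]
  have hxp : x ^ p = 1 := by
    rw [hx, ← pow_mul, mul_comm, pow_mul]
    have h1 : (⟨g ^ p, hgp⟩ : N) ^ Nat.card N = 1 := pow_card_eq_one'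
    have h2 := congrArg Subtype.val h1
    rwa [Subgroup.coe_pow, Subgroup.coe_one] at h2
  have hmkx : QuotientGroup.mk' N x = (ū : G ⧸ N) ^ n := by
    rw [hx, map_pow, hg]
  have hmkx1 : QuotientGroup.mk' N x ≠ 1 := by
    rw [hmkx]
    intro h
    have h1 : orderOf (ū : G ⧸ N) ∣ n := orderOf_dvd_of_pow_eq_one h
    rw [hord] at h1
    exact (Nat.Prime.coprime_iff_not_dvd hp.out).mp hN.symm h1
  have hx1 : x ≠ 1 := by
    intro h
    apply hmkx1
    rw [h, map_one]
  have hxord : orderOf x = p := orderOf_eq_prime hxp hx1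
  refine ⟨Subgroup.zpowers x, by rw [Nat.card_zpowers, hxord], ?_⟩
  rw [MonoidHom.map_zpowers]
  have hle : Subgroup.zpowers (QuotientGroup.mk' N x) ≤ U := by
    rw [Subgroup.zpowers_le, hmkx]
    exact U.pow_mem ū.2 n
  apply Subgroup.eq_of_le_of_card_ge hle
  rw [hU, Nat.card_zpowers]
  have hmkxp : (QuotientGroup.mk' N x) ^ p = 1 := by
    rw [← map_pow, hxp, map_one]
  rw [orderOf_eq_prime hmkxp hmkx1]

/-- The transitivity hypothesis of Gaschütz–Yen passes to `G / O_{p'}(G)`. -/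
theorem trans_quotient [Finite G] {p : ℕ} [hp : Fact p.Prime]
    (htrans : ∀ U V : Subgroup G, Nat.card U = p → Nat.card V = p →
      ∃ a : MulAut G, U.map a.toMonoidHom = V) :
    ∀ U V : Subgroup (G ⧸ pPrimeCore p G), Nat.card U = p → Nat.card V = p →
      ∃ a : MulAut (G ⧸ pPrimeCore p G), U.map a.toMonoidHom = V := by
  intro U V hU hV
  have hN : (Nat.card (pPrimeCore p G)).Coprime p := Cfsg.Agent.Lib.card_pPrimeCore_coprime p
  obtain ⟨U0, hU0, hU0m⟩ := exists_lift_order_p (pPrimeCore p G) hN U hU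
  obtain ⟨V0, hV0, hV0m⟩ := exists_lift_order_p (pPrimeCore p G) hN V hV
  obtain ⟨a, ha⟩ := htrans U0 V0 hU0 hV0
  have hchar : (pPrimeCore p G).Characteristic := Cfsg.Agent.Lib.pPrimeCore_characteristic p
  have hNa : (pPrimeCore p G).map a.toMonoidHom = pPrimeCore p G :=
    Subgroup.characteristic_iff_map_eq.mp hchar a
  refine ⟨QuotientGroup.congr (pPrimeCore p G) (pPrimeCore p G) a hNa, ?_⟩
  rw [← hU0m, ← hV0m, ← ha, Subgroup.map_map, Subgroup.map_map]
  congr 1

end Cfsg.Agent.Helper21.GY
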