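import Mathlib
import Cfsg.Agent.Helper70.Commutator
import Cfsg.Agent.Helper46.SylowIn
import Cfsg.Agent.S1441

set_option autoImplicit false

/-!
Stabilizers of the lower central series of a `p`-group (helper21).

* `three_subgroups_mod'`: three subgroups lemma modulo a subgroup `N` that is only normalized by
  the three subgroups.
* `lcs_stable`: if `B` normalizes `A` and `[A, B] ≤ [A, A]` then `B` stabilizes the lower central
  series of `A`.
* `relIndex_centralizer_prime_dvd`: a group stabilizing the lower central series of a `p`-group `A`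
  is a `p`-group modulo `C(A)`.
* `le_pCoreOf_of_stab`: the assembly used for the commutator criterion `Y ≤ O_p(L)`.
-/

namespace Cfsg.Agent.Helper21

open Cfsg
open scoped commutatorElement

variable {G : Type*} [Group G]

/-- Three subgroups lemma modulo `N`, where `N` is only assumed to be normalized by the three
subgroups. -/
theorem three_subgroups_mod' (N H₁ H₂ H₃ : Subgroup G)
    (hn₁ : H₁ ≤ Subgroup.normalizer (N : Set G)) (hn₂ : H₂ ≤ Subgroup.normalizer (N : Set G))
    (hn₃ : H₃ ≤ Subgroup.normalizer (N : Set G))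
    (h1 : ⁅⁅H₂, H₃⁆, H₁⁆ ≤ N) (h2 : ⁅⁅H₃, H₁⁆, H₂⁆ ≤ N) : ⁅⁅H₁, H₂⁆, H₃⁆ ≤ N := by
  set K := Subgroup.normalizer (N : Set G) with hK
  have hNK : N ≤ K := Subgroup.le_normalizer
  have : (N.subgroupOf K).Normal := Subgroup.normal_in_normalizer
  have e : ∀ H : Subgroup G, H ≤ K → (H.subgroupOf K).map K.subtype = H :=
    fun H hH => Subgroup.map_subgroupOf_eq_of_le hH
  have key : ∀ A B C : Subgroup G, A ≤ K → B ≤ K → C ≤ K →
      (⁅⁅A.subgroupOf K, B.subgroupOf K⁆, C.subgroupOf K⁆).map K.subtype = ⁅⁅A, B⁆, C⁆ := by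
    intro A B C hA hB hC
    rw [Subgroup.map_commutator, Subgroup.map_commutator, e A hA, e B hB, e C hC]
  have t1 : ⁅⁅H₂.subgroupOf K, H₃.subgroupOf K⁆, H₁.subgroupOf K⁆ ≤ N.subgroupOf K := by
    rw [← Subgroup.map_le_map_iff_of_injective K.subtype_injective, key _ _ _ hn₂ hn₃ hn₁, e N hNK]
    exact h1
  have t2 : ⁅⁅H₃.subgroupOf K, H₁.subgroupOf K⁆, H₂.subgroupOf K⁆ ≤ N.subgroupOf K := by
    rw [← Subgroup.map_le_map_iff_of_injective K.subtype_injective, key _ _ _ hn₃ hn₁ hn₂, e N hNK]
    exact h2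
  have t3 := Cfsg.Agent.Helper70.three_subgroups_mod (N.subgroupOf K) _ _ _ t1 t2
  rw [← Subgroup.map_le_map_iff_of_injective K.subtype_injective, key _ _ _ hn₁ hn₂ hn₃,
    e N hNK] at t3
  exact t3

/-- conjugation by an element of the normalizer fixes the subgroup. -/
theorem map_conj_eq_self_of_mem {S : Subgroup G} {c : G}
    (hc : c ∈ Subgroup.normalizer (S : Set G)) : S.map (MulAut.conj c).toMonoidHom = S := by
  ext x
  constructor
  · rintro ⟨s, hs, rfl⟩
    exact (Subgroup.mem_normalizer_iff.1 hc s).1 hs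
  · intro hx
    refine ⟨c⁻¹ * x * c, ?_, by simp [mul_assoc]⟩
    have := (Subgroup.mem_normalizer_iff.1 (Subgroup.inv_mem _ hc) x).1 hx
    simpa using this

theorem mem_normalizer_of_map_conj_eq_self {S : Subgroup G} {c : G}
    (h : S.map (MulAut.conj c).toMonoidHom = S) : c ∈ Subgroup.normalizer (S : Set G) := by
  rw [Subgroup.mem_normalizer_iff]
  intro x
  constructor
  · intro hx
    rw [← h]
    exact ⟨x, hx, rfl⟩
  · intro hx
    rw [← h] at hx
    obtain ⟨s, hs, hs'⟩ := hx
    have : s = x := by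
      simpa using hs'
    rwa [← this]

theorem normalizer_le_normalizer_commutator (X Y : Subgroup G) :
    Subgroup.normalizer (X : Set G) ⊓ Subgroup.normalizer (Y : Set G) ≤
      Subgroup.normalizer ((⁅X, Y⁆ : Subgroup G) : Set G) := by
  intro b hb
  apply mem_normalizer_of_map_conj_eq_self
  rw [Subgroup.map_commutator, map_conj_eq_self_of_mem hb.1, map_conj_eq_self_of_mem hb.2]

/-- The normalizer of `A` normalizes every term of the lower central series of `A`. -/
theorem normalizer_le_normalizer_lcs (A : Subgroup G) (n : ℕ) :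
    Subgroup.normalizer (A : Set G) ≤ Subgroup.normalizer ((A.lowerCentralSeries n : Subgroup G) : Set G) := by
  induction n with
  | zero => simp
  | succ n ih =>
    rw [Subgroup.lowerCentralSeries_succ]
    exact (le_inf ih le_rfl).trans (normalizer_le_normalizer_commutator _ _)

/-- If `B` normalizes `A` and `[A, B] ≤ [A, A]`, then `B` stabilizes the lower central series of
`A`. -/
theorem lcs_stable (A B : Subgroup G) (hB : B ≤ Subgroup.normalizer (A : Set G))
    (h : ⁅A, B⁆ ≤ ⁅A, A⁆) (n : ℕ) :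
    ⁅A.lowerCentralSeries n, B⁆ ≤ A.lowerCentralSeries (n + 1) := by
  induction n with
  | zero => simpa using h
  | succ n ih =>
    have hAn : ∀ k, A ≤ Subgroup.normalizer ((A.lowerCentralSeries k : Subgroup G) : Set G) :=
      fun k => A.self_le_normalizer_lowerCentralSeries k
    have hBn : ∀ k, B ≤ Subgroup.normalizer ((A.lowerCentralSeries k : Subgroup G) : Set G) :=
      fun k => hB.trans (normalizer_le_normalizer_lcs A k)
    have hLn : ∀ j k, A.lowerCentralSeries j ≤
        Subgroup.normalizer ((A.lowerCentralSeries k : Subgroup G) : Set G) :=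
      fun j k => (A.lowerCentralSeries_le_self j).trans (hAn k)
    -- `[[A, A], γ_n] ≤ γ_{n+2}`
    have hAA : ⁅⁅A, A⁆, A.lowerCentralSeries n⁆ ≤ A.lowerCentralSeries (n + 1 + 1) := by
      apply three_subgroups_mod' _ A A (A.lowerCentralSeries n) (hAn _) (hAn _) (hLn _ _)
      · rw [Subgroup.commutator_comm A (A.lowerCentralSeries n)]
        exact le_rfl
      · exact le_rfl
    rw [Subgroup.lowerCentralSeries_succ A n]
    apply three_subgroups_mod' _ (A.lowerCentralSeries n) A B (hLn _ _) (hAn _) (hBn _)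
    · -- `[[A, B], γ_n] ≤ [[A, A], γ_n] ≤ γ_{n+2}`
      exact (Subgroup.commutator_mono h le_rfl).trans hAA
    · -- `[[B, γ_n], A] ≤ [γ_{n+1}, A] = γ_{n+2}`
      rw [Subgroup.commutator_comm B (A.lowerCentralSeries n)]
      exact Subgroup.commutator_mono ih le_rfl

end Cfsg.Agent.Helper21

namespace Cfsg.Agent.Helper21

open Cfsg
open scoped commutatorElement

variable {G : Type*} [Group G]

/-- A subgroup `X` stabilizing the lower central series of the `p`-group `A` is a `p`-group
modulo `C_X(A)`: every prime dividing `|X : C_X(A)|` equals `p`. -/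
theorem prime_eq_of_dvd_relIndex_centralizer [Finite G] {p : ℕ} [Fact p.Prime] (A X : Subgroup G)
    (hA : IsPGroup p A) (hXA : X ≤ Subgroup.normalizer (A : Set G))
    (hstab : ∀ n, ⁅A.lowerCentralSeries n, X⁆ ≤ A.lowerCentralSeries (n + 1))
    (q : ℕ) (hq : q.Prime) (hdvd : q ∣ (X ⊓ Subgroup.centralizer (A : Set G)).relIndex X) :
    q = p := by
  have hnil : Group.IsNilpotent A := hA.isNilpotent
  obtain ⟨n, hn⟩ := (Subgroup.isNilpotent_iff_lowerCentralSeries A).1 hnil
  have hsolv : Group.IsSolvable A := IsNilpotent.to_isSolvable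
  have h := Cfsg.Agent.S1441.result A X hsolv hXA n (fun i => A.lowerCentralSeries (i : ℕ))
    (by simp) (by simpa using hn)
    (fun i j hij => A.lowerCentralSeries_antitone (by exact_mod_cast hij))
    (fun i => A.self_le_normalizer_lowerCentralSeries _)
    (fun i => hXA.trans (normalizer_le_normalizer_lcs A _))
    (fun i => by simpa using hstab (i : ℕ)) q hq hdvd
  obtain ⟨k, hk⟩ := (IsPGroup.iff_card).1 hA
  rw [hk] at h
  exact (Nat.prime_dvd_prime_iff_eq hq (Fact.out : p.Prime)).1 (hq.dvd_of_dvd_pow h)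

end Cfsg.Agent.Helper21

namespace Cfsg.Agent.Helper21

open Cfsg Cfsg.Agent.Helper46
open scoped commutatorElement

variable {G : Type*} [Group G]

/-- Assembly: `X ≤ L` normalized by `L`, stabilizing the lower central series of the normal
`p`-subgroup `A`; `P ≤ X` a `p`-group normalized by `X` with `[C_X(A), X] ≤ P`.  Then every
`p`-subgroup `Y` of `X` lies in `O_p(L)`. -/
theorem le_pCoreOf_of_stab [Finite G] {p : ℕ} [Fact p.Prime] (A X L Y P : Subgroup G)
    (hA : IsPGroup p A) (hXL : X ≤ L) (hLX : L ≤ Subgroup.normalizer (X : Set G))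
    (hXA : X ≤ Subgroup.normalizer (A : Set G))
    (hstab : ∀ n, ⁅A.lowerCentralSeries n, X⁆ ≤ A.lowerCentralSeries (n + 1))
    (hP : IsPGroup p P) (hPX : P ≤ X) (hXP : X ≤ Subgroup.normalizer (P : Set G))
    (hcomm : ⁅X ⊓ Subgroup.centralizer (A : Set G), X⁆ ≤ P)
    (hYX : Y ≤ X) (hY : IsPGroup p Y) : Y ≤ pCoreOf p L := by
  obtain ⟨T, hT, hYT⟩ := IsSylIn.exists_of_pgroup hYX hY
  have hTX : T ≤ X := hT.le
  have hPT : P ≤ T := hT.normal_le hPX hP hXP
  set X₀ := X ⊓ Subgroup.centralizer (A : Set G) with hX₀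
  -- `X₀` normalizes `T`
  have hconj : ∀ x ∈ X₀, ∀ t ∈ T, x * t * x⁻¹ ∈ T := by
    intro x hx t ht
    have h1 : ⁅x, t⁆ ∈ T := hPT (hcomm (Subgroup.commutator_mem_commutator hx (hTX ht)))
    have h2 : x * t * x⁻¹ = ⁅x, t⁆ * t := by
      rw [commutatorElement_def]; group
    rw [h2]
    exact T.mul_mem h1 ht
  have hX₀N : X₀ ≤ Subgroup.normalizer (T : Set G) := by
    intro x hx
    rw [Subgroup.mem_normalizer_iff]
    intro t
    refine ⟨hconj x hx t, fun h => ?_⟩
    have := hconj x⁻¹ (inv_mem hx) _ h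
    simpa [mul_assoc] using this
  -- index argument: `X ≤ N(T)`
  have hXN : X ≤ Subgroup.normalizer (T : Set G) := by
    set N₁ := X ⊓ Subgroup.normalizer (T : Set G) with hN₁
    have hX₀N₁ : X₀ ≤ N₁ := le_inf inf_le_left hX₀N
    have hTN₁ : T ≤ N₁ := le_inf hTX Subgroup.le_normalizer
    have hone : N₁.relIndex X = 1 := by
      rw [Nat.eq_one_iff_not_exists_prime_dvd]
      intro q hq hqd
      have hq1 : q ∣ X₀.relIndex X := dvd_trans hqd (Subgroup.relIndex_dvd_of_le_left X hX₀N₁)
      have hqp : q = p := prime_eq_of_dvd_relIndex_centralizer A X hA hXA hstab q hq hq1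
      subst hqp
      have hq2 : q ∣ T.relIndex X := dvd_trans hqd (Subgroup.relIndex_dvd_of_le_left X hTN₁)
      obtain ⟨S, hS⟩ := hT
      have hS' : T.subgroupOf X = (S : Subgroup X) := by
        rw [← hS]
        ext x
        rw [Subgroup.mem_subgroupOf]
        constructor
        · rintro ⟨y, hy, hyx⟩
          have : y = x := Subtype.ext hyx
          rwa [← this]
        · intro hx
          exact ⟨x, hx, rfl⟩
      rw [Subgroup.relIndex, hS'] at hq2
      exact S.not_dvd_index hq2
    have := Subgroup.relIndex_eq_one.1 hone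
    exact this.trans inf_le_right
  -- `L` normalizes `T`
  have hLT : L ≤ Subgroup.normalizer (T : Set G) := by
    intro l hl
    have hlX := hLX hl
    have hTl : IsSylIn p (T.map (MulAut.conj l).toMonoidHom) X := by
      apply isSylIn_of_card
      · rintro _ ⟨t, ht, rfl⟩
        exact (Subgroup.mem_normalizer_iff.1 hlX t).1 (hTX ht)
      · rw [Subgroup.card_map_of_injective (MulAut.conj l).injective]
        exact IsSylIn.card ⟨_, hT.choose_spec⟩
    obtain ⟨g, hg, hgT⟩ := hT.exists_conj hTl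
    apply mem_normalizer_of_map_conj_eq_self
    rw [hgT, map_conj_eq_self_of_mem (hXN hg)]
  exact hYT.trans (le_pCoreOf (hTX.trans hXL) hT.isPGroup hLT)

end Cfsg.Agent.Helper21

namespace Cfsg.Agent.Helper21

open Cfsg
open scoped commutatorElement

variable {G : Type*} [Group G]

/-- If every `K i` normalizes `N` and `[H, K i] ≤ N`, then `[H, ⨆ i, K i] ≤ N`. -/
theorem commutator_iSup_le_of_normalizes {ι : Sort*} (H N : Subgroup G) (K : ι → Subgroup G)
    (hK : ∀ i, K i ≤ Subgroup.normalizer (N : Set G)) (h : ∀ i, ⁅H, K i⁆ ≤ N) :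
    ⁅H, ⨆ i, K i⁆ ≤ N := by
  let T : Subgroup G :=
    { carrier := {g | g ∈ Subgroup.normalizer (N : Set G) ∧ ∀ y ∈ H, ⁅g, y⁆ ∈ N}
      one_mem' := ⟨Subgroup.one_mem _, fun y _ => by
        rw [commutatorElement_one_left]; exact N.one_mem⟩
      mul_mem' := by
        rintro a b ⟨ha, ha'⟩ ⟨hb, hb'⟩
        refine ⟨Subgroup.mul_mem _ ha hb, fun y hy => ?_⟩
        rw [commutatorElement_mul_left_eq_conj_mul]
        exact N.mul_mem ((Subgroup.mem_normalizer_iff.1 ha _).1 (hb' y hy)) (ha' y hy)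
      inv_mem' := by
        rintro a ⟨ha, ha'⟩
        refine ⟨Subgroup.inv_mem _ ha, fun y hy => ?_⟩
        rw [commutatorElement_inv_left]
        have h1 : ⁅y, a⁆ ∈ N := by
          rw [← commutatorElement_inv]; exact N.inv_mem (ha' y hy)
        have h2 := (Subgroup.mem_normalizer_iff.1 (Subgroup.inv_mem _ ha) _).1 h1
        simpa using h2 }
  have hST : ⨆ i, K i ≤ T := by
    apply iSup_le
    intro i a ha
    refine ⟨hK i ha, fun y hy => ?_⟩
    have := h i (Subgroup.commutator_mem_commutator hy ha)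
    rw [← commutatorElement_inv]
    exact N.inv_mem this
  rw [Subgroup.commutator_comm, Subgroup.commutator_le]
  intro g hg y hy
  exact (hST hg).2 y hy

/-- The subgroup generated by the `L`-conjugates of `Y`. -/
def conjClosure (Y L : Subgroup G) : Subgroup G :=
  ⨆ l : L, Y.map (MulAut.conj (l : G)).toMonoidHom

theorem le_conjClosure (Y L : Subgroup G) : Y ≤ conjClosure Y L := by
  refine le_trans ?_ (le_iSup _ (⟨1, L.one_mem⟩ : L))
  intro y hy
  exact ⟨y, hy, by simp⟩

theorem conjClosure_le (Y L : Subgroup G) (hYL : Y ≤ L) : conjClosure Y L ≤ L := by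
  apply iSup_le
  rintro l _ ⟨y, hy, rfl⟩
  exact L.mul_mem (L.mul_mem l.2 (hYL hy)) (L.inv_mem l.2)

theorem le_normalizer_of_map_conj_le {X L : Subgroup G}
    (h : ∀ l ∈ L, X.map (MulAut.conj l).toMonoidHom ≤ X) :
    L ≤ Subgroup.normalizer (X : Set G) := by
  intro l hl
  rw [Subgroup.mem_normalizer_iff]
  intro x
  constructor
  · intro hx
    exact h l hl ⟨x, hx, rfl⟩
  · intro hx
    have := h l⁻¹ (L.inv_mem hl) ⟨_, hx, rfl⟩
    simpa [mul_assoc] using this

theorem le_normalizer_conjClosure (Y L : Subgroup G) :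
    L ≤ Subgroup.normalizer ((conjClosure Y L : Subgroup G) : Set G) := by
  apply le_normalizer_of_map_conj_le
  intro l hl
  rw [conjClosure, Subgroup.map_iSup]
  apply iSup_le
  intro l'
  refine le_trans ?_ (le_iSup _ (⟨l * l', L.mul_mem hl l'.2⟩ : L))
  rintro _ ⟨_, ⟨y, hy, rfl⟩, rfl⟩
  exact ⟨y, hy, by simp [mul_assoc]⟩

/-- If `L` normalizes `H` and `N`, `Y ≤ L` and `[H, Y] ≤ N`, then `[H, ⟨Y^L⟩] ≤ N`. -/
theorem commutator_conjClosure_le (H N Y L : Subgroup G)
    (hLH : L ≤ Subgroup.normalizer (H : Set G)) (hLN : L ≤ Subgroup.normalizer (N : Set G))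
    (hYL : Y ≤ L) (h : ⁅H, Y⁆ ≤ N) : ⁅H, conjClosure Y L⁆ ≤ N := by
  apply commutator_iSup_le_of_normalizes
  · rintro l _ ⟨y, hy, rfl⟩
    exact hLN (L.mul_mem (L.mul_mem l.2 (hYL hy)) (L.inv_mem l.2))
  · intro l
    have h1 : H.map (MulAut.conj (l : G)).toMonoidHom = H := map_conj_eq_self_of_mem (hLH l.2)
    have h2 : N.map (MulAut.conj (l : G)).toMonoidHom = N := map_conj_eq_self_of_mem (hLN l.2)
    calc ⁅H, Y.map (MulAut.conj (l : G)).toMonoidHom⁆
        = ⁅H.map (MulAut.conj (l : G)).toMonoidHom, Y.map (MulAut.conj (l : G)).toMonoidHom⁆ := by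
          rw [h1]
      _ = (⁅H, Y⁆).map (MulAut.conj (l : G)).toMonoidHom := (Subgroup.map_commutator _ _ _).symm
      _ ≤ N.map (MulAut.conj (l : G)).toMonoidHom := Subgroup.map_mono h
      _ = N := h2

end Cfsg.Agent.Helper21
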