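import Mathlib
import Cfsg.Agent.Helper21.THDefs2
import Cfsg.Agent.Helper21.THMin
import Cfsg.Agent.Helper11.THN2b
import Cfsg.Agent.Helper22.THT2
import Cfsg.Agent.Helper33.THE5
import Cfsg.Agent.Helper37.THP1d1
import Cfsg.Agent.Helper38.THN2d
import Cfsg.Agent.Helper41.THP1d2
import Cfsg.Agent.Helper49.THP1b
import Cfsg.Agent.Helper50.THP1a
import Cfsg.Agent.Helper67.THE2
import Cfsg.Agent.Helper67.THE3
import Cfsg.Agent.Helper68.THE1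
import Cfsg.Agent.Helper68.THN1
import Cfsg.Agent.Helper79.THN2a
import Cfsg.Agent.Helper79.THN2c
import Cfsg.Agent.Helper89.THP1c
import Cfsg.Agent.Helper89.THT3
import Cfsg.Agent.Helper97.THE4

/-!
# S3797: the pieces proved by the team, restated in one namespace (helper21)
-/

set_option autoImplicit false

namespace Cfsg.Agent.Helper21.TH

open Subgroup Cfsg
open scoped commutatorElement

universe u

variable {G : Type u} [Group G] [Finite G]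

/-- (N1) -/
theorem exists_zcfg {P V T X₁ R : Subgroup G} (h : ECfg P V T X₁ R) :
    ∃ X D U : Subgroup G, X ≤ X₁ ∧ U ≤ T ∧ ZCfg P V X D U R :=
  Cfsg.Agent.Helper68.TH.exists_zcfg h

/-- (N2a) -/
theorem IsHyp.le_normalizer {X D U R H : Subgroup G} (h : MCfg X D U R) (hH : IsHyp X D H) :
    X ≤ normalizer (H : Set G) :=
  Cfsg.Agent.Helper79.TH.isHyp_le_normalizer h hH

/-- (N2a) -/
theorem IsHyp.cent_le {X D H : Subgroup G} (hH : IsHyp X D H) {x : G} (hx : x ∈ X) (hxH : x ∉ H) :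
    centralizer (H : Set G) ⊓ centralizer {x} ≤ centralizer (X : Set G) :=
  Cfsg.Agent.Helper79.TH.isHyp_cent_le hH hx hxH

/-- (N2a) -/
theorem IsHyp.exists_mem_not_mem {X D H H' : Subgroup G} (hH : IsHyp X D H) (hH' : IsHyp X D H')
    (hne : H ≠ H') : ∃ x ∈ H, x ∉ H' :=
  Cfsg.Agent.Helper79.TH.isHyp_exists_mem_not_mem hH hH' hne

/-- (N2a) -/
theorem IsHyp.cj {X D U R H : Subgroup G} (h : MCfg X D U R) (hH : IsHyp X D H) {r : G} (hr : r ∈ R) :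
    IsHyp X D (cj r H) :=
  Cfsg.Agent.Helper79.TH.isHyp_cj h hH hr

/-- (N2b) uses (W7) -/
theorem MCfg.exists_hyp {X D U R : Subgroup G} (h : MCfg X D U R) :
    ∃ H : Subgroup G, IsHyp X D H ∧ ¬ U ⊓ centralizer (H : Set G) ≤ centralizer (X : Set G) :=
  Cfsg.Agent.Helper11.THN2b.exists_hyp h

/-- (N2c) -/
theorem MCfg.iSup_orbit {X D U R H₀ : Subgroup G} (h : MCfg X D U R) (hH : IsHyp X D H₀)
    (hn : ¬ U ⊓ centralizer (H₀ : Set G) ≤ centralizer (X : Set G)) :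
    U = ⨆ H : Orb R H₀, U ⊓ centralizer ((H : Subgroup G) : Set G) :=
  Cfsg.Agent.Helper79.TH.mcfg_iSup_orbit h hH hn

/-- (N2c) -/
theorem MCfg.orbit_ne {X D U R H₀ : Subgroup G} (h : MCfg X D U R) (hH : IsHyp X D H₀) :
    ∃ i j : Orb R H₀, i ≠ j :=
  Cfsg.Agent.Helper79.TH.mcfg_orbit_ne h hH

/-- (N2d) uses (W8) -/
theorem MCfg.hyp_decomp {X D U R H : Subgroup G} (h : MCfg X D U R) (hH : IsHyp X D H) {x : G} (hx : x ∈ X)
    (hxH : x ∉ H) {u : G} (hu : u ∈ U ⊓ centralizer (H : Set G)) :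
    ∃ c ∈ U ⊓ centralizer (X : Set G), ∃ i ∈ U ⊓ centralizer (H : Set G), x * i * x⁻¹ = i⁻¹ ∧ u = c * i :=
  Cfsg.Agent.Helper38.TH.hyp_decomp h hH hx hxH hu

/-- (N2d) uses (W8) -/
theorem MCfg.inverted_gen {X D U R : Subgroup G} (h : MCfg X D U R) :
    U = closure {t : G | t ∈ U ∧ ∃ x ∈ X, x * t * x⁻¹ = t⁻¹} :=
  Cfsg.Agent.Helper38.TH.inverted_gen h

/-- (E1) uses (W3), `Helper24.thompson_PxQ`, `Helper71.Shult.exists_min_action` -/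
theorem ZCfg.exists_ycfg {P V X D U R : Subgroup G} (h : ZCfg P V X D U R) :
    ∃ Y : Subgroup G, YCfg P V X D U R Y :=
  Cfsg.Agent.Helper68.TH.ZCfg.exists_ycfg h

/-- (E2) uses (W2), (N2d) -/
theorem YCfg.fix_cent {P V X D U R Y : Subgroup G} (h : YCfg P V X D U R Y) :
    U ⊓ centralizer (X : Set G) ≤ centralizer (Y : Set G) :=
  Cfsg.Agent.Helper67.TH.fix_cent_of h (MCfg.inverted_gen h.z.m)

/-- (E3) uses (W2), (N2a), (N2d) -/
theorem YCfg.hyp_cent {P V X D U R Y : Subgroup G} (h : YCfg P V X D U R Y)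
    (hfix : U ⊓ centralizer (X : Set G) ≤ centralizer (Y : Set G))
    {H H' : Subgroup G} (hH : IsHyp X D H) (hH' : IsHyp X D H') (hne : H ≠ H') :
    U ⊓ centralizer (H : Set G) ≤
      centralizer ((⁅Y, U ⊓ centralizer (H' : Set G)⁆ : Subgroup G) : Set G) :=
  Cfsg.Agent.Helper67.TH.hyp_cent_of h hfix hH hH' (IsHyp.exists_mem_not_mem hH hH' hne)
    (fun hx hxH _ hu => MCfg.hyp_decomp h.z.m hH' hx hxH hu)

/-- (E4) uses (W9) -/
theorem YCfg.family_props {P V X D U R Y : Subgroup G} (h : YCfg P V X D U R Y) {ι : Type u}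
    (A : ι → Subgroup G) (hAU : ∀ i, A i ≤ U) (hAn : ∀ i, U ≤ normalizer (A i : Set G))
    (hsup : U = ⨆ i, A i)
    (hcent : ∀ i j, i ≠ j → A i ≤ centralizer ((⁅Y, A j⁆ : Subgroup G) : Set G)) :
    (∀ i j, i ≠ j → ⁅Y, A i⁆ ≤ centralizer ((⁅Y, A j⁆ : Subgroup G) : Set G)) ∧
    (Y = ⨆ i, ⁅Y, A i⁆) ∧
    (∀ i, ⁅Y, A i⁆ ⊓ ((⨆ j ∈ {j : ι | j ≠ i}, ⁅Y, A j⁆) ⊔ V) ≤ V) :=
  Cfsg.Agent.Helper97.THE4.family_props h A hAU hAn hsup hcent

/-- (E5) uses (W1) -/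
theorem YCfg.final {P V X D U R Y H₀ : Subgroup G} (h : YCfg P V X D U R Y) (hH : IsHyp X D H₀)
    (hne : ∃ i j : Orb R H₀, i ≠ j)
    (hc : ∀ i j : Orb R H₀, i ≠ j →
      ⁅Y, U ⊓ centralizer ((i : Subgroup G) : Set G)⁆ ≤
        centralizer ((⁅Y, U ⊓ centralizer ((j : Subgroup G) : Set G)⁆ : Subgroup G) : Set G))
    (hsup : Y = ⨆ i : Orb R H₀, ⁅Y, U ⊓ centralizer ((i : Subgroup G) : Set G)⁆)
    (hint : ∀ i : Orb R H₀, ⁅Y, U ⊓ centralizer ((i : Subgroup G) : Set G)⁆ ⊓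
      ((⨆ j ∈ {j : Orb R H₀ | j ≠ i}, ⁅Y, U ⊓ centralizer ((j : Subgroup G) : Set G)⁆) ⊔ V) ≤ V) :
    False :=
  Cfsg.Agent.Helper33.TH.YCfg.final h hH hne hc hsup hint

/-- (P1a) adaptation of `Helper21.GY.not_dvd_index_pCore` -/
theorem exists_scfg (hsol : Group.IsSolvable G) (h1 : OneClass G) (h2 : TwoInv G)
    (hO : pPrimeCore 2 G = ⊥) (hdvd : 2 ∣ (pCore 2 G).index) :
    ∃ V T : Subgroup G, SCfg G V T :=
  Cfsg.Agent.Helper50.THP.exists_scfg hsol h1 h2 hO hdvd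

/-- (P1b) uses (W5) -/
theorem SCfg.quot_hyps {V T : Subgroup G} (h : SCfg G V T) (hsol : Group.IsSolvable G) (h1 : OneClass G)
    (h2 : TwoInv G) :
    OneClass (↥(normalizer (T : Set G)) ⧸ T.subgroupOf (normalizer (T : Set G))) ∧
    TwoInv (↥(normalizer (T : Set G)) ⧸ T.subgroupOf (normalizer (T : Set G))) ∧
    pPrimeCore 2 (↥(normalizer (T : Set G)) ⧸ T.subgroupOf (normalizer (T : Set G))) = ⊥ ∧
    Nat.card (↥(normalizer (T : Set G)) ⧸ T.subgroupOf (normalizer (T : Set G))) < Nat.card G :=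
  Cfsg.Agent.Helper49.THP1b.SCfg.quot_hyps h hsol h1 h2

/-- (P1c) -/
theorem exists_L (T : Subgroup G)
    (h : ¬ 2 ∣ (pCore 2 (↥(normalizer (T : Set G)) ⧸ T.subgroupOf (normalizer (T : Set G)))).index) :
    ∃ L : Subgroup G, T ≤ L ∧ L ≤ normalizer (T : Set G) ∧ normalizer (T : Set G) ≤ normalizer (L : Set G) ∧
      (∃ k : ℕ, T.relIndex L = 2 ^ k) ∧ ¬ 2 ∣ L.relIndex (normalizer (T : Set G)) :=
  Cfsg.Agent.Helper89.THP1c.exists_L T h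

/-- (P1d1) -/
theorem SCfg.exists_X {V T L : Subgroup G} (h : SCfg G V T) (hsol : Group.IsSolvable G) (h1 : OneClass G)
    (hO : pPrimeCore 2 G = ⊥) (hdvd : 2 ∣ (pCore 2 G).index)
    (hTL : T ≤ L) (hLN : L ≤ normalizer (T : Set G)) (hNL : normalizer (T : Set G) ≤ normalizer (L : Set G))
    (hidx : ∃ k : ℕ, T.relIndex L = 2 ^ k) (hodd : ¬ 2 ∣ L.relIndex (normalizer (T : Set G))) :
    ∃ X : Subgroup G, IsPGroup 2 X ∧ X ≤ L ∧ ¬ 2 ∣ X.relIndex (normalizer (T : Set G)) ∧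
      L ≤ centralizer (V : Set G) ∧ ¬ X ≤ centralizer (T : Set G) ∧
      normalizer (T : Set G) ≤ L ⊔ (normalizer (X : Set G) ⊓ normalizer (T : Set G)) :=
  Cfsg.Agent.Helper37.TH.SCfg.exists_X h hsol h1 hO hdvd hTL hLN hNL hidx hodd

/-- (P1d2) -/
theorem SCfg.exists_R {V T L X : Subgroup G} (h : SCfg G V T) (h1 : OneClass G)
    (hLN : L ≤ normalizer (T : Set G))
    (hX2 : IsPGroup 2 X) (hXL : X ≤ L) (hXsyl : ¬ 2 ∣ X.relIndex (normalizer (T : Set G)))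
    (hLV : L ≤ centralizer (V : Set G))
    (hfrat : normalizer (T : Set G) ≤ L ⊔ (normalizer (X : Set G) ⊓ normalizer (T : Set G))) :
    ∃ R : Subgroup G, Odd (Nat.card R) ∧ R ≤ normalizer (T : Set G) ∧ R ≤ normalizer (X : Set G) ∧
      (∀ v ∈ V, v ≠ 1 → ∀ w ∈ V, w ≠ 1 → ∃ r ∈ R, r * v * r⁻¹ = w) ∧
      (∀ x ∈ X, (∀ r ∈ R, r * x * r⁻¹ = x) → x = 1) :=
  Cfsg.Agent.Helper41.TH.SCfg.exists_R h h1 hLN hX2 hXL hXsyl hLV hfrat

/-- (T2) uses (W5) -/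
theorem sylow_trans (hsol : Group.IsSolvable G) (S : Sylow 2 G) (h1 : OneClass G)
    (hcore : ¬ 2 ∣ (pCore 2 (G ⧸ pPrimeCore 2 G)).index) :
    ∀ x y : G, x ∈ (S : Subgroup G) → y ∈ (S : Subgroup G) → x ≠ 1 → x ^ 2 = 1 → y ≠ 1 → y ^ 2 = 1 →
      ∃ n ∈ normalizer ((S : Subgroup G) : Set G), n * x * n⁻¹ = y :=
  Cfsg.Agent.Helper22.THT2.sylow_trans hsol S h1 hcore

/-- (T3) uses (W6) -/
theorem sylow_disj (hsol : Group.IsSolvable G) (S : Sylow 2 G)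
    (htr : ∀ x y : G, x ∈ (S : Subgroup G) → y ∈ (S : Subgroup G) → x ≠ 1 → x ^ 2 = 1 → y ≠ 1 → y ^ 2 = 1 →
      ∃ n ∈ normalizer ((S : Subgroup G) : Set G), n * x * n⁻¹ = y) :
    (∃ m r : ℕ, Nonempty (↥(S : Subgroup G) ≃* (Fin r → Multiplicative (ZMod (2 ^ m))))) ∨
    (¬ IsMulCommutative (S : Subgroup G) ∧ ∃ Y : Subgroup (MulAut ↥(S : Subgroup G)), Group.IsSolvable Y ∧
      ∀ x y : ↥(S : Subgroup G), x ≠ 1 → x ^ 2 = 1 → y ≠ 1 → y ^ 2 = 1 → ∃ a ∈ Y, a x = y) :=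
  Cfsg.Agent.Helper89.THT3.sylow_disj hsol S htr

end Cfsg.Agent.Helper21.TH
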