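import Mathlib
import Cfsg.Agent.Helper21.THDefs2
import Cfsg.Agent.Helper21.THMin
import Cfsg.Agent.Helper21.THGlue

set_option autoImplicit false

namespace Cfsg.Agent.Helper21.TH

open Subgroup Cfsg
open scoped commutatorElement

universe u

variable {G : Type u} [Group G] [Finite G]

theorem ZCfg.false {P V X D U R : Subgroup G} (hZ : ZCfg P V X D U R) : False := by
  obtain ⟨Y, hY⟩ := hZ.exists_ycfg
  have hfix := hY.fix_cent
  obtain ⟨H₀, hH₀, hn⟩ := hZ.m.exists_hyp
  have hsup := hZ.m.iSup_orbit hH₀ hn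
  have hne := hZ.m.orbit_ne hH₀
  have hhyp : ∀ i : Orb R H₀, IsHyp X D (i : Subgroup G) := by
    rintro ⟨H, r, hr, rfl⟩
    exact hH₀.cj hZ.m hr
  have hAn : ∀ i : Orb R H₀, U ≤ normalizer ((U ⊓ centralizer ((i : Subgroup G) : Set G) : Subgroup G) : Set G) := by
    intro i
    have hle : ⁅U, U⁆ ≤ U ⊓ centralizer ((i : Subgroup G) : Set G) :=
      hZ.m.derived_le_fix.trans (inf_le_inf le_rfl (Subgroup.centralizer_le (by exact_mod_cast (hhyp i).2.1)))
    apply Cfsg.Agent.Helper71.Shult.le_normalizer_of_conj_mem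
    intro u hu a ha
    have h1 : ⁅u, a⁆ ∈ U ⊓ centralizer ((i : Subgroup G) : Set G) :=
      hle (Subgroup.commutator_mem_commutator hu ha.1)
    have h2 : u * a * u⁻¹ = ⁅u, a⁆ * a := by rw [commutatorElement_def]; group
    rw [h2]
    exact Subgroup.mul_mem _ h1 ha
  obtain ⟨e1, e2, e3⟩ := hY.family_props (ι := Orb R H₀)
    (fun i => U ⊓ centralizer ((i : Subgroup G) : Set G)) (fun i => inf_le_left) hAn hsup
    (fun i j hij => hY.hyp_cent hfix (hhyp i) (hhyp j) (fun he => hij (Subtype.ext he)))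
  exact hY.final hH₀ hne e1 e2 e3

theorem ECfg.false {P V T X R : Subgroup G} (h : ECfg P V T X R) : False := by
  obtain ⟨X', D, U, _, _, hZ⟩ := exists_zcfg h
  exact hZ.false

theorem exists_ecfg (hsol : Group.IsSolvable G) (h1 : OneClass G) (h2 : TwoInv G)
    (hO : pPrimeCore 2 G = ⊥) (hdvd : 2 ∣ (pCore 2 G).index)
    (IH : ∀ (H : Type u) [Group H] [Finite H], Nat.card H < Nat.card G → Group.IsSolvable H → OneClass H →
      TwoInv H → pPrimeCore 2 H = ⊥ → ¬ 2 ∣ (pCore 2 H).index) :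
    ∃ V T X R : Subgroup G, ECfg (pCore 2 G) V T X R := by
  obtain ⟨V, T, hS⟩ := exists_scfg hsol h1 h2 hO hdvd
  obtain ⟨q1, q2, q3, q4⟩ := hS.quot_hyps hsol h1 h2
  have hQsol : Group.IsSolvable (↥(normalizer (T : Set G)) ⧸ T.subgroupOf (normalizer (T : Set G))) := by
    infer_instance
  have hq := IH _ q4 hQsol q1 q2 q3
  obtain ⟨L, hTL, hLN, hNL, hidx, hodd⟩ := exists_L T hq
  obtain ⟨X, hX2, hXL, hXsyl, hLV, hXT, hfr⟩ := hS.exists_X hsol h1 hO hdvd hTL hLN hNL hidx hodd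
  obtain ⟨R, hRodd, hRT, hRX, htr, hfix⟩ := hS.exists_R h1 hLN hX2 hXL hXsyl hLV hfr
  have hPn : ∀ K : Subgroup G, K ≤ normalizer ((pCore 2 G : Subgroup G) : Set G) := by
    intro K
    have : normalizer ((pCore 2 G : Subgroup G) : Set G) = ⊤ := Subgroup.normalizer_eq_top _
    rw [this]; exact le_top
  refine ⟨V, T, X, R, ?_⟩
  exact
  { hP := Cfsg.Agent.Lib.isPGroup_pCore 2
    hV := hS.hV
    hVZ := hS.hVZ
    hV4 := hS.hV4
    hTodd := hS.hTodd
    hTsol := inferInstance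
    hX2 := hX2
    hRodd := hRodd
    hXT := hXL.trans hLN
    hRT := hRT
    hRX := hRX
    hTP := hPn T
    hXP := hPn X
    hRP := hPn R
    hTV := hS.hTV
    hXV := hXL.trans hLV
    htrans := htr
    hfix := hfix
    hnc := hXT
    hfaith := by
      rw [eq_bot_iff, ← hS.hPT]
      exact le_inf (inf_le_right.trans hS.hCP) inf_le_left }

theorem core : ∀ (n : ℕ) (G : Type u) [Group G] [Finite G], Nat.card G ≤ n → Group.IsSolvable G → OneClass G →
    TwoInv G → pPrimeCore 2 G = ⊥ → ¬ 2 ∣ (pCore 2 G).index := by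
  intro n
  induction n with
  | zero =>
    intro G _ _ hn
    have : 0 < Nat.card G := Nat.card_pos
    omega
  | succ n ih =>
    intro G _ _ hn hsol h1 h2 hO hdvd
    obtain ⟨V, T, X, R, hE⟩ := exists_ecfg hsol h1 h2 hO hdvd
      (fun H _ _ hlt hs a b c => ih H (by omega) hs a b c)
    exact hE.false

end Cfsg.Agent.Helper21.TH
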