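import Mathlib
import Cfsg.Agent.Helper21.THDefs

/-!
# S3797: two commuting involutions in a Sylow 2-subgroup with more than one involution (helper21)
-/

set_option autoImplicit false

namespace Cfsg.Agent.Helper21.TH

open Subgroup

universe u

/-- A `2`-subgroup with two distinct involutions yields two distinct commuting involutions. -/
theorem twoInv_of_pGroup {G : Type u} [Group G] [Finite G] (S : Subgroup G) (hS : IsPGroup 2 S)
    (htwo : ∃ x y : G, x ∈ S ∧ y ∈ S ∧ x ≠ y ∧ x ≠ 1 ∧ x ^ 2 = 1 ∧ y ≠ 1 ∧ y ^ 2 = 1) : TwoInv G := by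
  obtain ⟨x, y, hxS, hyS, hxy, hx1, hx2, hy1, hy2⟩ := htwo
  haveI : Fact (Nat.Prime 2) := ⟨Nat.prime_two⟩
  have hnt : Nontrivial ↥S := ⟨⟨⟨x, hxS⟩, 1, fun h => hx1 (congrArg Subtype.val h)⟩⟩
  have hZ : Nontrivial (Subgroup.center ↥S) := hS.center_nontrivial
  have hZp : IsPGroup 2 (Subgroup.center ↥S) := hS.to_subgroup _
  have hdvd : 2 ∣ Nat.card (Subgroup.center ↥S) := by
    obtain ⟨k, hk⟩ := IsPGroup.iff_card.mp hZp
    have h1 : 1 < Nat.card (Subgroup.center ↥S) := Finite.one_lt_card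
    rw [hk] at h1 ⊢
    cases k with
    | zero => simp at h1
    | succ k => exact dvd_pow_self 2 (Nat.succ_ne_zero k)
  obtain ⟨z, hz⟩ := exists_prime_orderOf_dvd_card' (G := Subgroup.center ↥S) 2 hdvd
  set z0 : G := ((z : ↥S) : G) with hz0
  have hz0ord : orderOf z0 = 2 := by
    rw [hz0, Subgroup.orderOf_coe, Subgroup.orderOf_coe]; exact hz
  have hz01 : z0 ≠ 1 := by
    intro h
    rw [h, orderOf_one] at hz0ord
    omega
  have hz02 : z0 ^ 2 = 1 := by rw [← hz0ord]; exact pow_orderOf_eq_one z0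
  have hz0c : ∀ s ∈ S, z0 * s = s * z0 := by
    intro s hs
    have h1 := (Subgroup.mem_center_iff.mp z.2) ⟨s, hs⟩
    have h2 := congrArg (Subtype.val) h1
    simpa using h2.symm
  by_cases hxz : x = z0
  · exact ⟨y, z0, fun h => hxy (by rw [hxz, h]), hy1, hy2, hz01, hz02, (hz0c y hyS).symm⟩
  · exact ⟨x, z0, hxz, hx1, hx2, hz01, hz02, (hz0c x hxS).symm⟩

end Cfsg.Agent.Helper21.TH
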