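import Mathlib
import Cfsg.Agent.Helper21.StabChain

set_option autoImplicit false

/-!
# `O^p` (elementwise) and Wielandt's lemma at depth two (helper21)

`ores p X` is the subgroup generated by the `p'`-elements of `X`.  It is used for the
Thompson–Wielandt theorem (`S5752`).
-/

namespace Cfsg.Agent.Helper21.TW

open Cfsg

variable {G : Type*} [Group G]

/-- `O^p(X)`: the subgroup generated by the `p'`-elements of `X`. -/
def ores (p : ℕ) (X : Subgroup G) : Subgroup G :=
  Subgroup.closure {x | x ∈ X ∧ (orderOf x).Coprime p}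

theorem ores_le (p : ℕ) (X : Subgroup G) : ores p X ≤ X := by
  unfold ores
  rw [Subgroup.closure_le]
  intro x hx
  exact hx.1

theorem ores_mono (p : ℕ) {X Y : Subgroup G} (h : X ≤ Y) : ores p X ≤ ores p Y := by
  unfold ores
  apply Subgroup.closure_mono
  intro x hx
  exact ⟨h hx.1, hx.2⟩

theorem mem_ores {p : ℕ} {X : Subgroup G} {x : G} (hx : x ∈ X) (hc : (orderOf x).Coprime p) :
    x ∈ ores p X :=
  Subgroup.subset_closure ⟨hx, hc⟩

theorem ores_ores (p : ℕ) (X : Subgroup G) : ores p (ores p X) = ores p X := by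
  apply le_antisymm (ores_le p _)
  conv_lhs => unfold ores
  rw [Subgroup.closure_le]
  intro x hx
  exact mem_ores (mem_ores hx.1 hx.2) hx.2

theorem map_conj_ores (p : ℕ) (X : Subgroup G) (g : G) :
    (ores p X).map (MulAut.conj g).toMonoidHom = ores p (X.map (MulAut.conj g).toMonoidHom) := by
  unfold ores
  rw [MonoidHom.map_closure]
  congr 1
  ext y
  have key : ∀ x : G, orderOf ((MulAut.conj g).toMonoidHom x) = orderOf x := fun x =>
    orderOf_injective (MulAut.conj g).toMonoidHom (MulAut.conj g).injective x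
  constructor
  · rintro ⟨x, ⟨hx, hc⟩, rfl⟩
    refine ⟨⟨x, hx, rfl⟩, ?_⟩
    rw [key]; exact hc
  · rintro ⟨⟨x, hx, rfl⟩, hc⟩
    refine ⟨x, ⟨hx, ?_⟩, rfl⟩
    rw [key] at hc; exact hc

theorem normalizer_le_normalizer_ores (p : ℕ) (X : Subgroup G) :
    Subgroup.normalizer (X : Set G) ≤ Subgroup.normalizer ((ores p X : Subgroup G) : Set G) := by
  intro g hg
  apply mem_normalizer_of_map_conj_eq_self
  rw [map_conj_ores, map_conj_eq_self_of_mem hg]

/-- If every element of `Y` has a `p`-power in `X`, then `O^p(Y) ≤ O^p(X)`. -/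
theorem ores_le_ores_of_pow_mem (p : ℕ) {X Y : Subgroup G}
    (h : ∀ y ∈ Y, ∃ k : ℕ, y ^ (p ^ k) ∈ X) : ores p Y ≤ ores p X := by
  conv_lhs => unfold ores
  rw [Subgroup.closure_le]
  intro y hy
  obtain ⟨k, hk⟩ := h y hy.1
  have hcop : (p ^ k).Coprime (orderOf y) := (hy.2.pow_right k).symm
  obtain ⟨m, hm⟩ := exists_pow_eq_self_of_coprime hcop
  have hy' : y ∈ X := by
    rw [← hm]
    exact X.pow_mem hk m
  exact mem_ores hy' hy.2

/-- If `O^p(X) = 1` then `X` is a `p`-group. -/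
theorem isPGroup_of_ores_eq_bot [Finite G] {p : ℕ} [hp : Fact p.Prime] {X : Subgroup G}
    (h : ores p X = ⊥) : IsPGroup p X := by
  intro g
  have hpos : orderOf (g : G) ≠ 0 := (orderOf_pos (g : G)).ne'
  obtain ⟨e, n', hn', hen⟩ := Nat.exists_eq_pow_mul_and_not_dvd hpos p hp.out.ne_one
  refine ⟨e, ?_⟩
  have h1 : ((g : G) ^ p ^ e) ^ n' = 1 := by
    rw [← pow_mul, ← hen, pow_orderOf_eq_one]
  have h2 : orderOf ((g : G) ^ p ^ e) ∣ n' := orderOf_dvd_of_pow_eq_one h1
  have h3 : (orderOf ((g : G) ^ p ^ e)).Coprime p :=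
    Nat.Coprime.coprime_dvd_left h2 ((Nat.Prime.coprime_iff_not_dvd hp.out).mpr hn').symm
  have h4 : (g : G) ^ p ^ e ∈ ores p X := mem_ores (X.pow_mem g.2 _) h3
  rw [h, Subgroup.mem_bot] at h4
  apply Subtype.ext
  simpa using h4

/-- `(x c)^n ∈ X c^n` when `c` normalizes `X`. -/
theorem exists_pow_mul_eq {X : Subgroup G} {x c : G} (hx : x ∈ X)
    (hc : c ∈ Subgroup.normalizer (X : Set G)) (n : ℕ) : ∃ x' ∈ X, (x * c) ^ n = x' * c ^ n := by
  induction n with
  | zero => exact ⟨1, X.one_mem, by simp⟩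
  | succ n ih =>
    obtain ⟨x', hx', h⟩ := ih
    have hcn : c ^ n ∈ Subgroup.normalizer (X : Set G) := Subgroup.pow_mem _ hc n
    have h1 : c ^ n * x * (c ^ n)⁻¹ ∈ X := (Subgroup.mem_normalizer_iff.mp hcn x).mp hx
    refine ⟨x' * (c ^ n * x * (c ^ n)⁻¹), X.mul_mem hx' h1, ?_⟩
    rw [pow_succ, h, pow_succ]
    group

/-- If `Y = X ⊔ I` with `I` a `p`-group normalizing `X` and normalized by `X`, every element of `Y`
has a `p`-power in `X`. -/
theorem exists_pow_mem_of_mem_sup {p : ℕ} {X I : Subgroup G} (hI : IsPGroup p I)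
    (hXI : X ≤ Subgroup.normalizer (I : Set G)) (hIX : I ≤ Subgroup.normalizer (X : Set G))
    {y : G} (hy : y ∈ X ⊔ I) : ∃ k : ℕ, y ^ (p ^ k) ∈ X := by
  have h1 : y ∈ ((X ⊔ I : Subgroup G) : Set G) := hy
  rw [Subgroup.coe_mul_of_left_le_normalizer_right X I hXI] at h1
  obtain ⟨x, hx, c, hc, rfl⟩ := h1
  obtain ⟨k, hk⟩ := hI ⟨c, hc⟩
  have hk' : c ^ p ^ k = 1 := by simpa using congrArg Subtype.val hk
  obtain ⟨x', hx', h⟩ := exists_pow_mul_eq hx (hIX hc) (p ^ k)
  refine ⟨k, ?_⟩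
  rw [h, hk', mul_one]
  exact hx'

/-- **Wielandt's lemma at depth two**: if `X ⊴ B ⊴ M` and `P` is a normal `p`-subgroup of `M`,
then `P` normalizes `O^p(X)`. -/
theorem wielandt_depth_two {p : ℕ} (X B M P : Subgroup G)
    (hXB : X ≤ B) (hBX : B ≤ Subgroup.normalizer (X : Set G)) (hBM : B ≤ M)
    (hMB : M ≤ Subgroup.normalizer (B : Set G)) (hPM : P ≤ M)
    (hMP : M ≤ Subgroup.normalizer (P : Set G)) (hP : IsPGroup p P) :
    P ≤ Subgroup.normalizer ((ores p X : Subgroup G) : Set G) := by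
  set N₀ : Subgroup G := B ⊓ (X ⊔ P) with hN₀
  have h1 : X ≤ N₀ := le_inf hXB le_sup_left
  have hXPM : X ⊔ P ≤ M := sup_le (hXB.trans hBM) hPM
  have h2 : X ⊔ P ≤ Subgroup.normalizer (N₀ : Set G) :=
    (le_inf (hXPM.trans hMB) Subgroup.le_normalizer).trans Subgroup.inf_normalizer_le_normalizer_inf
  have h3 : ∀ y ∈ N₀, ∃ k : ℕ, y ^ (p ^ k) ∈ X := by
    intro y hy
    have hyB : y ∈ B := hy.1
    have hyXP : y ∈ ((X ⊔ P : Subgroup G) : Set G) := hy.2
    rw [Subgroup.coe_mul_of_left_le_normalizer_right X P ((hXB.trans hBM).trans hMP)] at hyXP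
    obtain ⟨x, hx, c, hc, hxc⟩ := hyXP
    have hcB : c ∈ B := by
      have : c = x⁻¹ * y := by rw [← hxc]; group
      rw [this]
      exact B.mul_mem (B.inv_mem (hXB hx)) hyB
    obtain ⟨k, hk⟩ := hP ⟨c, hc⟩
    have hk' : c ^ p ^ k = 1 := by simpa using congrArg Subtype.val hk
    obtain ⟨x', hx', h⟩ := exists_pow_mul_eq hx (hBX hcB) (p ^ k)
    refine ⟨k, ?_⟩
    rw [← hxc]
    show (x * c) ^ p ^ k ∈ X
    rw [h, hk', mul_one]
    exact hx'
  have h4 : ores p N₀ = ores p X :=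
    le_antisymm (ores_le_ores_of_pow_mem p h3) (ores_mono p h1)
  have h5 : P ≤ Subgroup.normalizer ((ores p N₀ : Subgroup G) : Set G) :=
    (le_sup_right.trans h2).trans (normalizer_le_normalizer_ores p N₀)
  rw [h4] at h5
  exact h5

/-- Composition of conjugations. -/
theorem map_conj_map_conj (S : Subgroup G) (a b : G) :
    (S.map (MulAut.conj b).toMonoidHom).map (MulAut.conj a).toMonoidHom =
      S.map (MulAut.conj (a * b)).toMonoidHom := by
  rw [Subgroup.map_map]
  congr 1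
  ext x
  simp [mul_assoc]

/-- `x` normalizes `h⁻¹ L h` iff `h x h⁻¹` normalizes `L`. -/
theorem conj_mem_normalizer_of_mem_normalizer_map {L : Subgroup G} {x h : G}
    (hx : x ∈ Subgroup.normalizer ((L.map (MulAut.conj h⁻¹).toMonoidHom : Subgroup G) : Set G)) :
    h * x * h⁻¹ ∈ Subgroup.normalizer (L : Set G) := by
  apply mem_normalizer_of_map_conj_eq_self
  have h1 := map_conj_eq_self_of_mem hx
  rw [map_conj_map_conj] at h1
  have h2 := congrArg (fun S : Subgroup G => S.map (MulAut.conj h).toMonoidHom) h1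
  simp only [map_conj_map_conj] at h2
  have e1 : h * (x * h⁻¹) = h * x * h⁻¹ := by group
  have e2 : h * h⁻¹ = 1 := by group
  rw [e1, e2] at h2
  rw [h2]
  ext y
  simp

/-- A finite subgroup mapped into itself by a conjugation is normalized by the element. -/
theorem mem_normalizer_of_map_conj_le [Finite G] {S : Subgroup G} {x : G}
    (h : S.map (MulAut.conj x).toMonoidHom ≤ S) : x ∈ Subgroup.normalizer (S : Set G) := by
  apply mem_normalizer_of_map_conj_eq_self
  apply Subgroup.eq_of_le_of_card_ge h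
  rw [Subgroup.card_map_of_injective (MulAut.conj x).injective]

/-- The core step: if `x` normalizes the `p`-group `I ≤ C`, `Z' ⊴ C`, `C` normalizes `I`, and `x`
moves every element of `O^p(Z')` by an element of `I`, then `x` normalizes `O^p(Z')`. -/
theorem mem_normalizer_ores_of_commutator_mem [Finite G] {p : ℕ} (Z' C I : Subgroup G) (x : G)
    (hZC : Z' ≤ C) (hCZ : C ≤ Subgroup.normalizer (Z' : Set G)) (hIC : I ≤ C)
    (hCI : C ≤ Subgroup.normalizer (I : Set G)) (hI : IsPGroup p I)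
    (hxI : x ∈ Subgroup.normalizer (I : Set G))
    (hcomm : ∀ l ∈ ores p Z', x * l * x⁻¹ * l⁻¹ ∈ I) :
    x ∈ Subgroup.normalizer ((ores p Z' : Subgroup G) : Set G) := by
  set L' := ores p Z' with hL'
  have hL'C : L' ≤ C := (ores_le p Z').trans hZC
  have hCL' : C ≤ Subgroup.normalizer (L' : Set G) := hCZ.trans (normalizer_le_normalizer_ores p Z')
  set Lp : Subgroup G := L' ⊔ I with hLp
  have h1 : Lp.map (MulAut.conj x).toMonoidHom ≤ Lp := by
    rw [hLp, Subgroup.map_sup]
    apply sup_le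
    · rintro _ ⟨l, hl, rfl⟩
      have : (MulAut.conj x).toMonoidHom l = (x * l * x⁻¹ * l⁻¹) * l := by
        simp [mul_assoc]
      rw [this]
      exact Subgroup.mul_mem _ (Subgroup.mem_sup_right (hcomm l hl)) (Subgroup.mem_sup_left hl)
    · rw [map_conj_eq_self_of_mem hxI]
      exact le_sup_right
  have h2 : x ∈ Subgroup.normalizer (Lp : Set G) := mem_normalizer_of_map_conj_le h1
  have h3 : ores p Lp = L' := by
    apply le_antisymm
    · have := ores_le_ores_of_pow_mem p (X := L') (Y := Lp) (fun y hy =>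
        exists_pow_mem_of_mem_sup hI (hL'C.trans hCI) (hIC.trans hCL') hy)
      rwa [hL', ores_ores] at this
    · have := ores_mono p (le_sup_left : L' ≤ Lp)
      rwa [hL', ores_ores] at this
  have h4 := normalizer_le_normalizer_ores p Lp h2
  rwa [h3] at h4

end Cfsg.Agent.Helper21.TW
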