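import Mathlib
import Cfsg.Agent.Helper21.TW1
import Cfsg.Agent.Helper31.CharPChain
import Cfsg.Agent.Helper46.SylowIn
import Cfsg.Agent.Helper22.Conj
import Cfsg.Agent.Helper21.Components
import Cfsg.Agent.S1441

set_option autoImplicit false

/-!
# The two engines of the Thompson–Wielandt theorem (helper21)

* `isPGroup_second_core`: if `O_p(M) ≠ 1` then the second core `Z` is a `p`-group;
* `centralizer_pCoreOf_le`: `C_G(O_p(A₁)) ≤ O_p(A₁)` by the stability argument.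
-/

namespace Cfsg.Agent.Helper21.TW

open Cfsg
open scoped commutatorElement

variable {G : Type*} [Group G]

theorem isPGroup_second_core [Finite G] {p : ℕ} [Fact p.Prime] (M N Z C P Q : Subgroup G)
    (hMP : ∀ X : Subgroup G, X ≠ ⊥ → X ≤ M → M ≤ Subgroup.normalizer (X : Set G) →
      Subgroup.normalizer (X : Set G) ≤ M)
    (hNP : ∀ X : Subgroup G, X ≠ ⊥ → X ≤ N → N ≤ Subgroup.normalizer (X : Set G) →
      Subgroup.normalizer (X : Set G) ≤ N)
    (hnc : ∀ X : Subgroup G, X ≤ M → M ≤ Subgroup.normalizer (X : Set G) →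
      N ≤ Subgroup.normalizer (X : Set G) → X = ⊥)
    (hZM : M ≤ Subgroup.normalizer (Z : Set G)) (hZC : Z ≤ C) (hCM : C ≤ M) (hCN : C ≤ N)
    (hNC : N ≤ Subgroup.normalizer (C : Set G))
    (hCcore : ∀ x ∈ N, (∀ h ∈ N, h * x * h⁻¹ ∈ M) → x ∈ C)
    (hP : IsPGroup p P) (hPM : P ≤ M) (hMnP : M ≤ Subgroup.normalizer (P : Set G))
    (hQ : IsPGroup p Q) (hQN : Q ≤ N) (hNnQ : N ≤ Subgroup.normalizer (Q : Set G))
    (hQmax : ∀ I : Subgroup G, I ≤ C → IsPGroup p I → C ≤ Subgroup.normalizer (I : Set G) → I ≤ Q)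
    (hcard : Nat.card P = Nat.card Q) (hPne : P ≠ ⊥) : IsPGroup p Z := by
  by_contra hZ
  have hL : ores p Z ≠ ⊥ := fun h => hZ (isPGroup_of_ores_eq_bot h)
  have hLZ : ores p Z ≤ Z := ores_le p Z
  have hLM : ores p Z ≤ M := hLZ.trans (hZC.trans hCM)
  have hML : M ≤ Subgroup.normalizer ((ores p Z : Subgroup G) : Set G) :=
    hZM.trans (normalizer_le_normalizer_ores p Z)
  have hNL : Subgroup.normalizer ((ores p Z : Subgroup G) : Set G) ≤ M := hMP _ hL hLM hML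
  -- Step A: `Q ≤ M`
  have hQM : Q ≤ M :=
    (wielandt_depth_two Z C N Q hZC (hCM.trans hZM) hCN hNC hQN hNnQ hQ).trans hNL
  -- the `p`-group `I = P ⊓ C`
  have hIC : P ⊓ C ≤ C := inf_le_right
  have hCI : C ≤ Subgroup.normalizer ((P ⊓ C : Subgroup G) : Set G) :=
    (le_inf (hCM.trans hMnP) Subgroup.le_normalizer).trans Subgroup.inf_normalizer_le_normalizer_inf
  have hI : IsPGroup p ↥(P ⊓ C) := hP.to_le inf_le_left
  -- Step B: `P ⊓ N ≤ C`
  have hB : P ⊓ N ≤ C := by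
    intro x hx
    apply hCcore x hx.2
    intro h hh
    apply hNL
    apply conj_mem_normalizer_of_mem_normalizer_map
    rw [map_conj_ores]
    have hinv : h⁻¹ ∈ N := N.inv_mem hh
    have hCconj : C.map (MulAut.conj h⁻¹).toMonoidHom = C := map_conj_eq_self_of_mem (hNC hinv)
    have hZ'C : Z.map (MulAut.conj h⁻¹).toMonoidHom ≤ C := by
      rw [← hCconj]; exact Subgroup.map_mono hZC
    have hCZ' : C ≤ Subgroup.normalizer
        ((Z.map (MulAut.conj h⁻¹).toMonoidHom : Subgroup G) : Set G) := by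
      have h1 : C.map (MulAut.conj h⁻¹).toMonoidHom ≤
          (Subgroup.normalizer (Z : Set G)).map (MulAut.conj h⁻¹).toMonoidHom :=
        Subgroup.map_mono (hCM.trans hZM)
      rw [hCconj, Subgroup.map_equiv_normalizer_eq] at h1
      exact h1
    have hxI : x ∈ Subgroup.normalizer ((P ⊓ C : Subgroup G) : Set G) :=
      Subgroup.inf_normalizer_le_normalizer_inf ⟨Subgroup.le_normalizer hx.1, hNC hx.2⟩
    apply mem_normalizer_ores_of_commutator_mem _ C (P ⊓ C) x hZ'C hCZ' hIC hCI hI hxI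
    intro l hl
    have hlC : l ∈ C := hZ'C (ores_le p _ hl)
    constructor
    · have h1 : l * x⁻¹ * l⁻¹ ∈ P :=
        (Subgroup.mem_normalizer_iff.mp (hMnP (hCM hlC)) x⁻¹).mp (P.inv_mem hx.1)
      have h2 : x * l * x⁻¹ * l⁻¹ = x * (l * x⁻¹ * l⁻¹) := by group
      rw [h2]
      exact P.mul_mem hx.1 h1
    · have h1 : x * l * x⁻¹ ∈ C := (Subgroup.mem_normalizer_iff.mp (hNC hx.2) l).mp hlC
      exact C.mul_mem h1 (C.inv_mem hlC)
  -- Step C: `P ⊓ N ≤ Q`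
  have hPNQ : P ⊓ N ≤ Q := fun x hx => hQmax (P ⊓ C) hIC hI hCI ⟨hx.1, hB hx⟩
  -- Step D
  have hQne : Q ≠ ⊥ := by
    intro h
    apply hPne
    apply Subgroup.eq_bot_of_card_eq
    rw [hcard, h, Subgroup.card_bot]
  have hNQ : Subgroup.normalizer (Q : Set G) ≤ N := hNP Q hQne hQN hNnQ
  have hT : IsPGroup p ↥(P ⊔ Q) := hP.to_sup_of_normal_left' hQ (hQM.trans hMnP)
  have hQT : Q = P ⊔ Q := by
    by_contra hne
    obtain ⟨t, ht, htQ⟩ := Cfsg.Agent.Helper31.exists_mem_normalizer_not_mem' hT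
      (le_sup_right : Q ≤ P ⊔ Q) hne
    have htN : t ∈ N := hNQ ht.2
    have ht' : t ∈ ((P ⊔ Q : Subgroup G) : Set G) := ht.1
    rw [Subgroup.coe_mul_of_right_le_normalizer_left P Q (hQM.trans hMnP)] at ht'
    obtain ⟨a, ha, b, hb, hab⟩ := ht'
    have haN : a ∈ N := by
      have : a = t * b⁻¹ := by rw [← hab]; group
      rw [this]
      exact N.mul_mem htN (N.inv_mem (hQN hb))
    apply htQ
    rw [← hab]
    exact Q.mul_mem (hPNQ ⟨ha, haN⟩) hb
  have hPQ : P ≤ Q := by rw [hQT]; exact le_sup_left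
  have hPeq : P = Q := Subgroup.eq_of_le_of_card_ge hPQ (le_of_eq hcard.symm)
  apply hPne
  apply hnc P hPM hMnP
  rw [hPeq]
  exact hNnQ

/-- `O_p(H)` (in the ambient group) is normalized by `N_G(H)`. -/
theorem normalizer_le_normalizer_pCoreOf [Finite G] {p : ℕ} [Fact p.Prime] (H : Subgroup G) :
    Subgroup.normalizer (H : Set G) ≤ Subgroup.normalizer ((pCoreOf p H : Subgroup G) : Set G) := by
  intro g hg
  apply mem_normalizer_of_map_conj_le
  apply Cfsg.Agent.Helper46.le_pCoreOf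
  · have := Subgroup.map_mono (f := (MulAut.conj g).toMonoidHom)
      (Cfsg.Agent.Helper46.pCoreOf_le (p := p) H)
    rwa [map_conj_eq_self_of_mem hg] at this
  · exact (Cfsg.Agent.Helper46.pCoreOf_isPGroup H).map _
  · have h1 : H.map (MulAut.conj g).toMonoidHom ≤
        (Subgroup.normalizer ((pCoreOf p H : Subgroup G) : Set G)).map (MulAut.conj g).toMonoidHom :=
      Subgroup.map_mono (Cfsg.Agent.Helper46.pCoreOf_normalized H)
    rw [map_conj_eq_self_of_mem hg, Subgroup.map_equiv_normalizer_eq] at h1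
    exact h1

/-- Two-step stability: an element of order prime to `|H|` stabilizing `H ≥ K ≥ 1` centralizes `H`. -/
theorem centralizes_of_two_step [Finite G] (H K A : Subgroup G) (hKH : K ≤ H)
    (h1 : ⁅H, A⁆ ≤ K) (h2 : ⁅K, A⁆ ≤ ⊥) (a : G) (ha : a ∈ A)
    (hcop : (orderOf a).Coprime (Nat.card H)) : ∀ h ∈ H, h * a = a * h := by
  have hanti : Antitone (![H, K, ⊥] : Fin 3 → Subgroup G) := by
    rw [Fin.antitone_iff_succ_le]
    intro i
    fin_cases i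
    · simpa using hKH
    · simp
  have htriv : ∀ i : Fin 2, ⁅(![H, K, ⊥] : Fin 3 → Subgroup G) i.castSucc, A⁆ ≤
      (![H, K, ⊥] : Fin 3 → Subgroup G) i.succ := by
    intro i
    fin_cases i
    · simpa using h1
    · simpa using h2
  exact Cfsg.Agent.S1441.stab_chain_centralizes H A 2 ![H, K, ⊥] rfl rfl hanti htriv a ha hcop 0

/-- One direction of the stability argument: the `p'`-elements of `C_G(O_p(A₁))` centralize
`O_p(B₁)`. -/
theorem coprime_mem_centralizer_of_stability [Finite G] {p : ℕ} [Fact p.Prime]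
    (M N A₁ B₁ : Subgroup G)
    (hA₁M : A₁ ≤ M) (hA₁N : A₁ ≤ N) (hB₁M : B₁ ≤ M)
    (hNB₁ : N ≤ Subgroup.normalizer (B₁ : Set G))
    (hYA₁ : Subgroup.centralizer ((pCoreOf p A₁ : Subgroup G) : Set G) ≤ A₁)
    (hMY : M ≤ Subgroup.normalizer
      ((Subgroup.centralizer ((pCoreOf p A₁ : Subgroup G) : Set G) : Subgroup G) : Set G))
    (y : G) (hy : y ∈ Subgroup.centralizer ((pCoreOf p A₁ : Subgroup G) : Set G))
    (hcop : (orderOf y).Coprime p) :
    y ∈ Subgroup.centralizer ((pCoreOf p B₁ : Subgroup G) : Set G) := by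
  set U₁ := pCoreOf p A₁ with hU₁
  set U₂ := pCoreOf p B₁ with hU₂
  set Y := Subgroup.centralizer (U₁ : Set G) with hY
  have hU₂p : IsPGroup p U₂ := Cfsg.Agent.Helper46.pCoreOf_isPGroup B₁
  have hNU₂ : N ≤ Subgroup.normalizer (U₂ : Set G) :=
    hNB₁.trans (normalizer_le_normalizer_pCoreOf B₁)
  have hU₂B : U₂ ≤ B₁ := Cfsg.Agent.Helper46.pCoreOf_le B₁
  have hYnU₂ : Y ≤ Subgroup.normalizer (U₂ : Set G) := (hYA₁.trans hA₁N).trans hNU₂
  have hU₂nY : U₂ ≤ Subgroup.normalizer (Y : Set G) := (hU₂B.trans hB₁M).trans hMY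
  have hKU₁ : U₂ ⊓ Y ≤ U₁ := by
    apply Cfsg.Agent.Helper46.le_pCoreOf (inf_le_right.trans hYA₁) (hU₂p.to_le inf_le_left)
    exact (le_inf (hA₁N.trans hNU₂) (hA₁M.trans hMY)).trans
      Subgroup.inf_normalizer_le_normalizer_inf
  have hc1 : ⁅U₂, Y⁆ ≤ U₂ ⊓ Y := by
    apply le_inf (commutator_le_of_le_normalizer hYnU₂)
    rw [Subgroup.commutator_comm]
    exact commutator_le_of_le_normalizer hU₂nY
  have hc2 : ⁅U₂ ⊓ Y, Y⁆ ≤ ⊥ := by
    have h0 : ⁅Y, U₁⁆ = ⊥ := Subgroup.commutator_eq_bot_iff_le_centralizer.mpr le_rfl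
    calc ⁅U₂ ⊓ Y, Y⁆ ≤ ⁅U₁, Y⁆ := Subgroup.commutator_mono hKU₁ le_rfl
      _ = ⁅Y, U₁⁆ := Subgroup.commutator_comm _ _
      _ = ⊥ := h0
      _ ≤ ⊥ := le_rfl
  obtain ⟨k, hk⟩ := hU₂p.exists_card_eq
  have hcop' : (orderOf y).Coprime (Nat.card U₂) := by
    rw [hk]; exact hcop.pow_right k
  have := centralizes_of_two_step U₂ (U₂ ⊓ Y) Y inf_le_left hc1 hc2 y hy hcop'
  rw [Subgroup.mem_centralizer_iff]
  intro h hh
  exact this h hh

/-- **The stability argument.** -/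
theorem centralizer_pCoreOf_le [Finite G] {p : ℕ} [Fact p.Prime] (M N A₁ B₁ V V' : Subgroup G)
    (hMP : ∀ X : Subgroup G, X ≠ ⊥ → X ≤ M → M ≤ Subgroup.normalizer (X : Set G) →
      Subgroup.normalizer (X : Set G) ≤ M)
    (hNP : ∀ X : Subgroup G, X ≠ ⊥ → X ≤ N → N ≤ Subgroup.normalizer (X : Set G) →
      Subgroup.normalizer (X : Set G) ≤ N)
    (hnc : ∀ X : Subgroup G, X ≤ M → M ≤ Subgroup.normalizer (X : Set G) →
      N ≤ Subgroup.normalizer (X : Set G) → X = ⊥)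
    (hA₁M : A₁ ≤ M) (hA₁N : A₁ ≤ N) (hMA₁ : M ≤ Subgroup.normalizer (A₁ : Set G))
    (hA₁core : ∀ X : Subgroup G, X ≤ M → X ≤ N → M ≤ Subgroup.normalizer (X : Set G) → X ≤ A₁)
    (hB₁M : B₁ ≤ M) (hB₁N : B₁ ≤ N) (hNB₁ : N ≤ Subgroup.normalizer (B₁ : Set G))
    (hB₁core : ∀ X : Subgroup G, X ≤ M → X ≤ N → N ≤ Subgroup.normalizer (X : Set G) → X ≤ B₁)
    (hV : V ≠ ⊥) (hVp : IsPGroup p V) (hVB₁ : V ≤ B₁) (hMV : M ≤ Subgroup.normalizer (V : Set G))
    (hV' : V' ≠ ⊥) (hV'p : IsPGroup p V') (hV'A₁ : V' ≤ A₁)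
    (hNV' : N ≤ Subgroup.normalizer (V' : Set G)) :
    Subgroup.centralizer ((pCoreOf p A₁ : Subgroup G) : Set G) ≤ pCoreOf p A₁ ∧
    Subgroup.centralizer ((pCoreOf p B₁ : Subgroup G) : Set G) ≤ pCoreOf p B₁ := by
  set U₁ := pCoreOf p A₁ with hU₁
  set U₂ := pCoreOf p B₁ with hU₂
  have hU₁A : U₁ ≤ A₁ := Cfsg.Agent.Helper46.pCoreOf_le A₁
  have hU₂B : U₂ ≤ B₁ := Cfsg.Agent.Helper46.pCoreOf_le B₁
  have hMU₁ : M ≤ Subgroup.normalizer (U₁ : Set G) :=
    hMA₁.trans (normalizer_le_normalizer_pCoreOf A₁)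
  have hNU₂ : N ≤ Subgroup.normalizer (U₂ : Set G) :=
    hNB₁.trans (normalizer_le_normalizer_pCoreOf B₁)
  have hVU₂ : V ≤ U₂ := Cfsg.Agent.Helper46.le_pCoreOf hVB₁ hVp (hB₁M.trans hMV)
  have hV'U₁ : V' ≤ U₁ := Cfsg.Agent.Helper46.le_pCoreOf hV'A₁ hV'p (hA₁N.trans hNV')
  have hU₁ne : U₁ ≠ ⊥ := ne_bot_of_le_ne_bot hV' hV'U₁
  have hU₂ne : U₂ ≠ ⊥ := ne_bot_of_le_ne_bot hV hVU₂
  set Y := Subgroup.centralizer (U₁ : Set G) with hY
  set Y' := Subgroup.centralizer (U₂ : Set G) with hY'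
  have hYM : Y ≤ M :=
    (Subgroup.centralizer_le_normalizer _).trans (hMP U₁ hU₁ne (hU₁A.trans hA₁M) hMU₁)
  have hYN : Y ≤ N :=
    (Subgroup.centralizer_le hV'U₁).trans
      ((Subgroup.centralizer_le_normalizer _).trans (hNP V' hV' (hV'A₁.trans hA₁N) hNV'))
  have hMY : M ≤ Subgroup.normalizer (Y : Set G) :=
    hMU₁.trans (Cfsg.Agent.Helper22.normalizer_le_normalizer_centralizer U₁)
  have hYA₁ : Y ≤ A₁ := hA₁core Y hYM hYN hMY
  have hY'N : Y' ≤ N :=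
    (Subgroup.centralizer_le_normalizer _).trans (hNP U₂ hU₂ne (hU₂B.trans hB₁N) hNU₂)
  have hY'M : Y' ≤ M :=
    (Subgroup.centralizer_le hVU₂).trans
      ((Subgroup.centralizer_le_normalizer _).trans (hMP V hV (hVB₁.trans hB₁M) hMV))
  have hNY' : N ≤ Subgroup.normalizer (Y' : Set G) :=
    hNU₂.trans (Cfsg.Agent.Helper22.normalizer_le_normalizer_centralizer U₂)
  have hY'B₁ : Y' ≤ B₁ := hB₁core Y' hY'M hY'N hNY'
  have hdir1 : ∀ y ∈ Y, (orderOf y).Coprime p → y ∈ Y' := fun y hy hc =>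
    coprime_mem_centralizer_of_stability M N A₁ B₁ hA₁M hA₁N hB₁M hNB₁ hYA₁ hMY y hy hc
  have hdir2 : ∀ y ∈ Y', (orderOf y).Coprime p → y ∈ Y := fun y hy hc =>
    coprime_mem_centralizer_of_stability N M B₁ A₁ hB₁N hB₁M hA₁N hMA₁ hY'B₁ hNY' y hy hc
  have heq : ores p Y = ores p Y' := by
    apply le_antisymm
    · conv_lhs => unfold ores
      rw [Subgroup.closure_le]
      intro y hy
      exact mem_ores (hdir1 y hy.1 hy.2) hy.2
    · conv_lhs => unfold ores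
      rw [Subgroup.closure_le]
      intro y hy
      exact mem_ores (hdir2 y hy.1 hy.2) hy.2
  have hbot : ores p Y = ⊥ := by
    apply hnc (ores p Y) ((ores_le p Y).trans hYM) (hMY.trans (normalizer_le_normalizer_ores p Y))
    rw [heq]
    exact hNY'.trans (normalizer_le_normalizer_ores p Y')
  have hbot' : ores p Y' = ⊥ := heq ▸ hbot
  constructor
  · exact Cfsg.Agent.Helper46.le_pCoreOf hYA₁ (isPGroup_of_ores_eq_bot hbot) (hA₁M.trans hMY)
  · exact Cfsg.Agent.Helper46.le_pCoreOf hY'B₁ (isPGroup_of_ores_eq_bot hbot') (hB₁N.trans hNY')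

end Cfsg.Agent.Helper21.TW
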