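import Mathlib
import Cfsg.Agent.Helper21.TW2
import Cfsg.Agent.Helper31.BenderPair
import Cfsg.Agent.Helper49.FStar
import Cfsg.Agent.Helper71.Fitting

set_option autoImplicit false

/-!
# The Thompson–Wielandt theorem in Thompson's iterated-core form (helper21)
-/

namespace Cfsg.Agent.Helper21.TW

open Cfsg
open scoped commutatorElement

variable {G : Type*} [Group G]

/-- The core in `M` of `Y` (as a subgroup of `G`). -/
def coreIn (M Y : Subgroup G) : Subgroup G := ((Y.subgroupOf M).normalCore).map M.subtype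

theorem coreIn_le_left (M Y : Subgroup G) : coreIn M Y ≤ M := Subgroup.map_subtype_le _

theorem coreIn_le_right (M Y : Subgroup G) : coreIn M Y ≤ Y := by
  rintro _ ⟨a, ha, rfl⟩
  exact Subgroup.mem_subgroupOf.mp (Subgroup.normalCore_le _ ha)

theorem coreIn_normalized (M Y : Subgroup G) :
    M ≤ Subgroup.normalizer ((coreIn M Y : Subgroup G) : Set G) := by
  apply le_normalizer_of_map_conj_le
  rintro b hb _ ⟨_, ⟨a, ha, rfl⟩, rfl⟩
  exact ⟨⟨b, hb⟩ * a * ⟨b, hb⟩⁻¹,
    (Subgroup.normalCore_normal (Y.subgroupOf M)).conj_mem a ha ⟨b, hb⟩, by simp⟩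

theorem mem_coreIn_of_conj {M Y : Subgroup G} {x : G} (hx : x ∈ M)
    (h : ∀ b ∈ M, b * x * b⁻¹ ∈ Y) : x ∈ coreIn M Y := by
  refine ⟨⟨x, hx⟩, ?_, rfl⟩
  intro b
  rw [Subgroup.mem_subgroupOf]
  simpa using h b b.2

theorem le_coreIn {M Y X : Subgroup G} (hXM : X ≤ M) (hXY : X ≤ Y)
    (hn : M ≤ Subgroup.normalizer (X : Set G)) : X ≤ coreIn M Y := by
  intro x hx
  apply mem_coreIn_of_conj (hXM hx)
  intro b hb
  exact hXY ((Subgroup.mem_normalizer_iff.mp (hn hb) x).mp hx)

/-- primitivity: normal subgroups of a core-free maximal subgroup have that subgroup as normalizer -/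
theorem normalizer_le_of_isCoatom {M : Subgroup G} (hM : IsCoatom M) (hcore : M.normalCore = ⊥)
    (X : Subgroup G) (hX : X ≠ ⊥) (hXM : X ≤ M) (hn : M ≤ Subgroup.normalizer (X : Set G)) :
    Subgroup.normalizer (X : Set G) ≤ M := by
  by_contra h
  have hlt : M < Subgroup.normalizer (X : Set G) := lt_of_le_not_ge hn h
  have htop := hM.2 _ hlt
  haveI : X.Normal := Subgroup.normalizer_eq_top_iff.mp htop
  have : X ≤ M.normalCore := Subgroup.normal_le_normalCore.mpr hXM
  rw [hcore] at this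
  exact hX (le_bot_iff.mp this)

/-- The layer of `M` normalizes a subgroup that is subnormal in `M` via `V' ⊴ A₁ ⊴ M`. -/
theorem layer_map_le_normalizer (M A₁ V' : Subgroup G) (hA₁M : A₁ ≤ M)
    (hMA₁ : M ≤ Subgroup.normalizer (A₁ : Set G)) (hV'A₁ : V' ≤ A₁)
    (hA₁V' : A₁ ≤ Subgroup.normalizer (V' : Set G)) :
    (layer ↥M).map M.subtype ≤ Subgroup.normalizer (V' : Set G) := by
  have hK : (A₁.subgroupOf M).Normal :=
    (Subgroup.normal_subgroupOf_iff_le_normalizer hA₁M).mpr hMA₁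
  have hHK : V'.subgroupOf M ≤ A₁.subgroupOf M := by
    intro x hx
    rw [Subgroup.mem_subgroupOf] at hx ⊢
    exact hV'A₁ hx
  have hKn : A₁.subgroupOf M ≤ Subgroup.normalizer ((V'.subgroupOf M : Subgroup ↥M) : Set ↥M) := by
    intro k hk
    rw [Subgroup.mem_subgroupOf] at hk
    have hk' := hA₁V' hk
    rw [Subgroup.mem_normalizer_iff] at hk' ⊢
    intro h
    rw [Subgroup.mem_subgroupOf, Subgroup.mem_subgroupOf]
    simpa using hk' (h : G)
  have hN : ((V'.subgroupOf M).subgroupOf (A₁.subgroupOf M)).Normal :=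
    (Subgroup.normal_subgroupOf_iff_le_normalizer hHK).mpr hKn
  have hsub : (V'.subgroupOf M).IsSubnormal :=
    Subgroup.IsSubnormal.step _ _ hHK hK.isSubnormal hN
  have hlayer : layer ↥M ≤ Subgroup.normalizer ((V'.subgroupOf M : Subgroup ↥M) : Set ↥M) := by
    unfold layer
    apply sSup_le
    intro L hL
    rcases IsComponent.le_or_commutator_eq_bot_of_isSubnormal hL hsub with h | h
    · exact h.trans Subgroup.le_normalizer
    · exact (Subgroup.commutator_eq_bot_iff_le_centralizer.mp h).trans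
        (Subgroup.centralizer_le_normalizer _)
  apply le_normalizer_of_map_conj_le
  rintro _ ⟨x, hx, rfl⟩ _ ⟨v, hv, rfl⟩
  have hvM : v ∈ M := hA₁M (hV'A₁ hv)
  have h1 := (Subgroup.mem_normalizer_iff.mp (hlayer hx) ⟨v, hvM⟩).mp
    (Subgroup.mem_subgroupOf.mpr hv)
  rw [Subgroup.mem_subgroupOf] at h1
  simpa using h1

/-- If the Fitting subgroups of `M` and `N` are trivial, the Thompson–Wielandt configuration is
impossible (Bender pair argument). -/
theorem false_of_fitting_trivial [Finite G] (M N A₁ B₁ V V' : Subgroup G) (hne : M ≠ N)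
    (hMP : ∀ X : Subgroup G, X ≠ ⊥ → X ≤ M → M ≤ Subgroup.normalizer (X : Set G) →
      Subgroup.normalizer (X : Set G) ≤ M)
    (hNP : ∀ X : Subgroup G, X ≠ ⊥ → X ≤ N → N ≤ Subgroup.normalizer (X : Set G) →
      Subgroup.normalizer (X : Set G) ≤ N)
    (hA₁M : A₁ ≤ M) (hA₁N : A₁ ≤ N) (hMA₁ : M ≤ Subgroup.normalizer (A₁ : Set G))
    (hB₁M : B₁ ≤ M) (hB₁N : B₁ ≤ N) (hNB₁ : N ≤ Subgroup.normalizer (B₁ : Set G))
    (hV : V ≠ ⊥) (hVB₁ : V ≤ B₁) (hMV : M ≤ Subgroup.normalizer (V : Set G))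
    (hV' : V' ≠ ⊥) (hV'A₁ : V' ≤ A₁) (hNV' : N ≤ Subgroup.normalizer (V' : Set G))
    (hFM : fittingSubgroup ↥M = ⊥) (hFN : fittingSubgroup ↥N = ⊥) : False := by
  have hEM : (layer ↥M).map M.subtype ≤ N :=
    (layer_map_le_normalizer M A₁ V' hA₁M hMA₁ hV'A₁ (hA₁N.trans hNV')).trans
      (hNP V' hV' (hV'A₁.trans hA₁N) hNV')
  have hEN : (layer ↥N).map N.subtype ≤ M :=
    (layer_map_le_normalizer N B₁ V hB₁N hNB₁ hVB₁ (hB₁M.trans hMV)).trans
      (hMP V hV (hVB₁.trans hB₁M) hMV)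
  have hbp : Cfsg.Agent.Helper31.BPair M N := by
    refine ⟨hne, ?_, ?_, ?_, ?_⟩
    · intro A hA hAle hn
      exact inf_le_right.trans (hMP A hA (hAle.trans inf_le_left) hn)
    · intro A hA hAle hn
      exact inf_le_right.trans (hNP A hA (hAle.trans inf_le_right) hn)
    · show (generalizedFittingSubgroup ↥M).map M.subtype ≤ N
      unfold generalizedFittingSubgroup
      rw [hFM, sup_bot_eq]
      exact hEM
    · show (generalizedFittingSubgroup ↥N).map N.subtype ≤ M
      unfold generalizedFittingSubgroup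
      rw [hFN, sup_bot_eq]
      exact hEN
  have hl : layer ↥M = ⊥ := hbp.layer_eq_bot
  have hg : generalizedFittingSubgroup ↥M = ⊥ := by
    unfold generalizedFittingSubgroup
    rw [hFM, hl, sup_bot_eq]
  have hMbot : M = ⊥ := Cfsg.Agent.Helper31.eq_bot_of_generalizedFittingSubgroup_eq_bot hg
  apply hV
  rw [eq_bot_iff]
  exact (hVB₁.trans hB₁M).trans (le_of_eq hMbot)

/-- `F*(H) = O_p(H)` as soon as a self-centralizing (in `G`) subgroup lies in `O_p(H)`. -/
theorem gfs_eq_pCore_of_centralizer_le [Finite G] {p : ℕ} [Fact p.Prime] (H U : Subgroup G)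
    (hU : U ≤ pCoreOf p H) (hc : Subgroup.centralizer (U : Set G) ≤ U) :
    generalizedFittingSubgroup ↥H = pCore p ↥H := by
  apply (Cfsg.Agent.Helper49.gfs_eq_pCore_iff).mpr
  intro x hx
  have hxc : (x : G) ∈ Subgroup.centralizer (U : Set G) := by
    rw [Subgroup.mem_centralizer_iff]
    intro u hu
    obtain ⟨u', hu', rfl⟩ := hU hu
    have := (Subgroup.mem_centralizer_iff.mp hx) u' hu'
    exact congrArg Subtype.val this
  obtain ⟨y, hy, hyx⟩ := hU (hc hxc)
  have : y = x := Subtype.ext hyx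
  rw [← this]
  exact hy

end Cfsg.Agent.Helper21.TW
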