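import Mathlib
import Cfsg.Agent.Helper21.TW3

set_option autoImplicit false

/-!
# The Thompson–Wielandt theorem: assembly (helper21)
-/

namespace Cfsg.Agent.Helper21.TW

open Cfsg
open scoped commutatorElement

variable {G : Type*} [Group G]

theorem card_pCoreOf_eq_of_equiv [Finite G] {p : ℕ} [Fact p.Prime] (M N : Subgroup G) (e : ↥M ≃* ↥N) :
    Nat.card ↥(pCoreOf p M) = Nat.card ↥(pCoreOf p N) := by
  unfold pCoreOf
  rw [Subgroup.card_map_of_injective M.subtype_injective,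
    Subgroup.card_map_of_injective N.subtype_injective,
    ← Cfsg.Agent.Helper46.pCore_map_equiv e, Subgroup.card_map_of_injective e.injective]

theorem pCoreOf_mono_of_normal [Finite G] {p : ℕ} [Fact p.Prime] {B M : Subgroup G} (hBM : B ≤ M)
    (hMB : M ≤ Subgroup.normalizer (B : Set G)) : pCoreOf p B ≤ pCoreOf p M :=
  Cfsg.Agent.Helper46.le_pCoreOf ((Cfsg.Agent.Helper46.pCoreOf_le B).trans hBM)
    (Cfsg.Agent.Helper46.pCoreOf_isPGroup B) (hMB.trans (normalizer_le_normalizer_pCoreOf B))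

theorem thompson_wielandt [Finite G] (M₁ M₂ : Subgroup G) (hmax : IsCoatom M₁) (g : G)
    (hconj : M₂ = M₁.map (MulAut.conj g).toMonoidHom) (hne : M₁ ≠ M₂) (hcore : M₁.normalCore = ⊥)
    (A₁ B₁ A₂ B₂ : Subgroup G)
    (hA₁ : A₁ = coreIn M₁ (M₁ ⊓ M₂)) (hB₁ : B₁ = coreIn M₂ (M₁ ⊓ M₂))
    (hA₂ : A₂ = coreIn M₁ (A₁ ⊓ B₁)) (hB₂ : B₂ = coreIn M₂ (A₁ ⊓ B₁))
    (hA2 : A₂ ≠ ⊥) (hB2 : B₂ ≠ ⊥) :
    ∃ p : ℕ, p.Prime ∧ IsPGroup p ↥(A₂ ⊔ B₂) ∧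
      generalizedFittingSubgroup ↥M₁ = pCore p ↥M₁ ∧ generalizedFittingSubgroup ↥A₁ = pCore p ↥A₁ ∧
      generalizedFittingSubgroup ↥M₂ = pCore p ↥M₂ ∧ generalizedFittingSubgroup ↥B₁ = pCore p ↥B₁ := by
  -- the isomorphism `M₁ ≃* M₂`
  have e : ↥M₁ ≃* ↥M₂ := by
    rw [hconj]
    exact Subgroup.equivMapOfInjective M₁ (MulAut.conj g).toMonoidHom (MulAut.conj g).injective
  -- `M₂` is maximal and core-free
  have hmax₂ : IsCoatom M₂ := by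
    rw [hconj]
    exact (OrderIso.isCoatom_iff (MulEquiv.mapSubgroup (MulAut.conj g)) M₁).mpr hmax
  have hcore₂ : M₂.normalCore = ⊥ := by
    rw [eq_bot_iff, ← hcore]
    intro x hx b
    have h1 : g * b * x * (g * b)⁻¹ ∈ M₂ := hx (g * b)
    rw [hconj] at h1
    obtain ⟨m, hm, hmx⟩ := h1
    have h2 : g * m * g⁻¹ = g * b * x * (g * b)⁻¹ := by simpa using hmx
    have h3 : m = b * x * b⁻¹ := by
      calc m = g⁻¹ * (g * m * g⁻¹) * g := by group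
        _ = g⁻¹ * (g * b * x * (g * b)⁻¹) * g := by rw [h2]
        _ = b * x * b⁻¹ := by group
    rw [← h3]
    exact hm
  have hnle : ¬ M₂ ≤ M₁ := by
    intro hle
    apply hne
    symm
    apply Subgroup.eq_of_le_of_card_ge hle
    rw [hconj, Subgroup.card_map_of_injective (MulAut.conj g).injective]
  have hsup : M₁ ⊔ M₂ = ⊤ :=
    hmax.2 _ (lt_of_le_not_ge le_sup_left (fun h => hnle (le_sup_right.trans h)))
  have hMP := normalizer_le_of_isCoatom hmax hcore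
  have hNP := normalizer_le_of_isCoatom hmax₂ hcore₂
  have hnormal : ∀ X : Subgroup G, M₁ ≤ Subgroup.normalizer (X : Set G) →
      M₂ ≤ Subgroup.normalizer (X : Set G) → X.Normal := by
    intro X h1 h2
    apply Subgroup.normalizer_eq_top_iff.mp
    rw [eq_top_iff, ← hsup]
    exact sup_le h1 h2
  have hnc : ∀ X : Subgroup G, X ≤ M₁ → M₁ ≤ Subgroup.normalizer (X : Set G) →
      M₂ ≤ Subgroup.normalizer (X : Set G) → X = ⊥ := by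
    intro X hX h1 h2
    haveI := hnormal X h1 h2
    have : X ≤ M₁.normalCore := Subgroup.normal_le_normalCore.mpr hX
    rw [hcore] at this
    exact le_bot_iff.mp this
  have hnc' : ∀ X : Subgroup G, X ≤ M₂ → M₂ ≤ Subgroup.normalizer (X : Set G) →
      M₁ ≤ Subgroup.normalizer (X : Set G) → X = ⊥ := by
    intro X hX h2 h1
    haveI := hnormal X h1 h2
    have : X ≤ M₂.normalCore := Subgroup.normal_le_normalCore.mpr hX
    rw [hcore₂] at this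
    exact le_bot_iff.mp this
  -- basic facts on the cores
  have hA₁M : A₁ ≤ M₁ := hA₁ ▸ coreIn_le_left _ _
  have hA₁N : A₁ ≤ M₂ := hA₁ ▸ (coreIn_le_right _ _).trans inf_le_right
  have hMA₁ : M₁ ≤ Subgroup.normalizer (A₁ : Set G) := hA₁ ▸ coreIn_normalized _ _
  have hB₁M : B₁ ≤ M₁ := hB₁ ▸ (coreIn_le_right _ _).trans inf_le_left
  have hB₁N : B₁ ≤ M₂ := hB₁ ▸ coreIn_le_left _ _
  have hNB₁ : M₂ ≤ Subgroup.normalizer (B₁ : Set G) := hB₁ ▸ coreIn_normalized _ _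
  have hA₁core : ∀ X : Subgroup G, X ≤ M₁ → X ≤ M₂ → M₁ ≤ Subgroup.normalizer (X : Set G) →
      X ≤ A₁ := fun X h1 h2 hn => hA₁ ▸ le_coreIn h1 (le_inf h1 h2) hn
  have hB₁core : ∀ X : Subgroup G, X ≤ M₁ → X ≤ M₂ → M₂ ≤ Subgroup.normalizer (X : Set G) →
      X ≤ B₁ := fun X h1 h2 hn => hB₁ ▸ le_coreIn h2 (le_inf h1 h2) hn
  have hA₂A₁ : A₂ ≤ A₁ := hA₂ ▸ (coreIn_le_right _ _).trans inf_le_left
  have hA₂B₁ : A₂ ≤ B₁ := hA₂ ▸ (coreIn_le_right _ _).trans inf_le_right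
  have hMA₂ : M₁ ≤ Subgroup.normalizer (A₂ : Set G) := hA₂ ▸ coreIn_normalized _ _
  have hB₂A₁ : B₂ ≤ A₁ := hB₂ ▸ (coreIn_le_right _ _).trans inf_le_left
  have hB₂B₁ : B₂ ≤ B₁ := hB₂ ▸ (coreIn_le_right _ _).trans inf_le_right
  have hNB₂ : M₂ ≤ Subgroup.normalizer (B₂ : Set G) := hB₂ ▸ coreIn_normalized _ _
  have hB₁mem : ∀ x ∈ M₂, (∀ h ∈ M₂, h * x * h⁻¹ ∈ M₁) → x ∈ B₁ := by
    intro x hx h
    rw [hB₁]
    apply mem_coreIn_of_conj hx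
    intro b hb
    exact ⟨h b hb, M₂.mul_mem (M₂.mul_mem hb hx) (M₂.inv_mem hb)⟩
  have hA₁mem : ∀ x ∈ M₁, (∀ h ∈ M₁, h * x * h⁻¹ ∈ M₂) → x ∈ A₁ := by
    intro x hx h
    rw [hA₁]
    apply mem_coreIn_of_conj hx
    intro b hb
    exact ⟨M₁.mul_mem (M₁.mul_mem hb hx) (M₁.inv_mem hb), h b hb⟩
  -- a prime with `O_p(M₁) ≠ 1`
  have hex : ∃ p : ℕ, p.Prime ∧ pCore p ↥M₁ ≠ ⊥ := by
    by_contra hno
    push Not at hno
    have hFM : fittingSubgroup ↥M₁ = ⊥ := by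
      rw [eq_bot_iff]
      refine Cfsg.Agent.Helper71.fittingSubgroup_le_pCoreJoin.trans (iSup_le ?_)
      intro r
      rw [hno r (Nat.prime_of_mem_primeFactors r.2)]
    have hFN : fittingSubgroup ↥M₂ = ⊥ := by
      rw [eq_bot_iff]
      refine Cfsg.Agent.Helper71.fittingSubgroup_le_pCoreJoin.trans (iSup_le ?_)
      intro r
      haveI : Fact (r : ℕ).Prime := ⟨Nat.prime_of_mem_primeFactors r.2⟩
      rw [← Cfsg.Agent.Helper46.pCore_map_equiv e, hno r (Nat.prime_of_mem_primeFactors r.2),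
        Subgroup.map_bot]
    exact false_of_fitting_trivial M₁ M₂ A₁ B₁ A₂ B₂ hne hMP hNP hA₁M hA₁N hMA₁ hB₁M hB₁N hNB₁
      hA2 hA₂B₁ hMA₂ hB2 hB₂A₁ hNB₂ hFM hFN
  obtain ⟨p, hp, hp0⟩ := hex
  haveI : Fact p.Prime := ⟨hp⟩
  have hP₁ne : pCoreOf p M₁ ≠ ⊥ := by
    unfold pCoreOf
    rw [Ne, Subgroup.map_eq_bot_iff_of_injective _ M₁.subtype_injective]
    exact hp0
  have hcard : Nat.card ↥(pCoreOf p M₁) = Nat.card ↥(pCoreOf p M₂) := card_pCoreOf_eq_of_equiv M₁ M₂ e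
  have hP₂ne : pCoreOf p M₂ ≠ ⊥ := by
    intro h
    apply hP₁ne
    apply Subgroup.eq_bot_of_card_eq
    rw [hcard, h, Subgroup.card_bot]
  -- the second cores are `p`-groups
  have hA₂p : IsPGroup p ↥A₂ :=
    isPGroup_second_core M₁ M₂ A₂ B₁ (pCoreOf p M₁) (pCoreOf p M₂) hMP hNP hnc hMA₂ hA₂B₁ hB₁M hB₁N
      hNB₁ hB₁mem (Cfsg.Agent.Helper46.pCoreOf_isPGroup M₁) (Cfsg.Agent.Helper46.pCoreOf_le M₁)
      (Cfsg.Agent.Helper46.pCoreOf_normalized M₁) (Cfsg.Agent.Helper46.pCoreOf_isPGroup M₂)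
      (Cfsg.Agent.Helper46.pCoreOf_le M₂) (Cfsg.Agent.Helper46.pCoreOf_normalized M₂)
      (fun I hI hIp hn => (Cfsg.Agent.Helper46.le_pCoreOf hI hIp hn).trans
        (pCoreOf_mono_of_normal hB₁N hNB₁)) hcard hP₁ne
  have hB₂p : IsPGroup p ↥B₂ :=
    isPGroup_second_core M₂ M₁ B₂ A₁ (pCoreOf p M₂) (pCoreOf p M₁) hNP hMP hnc' hNB₂ hB₂A₁ hA₁N hA₁M
      hMA₁ hA₁mem (Cfsg.Agent.Helper46.pCoreOf_isPGroup M₂) (Cfsg.Agent.Helper46.pCoreOf_le M₂)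
      (Cfsg.Agent.Helper46.pCoreOf_normalized M₂) (Cfsg.Agent.Helper46.pCoreOf_isPGroup M₁)
      (Cfsg.Agent.Helper46.pCoreOf_le M₁) (Cfsg.Agent.Helper46.pCoreOf_normalized M₁)
      (fun I hI hIp hn => (Cfsg.Agent.Helper46.le_pCoreOf hI hIp hn).trans
        (pCoreOf_mono_of_normal hA₁M hMA₁)) hcard.symm hP₂ne
  -- the stability argument
  obtain ⟨hc1, hc2⟩ := centralizer_pCoreOf_le M₁ M₂ A₁ B₁ A₂ B₂ hMP hNP hnc hA₁M hA₁N hMA₁ hA₁core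
    hB₁M hB₁N hNB₁ hB₁core hA2 hA₂p hA₂B₁ hMA₂ hB2 hB₂p hB₂A₁ hNB₂
  refine ⟨p, hp, ?_, ?_, ?_, ?_, ?_⟩
  · exact hA₂p.to_sup_of_normal_left' hB₂p ((hB₂A₁.trans hA₁M).trans hMA₂)
  · exact gfs_eq_pCore_of_centralizer_le M₁ (pCoreOf p A₁) (pCoreOf_mono_of_normal hA₁M hMA₁) hc1
  · exact gfs_eq_pCore_of_centralizer_le A₁ (pCoreOf p A₁) le_rfl hc1
  · exact gfs_eq_pCore_of_centralizer_le M₂ (pCoreOf p B₁) (pCoreOf_mono_of_normal hB₁N hNB₁) hc2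
  · exact gfs_eq_pCore_of_centralizer_le B₁ (pCoreOf p B₁) le_rfl hc2

end Cfsg.Agent.Helper21.TW
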