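import Mathlib
import Cfsg.Agent.Helper21.WardC
import Cfsg.Agent.Helper91.WardW8
import Cfsg.Agent.Helper60.WardW2
import Cfsg.Agent.Helper3.WardFin

set_option autoImplicit false
set_option linter.unusedSectionVars false
set_option linter.style.haveILetI false

/-!
# Ward's theorem (S3796): the tower lemma `LemmaCStmt`
-/

namespace Cfsg.Agent.Helper21.Ward

open Subgroup Cfsg.Agent.Helper71.Shult Cfsg.Agent.Helper48
open scoped commutatorElement

universe u

theorem lemmaC_aux {H : Type u} [Group H] [Finite H] (p s : ℕ) [hp : Fact p.Prime]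
    [hs : Fact s.Prime] (A S R : Subgroup H) (a : H)
    (hA : IsEA2 p A) (ha : a ∈ A) (ha1 : a ≠ 1)
    (hAS : A ≤ normalizer (S : Set H)) (hAR : A ≤ normalizer (R : Set H))
    (hRS : R ≤ normalizer (S : Set H))
    (hSs : IsPGroup s S) (hps : p ≠ s) (hpR : ¬ p ∣ Nat.card R)
    (hC1 : R ≤ centralizer {a})
    (hC2 : ∀ x ∈ A, x ∉ zpowers a → R ⊓ centralizer {x} = ⊥)
    (hC3 : S ⊓ centralizer {a} ≤ centralizer (R : Set H))
    (hC5 : S ⊓ centralizer (A : Set H) = ⊥) :
    ∀ n : ℕ, ∀ V : Subgroup H, Nat.card V ≤ n →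
      A ≤ normalizer (V : Set H) → S ≤ normalizer (V : Set H) → R ≤ normalizer (V : Set H) →
      (∀ u ∈ V, ∀ v ∈ V, u * v = v * u) → (Nat.card V).Coprime s → (Nat.card V).Coprime p →
      (∀ x ∈ A, x ≠ 1 →
        S ⊓ centralizer {x} ≤ centralizer ((V ⊓ centralizer {x} : Subgroup H) : Set H)) →
      ⁅S, R⁆ ≤ centralizer (V : Set H) := by
  intro n
  induction n with
  | zero =>
    intro V hn
    have : 0 < Nat.card V := Nat.card_pos
    omega
  | succ n ih =>
    intro V hn hAV hSV hRV hVab hcops hcopp hC4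
    by_cases hSC : S ≤ centralizer (V : Set H)
    · exact (commutator_le_left_of_le_normalizer hRS).trans hSC
    -- the kernel `S0` of the action of `S` on `V`
    set S0 : Subgroup H := S ⊓ centralizer (V : Set H) with hS0
    have hS0S : S0 ≤ S := inf_le_left
    have hS0ne : S0 ≠ S := by
      intro h
      apply hSC
      rw [← h]
      exact inf_le_right
    have hN0 : ∀ X : Subgroup H, X ≤ normalizer (S : Set H) → X ≤ normalizer (V : Set H) →
        X ≤ normalizer (S0 : Set H) := fun X h1 h2 =>
      inf_le_normalizer h1 (le_normalizer_centralizer h2)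
    have hSS0 : S ≤ normalizer (S0 : Set H) := hN0 S Subgroup.le_normalizer hSV
    have hAS0 : A ≤ normalizer (S0 : Set H) := hN0 A hAS hAV
    have hRS0 : R ≤ normalizer (S0 : Set H) := hN0 R hRS hRV
    obtain ⟨T, hS0T, hTS, hTne, hcomm, hpow, hTinv⟩ :=
      Cfsg.Agent.Helper91.Ward.exists_T (s := s) S S0 hSs hS0S hSS0 hS0ne
    have hST : S ≤ normalizer (T : Set H) := fun g hg =>
      hTinv g (Subgroup.le_normalizer hg) (hSS0 hg)
    have hAT : A ≤ normalizer (T : Set H) := fun g hg => hTinv g (hAS hg) (hAS0 hg)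
    have hRT : R ≤ normalizer (T : Set H) := fun g hg => hTinv g (hRS hg) (hRS0 hg)
    have hTV : T ≤ normalizer (V : Set H) := hTS.trans hSV
    have hTs : IsPGroup s T := hSs.to_le hTS
    have hcopT : (Nat.card V).Coprime (Nat.card T) := by
      obtain ⟨m, hm⟩ := (IsPGroup.iff_card (p := s)).mp hTs
      rw [hm]
      exact Nat.Coprime.pow_right m hcops
    obtain ⟨hsplit1, hsplit2⟩ := Cfsg.Agent.Helper31.Ward.abelian_coprime_split V T hVab hTV hcopT
    set V0 : Subgroup H := V ⊓ centralizer (T : Set H) with hV0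
    set V1 : Subgroup H := ⁅V, T⁆ with hV1
    have hV0V : V0 ≤ V := inf_le_left
    have hV1V : V1 ≤ V := commutator_le_left_of_le_normalizer hTV
    -- `V0` is proper
    have hV0ne : V0 ≠ V := by
      intro h
      apply hTne
      apply le_antisymm _ hS0T
      have h1 : V ≤ centralizer (T : Set H) := by rw [← h]; exact inf_le_right
      exact le_inf hTS (le_centralizer_symm h1)
    have hcard0 : Nat.card V0 ≤ n := by
      have hlt : Nat.card V0 < Nat.card V := by
        have hdvd := Subgroup.card_dvd_of_le hV0V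
        have hle := Nat.le_of_dvd Nat.card_pos hdvd
        rcases hle.lt_or_eq with h | h
        · exact h
        · exact absurd (Subgroup.eq_of_le_of_card_ge hV0V h.ge) hV0ne
      omega
    have hNV0 : ∀ X : Subgroup H, X ≤ normalizer (V : Set H) → X ≤ normalizer (T : Set H) →
        X ≤ normalizer (V0 : Set H) := fun X h1 h2 =>
      inf_le_normalizer h1 (le_normalizer_centralizer h2)
    have hC4sub : ∀ V' : Subgroup H, V' ≤ V → ∀ x ∈ A, x ≠ 1 →
        S ⊓ centralizer {x} ≤ centralizer ((V' ⊓ centralizer {x} : Subgroup H) : Set H) := by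
      intro V' hV' x hx hx1
      exact (hC4 x hx hx1).trans (Subgroup.centralizer_le (inf_le_inf_right _ hV'))
    have hcopsub : ∀ V' : Subgroup H, V' ≤ V → ∀ m : ℕ, (Nat.card V).Coprime m →
        (Nat.card V').Coprime m := fun V' hV' m hm =>
      Nat.Coprime.coprime_dvd_left (Subgroup.card_dvd_of_le hV') hm
    have hres0 : ⁅S, R⁆ ≤ centralizer (V0 : Set H) :=
      ih V0 hcard0 (hNV0 A hAV hAT) (hNV0 S hSV hST) (hNV0 R hRV hRT)
        (fun u hu v hv => hVab u (hV0V hu) v (hV0V hv)) (hcopsub V0 hV0V s hcops)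
        (hcopsub V0 hV0V p hcopp) (hC4sub V0 hV0V)
    -- the key hypotheses for `V1`
    have hkey : KeyHyp p s A V1 S T S0 :=
      { hA := hA
        hAS := hAS
        hAT := hAT
        hAS0 := hAS0
        hAV := le_normalizer_commutator hAV hAT
        hSV := le_normalizer_commutator hSV hST
        hTS := hTS
        hS0T := hS0T
        hS0 := (inf_le_right : S0 ≤ centralizer (V : Set H)).trans (Subgroup.centralizer_le hV1V)
        hcomm := hcomm
        hpow := hpow
        hVab := fun u hu v hv => hVab u (hV1V hu) v (hV1V hv)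
        hcops := hcopsub V1 hV1V s hcops
        hcopp := hcopsub V1 hV1V p hcopp
        hSs := hSs
        hps := hps
        hfix := by
          rw [eq_bot_iff, ← hsplit2]
          exact le_inf (inf_le_inf_right _ hV1V) inf_le_left
        hC4 := hC4sub V1 hV1V
        hC5 := hC5 }
    have hRV1 : R ≤ normalizer (V1 : Set H) := le_normalizer_commutator hRV hRT
    -- generation of `V1`
    have hgen := Cfsg.Agent.Helper60.WardW2.gen_hyperplanes (s := s) V1 T S0 hkey.hVab (hTS.trans hkey.hSV)
      hkey.hcops hS0T hkey.hS0 (fun t ht u hu => hcomm t ht u (hTS hu)) hpow hkey.hfix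
    -- the final assembly
    let 𝒲 : Set (Subgroup H) :=
      {W | ∃ D : Subgroup H, IsHyper S0 T s D ∧ W = KeyHyp.Wof V1 D ∧ W ≠ ⊥}
    have hfin := Cfsg.Agent.Helper3.WardFin.fin_assembly (p := p) A S R a hA ha ha1 hAS hAR hRS
      hkey.not_dvd_card_S hpR hC1 hC2 hC3 𝒲
      (by
        rintro W ⟨D, hD, rfl, hne⟩ g hg
        refine ⟨cjSub g D, hD.cjSub (hRS0 hg) (hRT hg), cjSub_Wof (hRV1 hg), ?_⟩
        intro hbot
        apply hne
        exact (Subgroup.map_eq_bot_iff_of_injective _ (MulAut.conj g).injective).mp hbot)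
      (by
        rintro W ⟨D, hD, rfl, -⟩
        exact hkey.S_le_normalizer_Wof hD)
      (by
        rintro W ⟨D, hD, rfl, hne⟩
        exact hkey.not_le_centralizer_Wof hD hne)
      (by
        rintro W ⟨D, hD, rfl, hne⟩
        exact hkey.key hD hne)
    have hres1 : ⁅S, R⁆ ≤ centralizer (V1 : Set H) := by
      intro g hg
      have hle : V1 ≤ centralizer {g} := by
        refine hgen.trans (iSup_le ?_)
        rintro ⟨D, hD⟩
        by_cases hbot : KeyHyp.Wof V1 D = ⊥
        · show KeyHyp.Wof V1 D ≤ _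
          rw [hbot]; exact bot_le
        · have := hfin (KeyHyp.Wof V1 D) ⟨D, hD, rfl, hbot⟩ hg
          intro w hw
          rw [mem_centralizer_singleton_iff]
          exact (mem_centralizer_iff.mp this w hw)
      rw [mem_centralizer_iff]
      intro v hv
      have := hle hv
      rw [mem_centralizer_singleton_iff] at this
      exact this
    intro g hg
    have h0 := hres0 hg
    have h1 := hres1 hg
    have hle : V ≤ centralizer {g} := by
      refine hsplit1.trans (sup_le ?_ ?_)
      · intro v hv
        rw [mem_centralizer_singleton_iff]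
        exact (mem_centralizer_iff.mp h0 v hv)
      · intro v hv
        rw [mem_centralizer_singleton_iff]
        exact (mem_centralizer_iff.mp h1 v hv)
    rw [mem_centralizer_iff]
    intro v hv
    have := hle hv
    rw [mem_centralizer_singleton_iff] at this
    exact this

/-- **The tower lemma.** -/
theorem lemmaC : LemmaCStmt.{u} := by
  intro H _ _ p s _ _ A V S R a hA ha ha1 hAV hAS hAR hSV hRV hRS hVab hcops hcopp hSs hps hpR
    hC1 hC2 hC3 hC4 hC5
  exact lemmaC_aux p s A S R a hA ha ha1 hAS hAR hRS hSs hps hpR hC1 hC2 hC3 hC5 (Nat.card V) V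
    le_rfl hAV hSV hRV hVab hcops hcopp hC4

end Cfsg.Agent.Helper21.Ward
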