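import Mathlib

/-!
# Elementary lemmas for the `Z(J_e(S))` theorem (helper21)

Class-two power identities, a coprime-automorphism lemma (an element of `p'`-order centralizing all
elements of order `p` of a `p`-group `B` on which the `p`-th power map is multiplicative centralizes
`B`), and `U ≤ ⁅U, T⁆ → U = ⊥` inside a finite `p`-group.
-/

set_option autoImplicit false

namespace Cfsg.Agent.Helper21.ZJe

open Subgroup
open scoped commutatorElement

variable {G : Type*} [Group G]

/-- `⁅y ^ n, x⁆ = ⁅y, x⁆ ^ n` when `⁅y, x⁆` commutes with `y`. -/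
theorem commutatorElement_pow_left {x y : G} (hc : Commute ⁅y, x⁆ y) (n : ℕ) :
    ⁅y ^ n, x⁆ = ⁅y, x⁆ ^ n := by
  induction n with
  | zero => simp
  | succ n ih =>
    have e : ⁅y ^ (n + 1), x⁆ = y * ⁅y ^ n, x⁆ * y⁻¹ * ⁅y, x⁆ := by
      simp only [commutatorElement_def, pow_succ']; group
    have h2 : y * ⁅y, x⁆ ^ n * y⁻¹ = ⁅y, x⁆ ^ n := by
      have := (hc.pow_left n).eq
      rw [← this]; group
    rw [e, ih, h2, pow_succ]

/-- In "class two": `(x * y) ^ n = x ^ n * y ^ n * ⁅y, x⁆ ^ (n.choose 2)`. -/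
theorem mul_pow_of_commute_commutator {x y : G} (hx : Commute ⁅y, x⁆ x) (hy : Commute ⁅y, x⁆ y)
    (n : ℕ) : (x * y) ^ n = x ^ n * y ^ n * ⁅y, x⁆ ^ (n.choose 2) := by
  induction n with
  | zero => simp
  | succ n ih =>
    set c := ⁅y, x⁆ with hcdef
    have h1 : y ^ n * x = c ^ n * x * y ^ n := by
      have := commutatorElement_pow_left hy n
      rw [← hcdef] at this
      rw [← this, commutatorElement_def]; group
    have hcx : ∀ k : ℕ, c ^ k * x = x * c ^ k := fun k => (hx.pow_left k).eq
    have hcxn : ∀ k m : ℕ, c ^ k * x ^ m = x ^ m * c ^ k := fun k m => ((hx.pow_left k).pow_right m).eq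
    have hcyn : ∀ k m : ℕ, c ^ k * y ^ m = y ^ m * c ^ k := fun k m => ((hy.pow_left k).pow_right m).eq
    have hch : (n + 1).choose 2 = n.choose 2 + n := by
      rw [Nat.choose_succ_succ' n 1, Nat.choose_one_right, add_comm]
    calc (x * y) ^ (n + 1) = (x * y) ^ n * (x * y) := pow_succ _ _
      _ = x ^ n * y ^ n * c ^ n.choose 2 * (x * y) := by rw [ih]
      _ = x ^ n * (y ^ n * (c ^ n.choose 2 * x)) * y := by group
      _ = x ^ n * (y ^ n * (x * c ^ n.choose 2)) * y := by rw [hcx]
      _ = x ^ n * (y ^ n * x) * c ^ n.choose 2 * y := by group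
      _ = x ^ n * (c ^ n * x * y ^ n) * c ^ n.choose 2 * y := by rw [h1]
      _ = (x ^ n * c ^ n) * x * y ^ n * c ^ n.choose 2 * y := by group
      _ = (c ^ n * x ^ n) * x * y ^ n * c ^ n.choose 2 * y := by rw [hcxn]
      _ = c ^ n * (x ^ n * x) * (y ^ n * (c ^ n.choose 2 * y)) := by group
      _ = c ^ n * (x ^ n * x) * (y ^ n * (y * c ^ n.choose 2)) := by
            have := hcyn (n.choose 2) 1; rw [pow_one] at this; rw [this]
      _ = c ^ n * (x ^ (n + 1) * y ^ (n + 1)) * c ^ n.choose 2 := by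
            rw [pow_succ x n, pow_succ y n]; group
      _ = x ^ (n + 1) * (c ^ n * y ^ (n + 1)) * c ^ n.choose 2 := by
            rw [← mul_assoc (c ^ n), hcxn n (n + 1)]; group
      _ = x ^ (n + 1) * (y ^ (n + 1) * c ^ n) * c ^ n.choose 2 := by rw [hcyn]
      _ = x ^ (n + 1) * y ^ (n + 1) * (c ^ n * c ^ n.choose 2) := by group
      _ = x ^ (n + 1) * y ^ (n + 1) * c ^ (n + 1).choose 2 := by
            rw [← pow_add, hch, Nat.add_comm n (n.choose 2)]

/-- For an odd prime `p`: `(x * y) ^ p = x ^ p * y ^ p` when `c = ⁅y, x⁆` is central in `⟨x, y⟩`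
and `c ^ p = 1`. -/
theorem mul_pow_prime_of_commute_commutator {p : ℕ} (hp : p.Prime) (hp2 : p ≠ 2) {x y : G}
    (hx : Commute ⁅y, x⁆ x) (hy : Commute ⁅y, x⁆ y) (hc : ⁅y, x⁆ ^ p = 1) :
    (x * y) ^ p = x ^ p * y ^ p := by
  rw [mul_pow_of_commute_commutator hx hy p]
  have h2 : 2 < p := lt_of_le_of_ne hp.two_le (Ne.symm hp2)
  have hdvd : p ∣ p.choose 2 := hp.dvd_choose_self (by norm_num) h2
  obtain ⟨k, hk⟩ := hdvd
  rw [hk, pow_mul, hc, one_pow, mul_one]

/-- elements of the join of two elementwise commuting subgroups are products. -/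
theorem exists_mul_of_mem_sup_of_comm {C R : Subgroup G}
    (hCR : ∀ c ∈ C, ∀ r ∈ R, c * r = r * c) {x : G} (hx : x ∈ C ⊔ R) :
    ∃ c ∈ C, ∃ r ∈ R, x = c * r := by
  let M : Subgroup G :=
    { carrier := {g | ∃ c ∈ C, ∃ r ∈ R, g = c * r}
      one_mem' := ⟨1, C.one_mem, 1, R.one_mem, by simp⟩
      mul_mem' := by
        rintro _ _ ⟨c, hc, r, hr, rfl⟩ ⟨c', hc', r', hr', rfl⟩
        refine ⟨c * c', C.mul_mem hc hc', r * r', R.mul_mem hr hr', ?_⟩
        have h := hCR c' hc' r hr
        calc c * r * (c' * r') = c * (r * c') * r' := by group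
          _ = c * (c' * r) * r' := by rw [h]
          _ = c * c' * (r * r') := by group
      inv_mem' := by
        rintro _ ⟨c, hc, r, hr, rfl⟩
        refine ⟨c⁻¹, C.inv_mem hc, r⁻¹, R.inv_mem hr, ?_⟩
        have h := hCR c⁻¹ (C.inv_mem hc) r⁻¹ (R.inv_mem hr)
        rw [mul_inv_rev, h] }
  have hle : C ⊔ R ≤ M := by
    apply sup_le
    · intro c hc; exact ⟨c, hc, 1, R.one_mem, by simp⟩
    · intro r hr; exact ⟨1, C.one_mem, r, hr, by simp⟩
  exact hle hx

/-- Coprime-automorphism lemma: let `B` be a `p`-group on which the `p`-th power map is multiplicative,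
normalized by an element `g` of order prime to `p` that centralizes every element of order dividing `p`
of `B`.  Then `g` centralizes `B`. -/
theorem commute_of_coprime_of_pow_hom {p : ℕ} [Fact p.Prime] {B : Subgroup G} (hB : IsPGroup p B)
    (hpow : ∀ x ∈ B, ∀ y ∈ B, (x * y) ^ p = x ^ p * y ^ p) {g : G}
    (hgB : ∀ b ∈ B, g * b * g⁻¹ ∈ B) (hg : (orderOf g).Coprime p)
    (hΩ : ∀ b ∈ B, b ^ p = 1 → g * b = b * g) : ∀ b ∈ B, g * b = b * g := by
  have key : ∀ k : ℕ, ∀ b ∈ B, b ^ (p ^ k) = 1 → g * b = b * g := by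
    intro k
    induction k with
    | zero =>
      intro b _ hb
      rw [pow_zero, pow_one] at hb
      rw [hb, mul_one, one_mul]
    | succ k ih =>
      intro b hbB hb
      have hbp : (b ^ p) ^ (p ^ k) = 1 := by rw [← pow_mul, ← pow_succ']; exact hb
      have h1 : g * b ^ p = b ^ p * g := ih (b ^ p) (B.pow_mem hbB p) hbp
      set b' := g * b * g⁻¹ with hb'
      have hb'B : b' ∈ B := hgB b hbB
      set v := b⁻¹ * b' with hv
      have hvB : v ∈ B := B.mul_mem (B.inv_mem hbB) hb'B
      have hb'p : b' ^ p = b ^ p := by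
        have : b' ^ p = g * b ^ p * g⁻¹ := by
          rw [hb']; exact conj_pow
        rw [this, h1]; group
      have hvp : v ^ p = 1 := by
        rw [hv, hpow _ (B.inv_mem hbB) _ hb'B, hb'p, inv_pow, inv_mul_cancel]
      have hgv : g * v = v * g := hΩ v hvB hvp
      have hgb : g * b = b * v * g := by
        rw [hv, hb']; group
      -- g^n b g^-n = b v^n
      have hn : ∀ n : ℕ, g ^ n * b = b * v ^ n * g ^ n := by
        intro n
        induction n with
        | zero => simp
        | succ n ihn =>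
          have hgvn : g * v ^ n = v ^ n * g := ((Commute.pow_right (show Commute g v from hgv) n)).eq
          calc g ^ (n + 1) * b = g * (g ^ n * b) := by rw [pow_succ']; group
            _ = g * (b * v ^ n * g ^ n) := by rw [ihn]
            _ = (g * b) * v ^ n * g ^ n := by group
            _ = b * v * (g * v ^ n) * g ^ n := by rw [hgb]; group
            _ = b * v * (v ^ n * g) * g ^ n := by rw [hgvn]
            _ = b * (v ^ n * v) * (g * g ^ n) := by
                  have : v * v ^ n = v ^ n * v := (Commute.pow_right (Commute.refl v) n).eq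
                  calc b * v * (v ^ n * g) * g ^ n = b * (v * v ^ n) * (g * g ^ n) := by group
                    _ = b * (v ^ n * v) * (g * g ^ n) := by rw [this]
            _ = b * v ^ (n + 1) * g ^ (n + 1) := by rw [← pow_succ, ← pow_succ']
      have h2 := hn (orderOf g)
      rw [pow_orderOf_eq_one, one_mul, mul_one] at h2
      have hvn : v ^ orderOf g = 1 := by
        have : b * 1 = b * v ^ orderOf g := by rw [mul_one]; exact h2
        exact (mul_left_cancel this).symm
      have hv1 : v = 1 := by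
        have h3 : orderOf v ∣ orderOf g := orderOf_dvd_of_pow_eq_one hvn
        have h4 : orderOf v ∣ p := orderOf_dvd_of_pow_eq_one hvp
        have h5 : orderOf v ∣ Nat.gcd (orderOf g) p := Nat.dvd_gcd h3 h4
        rw [hg.gcd_eq_one, Nat.dvd_one] at h5
        exact orderOf_eq_one_iff.mp h5
      rw [hv1, mul_one] at hgb
      exact hgb
  intro b hbB
  obtain ⟨k, hk⟩ := hB ⟨b, hbB⟩
  have hk' : b ^ (p ^ k) = 1 := by
    have := congrArg Subtype.val hk
    simpa using this
  exact key k b hbB hk'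

/-- In a finite `p`-group `S`, a subgroup `U` with `U ≤ ⁅U, T⁆` (`U, T ≤ S`) is trivial. -/
theorem eq_bot_of_le_commutator [Finite G] {p : ℕ} [Fact p.Prime] {S U T : Subgroup G}
    (hS : IsPGroup p S) (hU : U ≤ S) (hT : T ≤ S) (h : U ≤ ⁅U, T⁆) : U = ⊥ := by
  have hnil : Group.IsNilpotent S := hS.isNilpotent
  have key : ∀ n : ℕ, U ≤ S.lowerCentralSeries n := by
    intro n
    induction n with
    | zero => exact hU
    | succ n ih =>
      rw [Subgroup.lowerCentralSeries_succ]
      exact h.trans (Subgroup.commutator_mono ih hT)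
  obtain ⟨n, hn⟩ := (Subgroup.isNilpotent_iff_lowerCentralSeries S).mp hnil
  have := key n
  rw [hn] at this
  exact le_bot_iff.mp this

end Cfsg.Agent.Helper21.ZJe
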