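import Cfsg.Agent.Lib.ZJ4
import Cfsg.Agent.Helper21.ZJe1

/-!
# `Z(J_e(S))`: definitions and basic facts on the family of elementary abelian subgroups of largest
order (helper21)
-/

set_option autoImplicit false

namespace Cfsg.Agent.Helper21.ZJe

open Subgroup Cfsg.Agent.Lib.ZJ
open scoped commutatorElement

universe u

variable {G : Type u} [Group G]

/-- `J_e(S)` inside `G`: the join of the elementary abelian subgroups of `S` of largest order. -/
def JJ (p : ℕ) (S : Subgroup G) : Subgroup G := sSup (maxGood (goodElem p G) S)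

/-- `Z(J_e(S))` inside `G`. -/
def ZZ (p : ℕ) (S : Subgroup G) : Subgroup G := JJ p S ⊓ centralizer (JJ p S : Set G)

theorem le_JJ {p : ℕ} {S A : Subgroup G} (hA : A ∈ maxGood (goodElem p G) S) : A ≤ JJ p S :=
  le_sSup hA

theorem JJ_le (p : ℕ) (S : Subgroup G) : JJ p S ≤ S := sSup_le fun _ hA => hA.1

theorem ZZ_le_JJ (p : ℕ) (S : Subgroup G) : ZZ p S ≤ JJ p S := inf_le_left

theorem ZZ_le (p : ℕ) (S : Subgroup G) : ZZ p S ≤ S := (ZZ_le_JJ p S).trans (JJ_le p S)

theorem ZZ_comm {p : ℕ} {S : Subgroup G} {x y : G} (hx : x ∈ ZZ p S) (hy : y ∈ ZZ p S) :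
    x * y = y * x :=
  ((mem_centralizer_iff.mp hx.2) y hy.1).symm

/-- an element of `Z(J_e(S))` commutes with every member of the family -/
theorem ZZ_commute_mem {p : ℕ} {S A : Subgroup G} (hA : A ∈ maxGood (goodElem p G) S) {z a : G}
    (hz : z ∈ ZZ p S) (ha : a ∈ A) : z * a = a * z :=
  ((mem_centralizer_iff.mp hz.2) a (le_JJ hA ha)).symm

/-- `Ω_i(Z(J_e(S)))`. -/
def omegaZ (p : ℕ) (S : Subgroup G) (i : ℕ) : Subgroup G where
  carrier := {z | z ∈ ZZ p S ∧ z ^ (p ^ i) = 1}
  one_mem' := ⟨one_mem _, one_pow _⟩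
  mul_mem' := by
    rintro x y ⟨hx, hx'⟩ ⟨hy, hy'⟩
    refine ⟨mul_mem hx hy, ?_⟩
    rw [(show Commute x y from ZZ_comm hx hy).mul_pow, hx', hy', one_mul]
  inv_mem' := by
    rintro x ⟨hx, hx'⟩
    exact ⟨inv_mem hx, by rw [inv_pow, hx', inv_one]⟩

theorem mem_omegaZ {p : ℕ} {S : Subgroup G} {i : ℕ} {z : G} :
    z ∈ omegaZ p S i ↔ z ∈ ZZ p S ∧ z ^ (p ^ i) = 1 := Iff.rfl

theorem omegaZ_le_ZZ (p : ℕ) (S : Subgroup G) (i : ℕ) : omegaZ p S i ≤ ZZ p S := fun _ h => h.1

theorem omegaZ_zero (p : ℕ) (S : Subgroup G) : omegaZ p S 0 = ⊥ := by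
  rw [eq_bot_iff]
  intro z hz
  have := hz.2
  rw [pow_zero, pow_one] at this
  rw [mem_bot, this]

theorem pow_mem_omegaZ {p : ℕ} {S : Subgroup G} {i : ℕ} {z : G} (hz : z ∈ omegaZ p S (i + 1)) :
    z ^ p ∈ omegaZ p S i :=
  ⟨pow_mem hz.1 p, by rw [← pow_mul, ← pow_succ']; exact hz.2⟩

theorem omegaZ_mono (p : ℕ) (S : Subgroup G) {i j : ℕ} (h : i ≤ j) : omegaZ p S i ≤ omegaZ p S j := by
  intro z hz
  refine ⟨hz.1, ?_⟩
  obtain ⟨k, rfl⟩ := Nat.exists_eq_add_of_le h
  rw [pow_add, pow_mul, hz.2, one_pow]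

/-- A subgroup all of whose elements commute and have `p`-th power `1`. -/
theorem goodElem_iff {p : ℕ} (A : Subgroup G) :
    goodElem p G A ↔ (∀ x ∈ A, ∀ y ∈ A, x * y = y * x) ∧ ∀ a ∈ A, a ^ p = 1 := by
  unfold goodElem Cfsg.IsElementaryAbelian
  rw [Cfsg.Agent.Lib.ZJ.isMulCommutative_iff]

/-- the join of two commuting elementary abelian subgroups is elementary abelian -/
theorem goodElem_sup {p : ℕ} {A K : Subgroup G} (hA : goodElem p G A) (hK : goodElem p G K)
    (hAK : ∀ a ∈ A, ∀ k ∈ K, a * k = k * a) : goodElem p G (A ⊔ K) := by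
  rw [goodElem_iff] at hA hK ⊢
  constructor
  · intro x hx y hy
    obtain ⟨a, ha, k, hk, rfl⟩ := exists_mul_of_mem_sup_of_comm hAK hx
    obtain ⟨a', ha', k', hk', rfl⟩ := exists_mul_of_mem_sup_of_comm hAK hy
    have e1 := hA.1 a ha a' ha'
    have e2 := hK.1 k hk k' hk'
    have e3 := hAK a' ha' k hk
    have e4 := hAK a ha k' hk'
    calc a * k * (a' * k') = a * (k * a') * k' := by group
      _ = a * (a' * k) * k' := by rw [e3]
      _ = (a * a') * (k * k') := by group
      _ = (a' * a) * (k' * k) := by rw [e1, e2]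
      _ = a' * (a * k') * k := by group
      _ = a' * (k' * a) * k := by rw [e4]
      _ = a' * k' * (a * k) := by group
  · intro x hx
    obtain ⟨a, ha, k, hk, rfl⟩ := exists_mul_of_mem_sup_of_comm hAK hx
    rw [(show Commute a k from hAK a ha k hk).mul_pow, hA.2 a ha, hK.2 k hk, one_mul]

theorem goodElem_zpowers {p : ℕ} {x : G} (hx : x ^ p = 1) : goodElem p G (zpowers x) := by
  rw [goodElem_iff]
  constructor
  · intro a ha b hb
    obtain ⟨m, rfl⟩ := mem_zpowers_iff.mp ha
    obtain ⟨n, rfl⟩ := mem_zpowers_iff.mp hb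
    exact (Commute.zpow_zpow_self x m n).eq
  · intro a ha
    obtain ⟨m, rfl⟩ := mem_zpowers_iff.mp ha
    rw [← zpow_natCast, ← zpow_mul, mul_comm, zpow_mul, zpow_natCast, hx, one_zpow]

theorem goodElem_of_le {p : ℕ} {A K : Subgroup G} (hA : goodElem p G A) (hK : K ≤ A) :
    goodElem p G K := by
  rw [goodElem_iff] at hA ⊢
  exact ⟨fun x hx y hy => hA.1 x (hK hx) y (hK hy), fun a ha => hA.2 a (hK ha)⟩

variable [Finite G]

/-- a `good` subgroup of `S` of order at least that of a member of the family is a member -/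
theorem mem_maxGood_of_card_le {p : ℕ} {S A A' : Subgroup G} (hA : A ∈ maxGood (goodElem p G) S)
    (hA'S : A' ≤ S) (hA'g : goodElem p G A') (hcard : Nat.card A ≤ Nat.card A') :
    A' ∈ maxGood (goodElem p G) S :=
  ⟨hA'S, hA'g, fun X hXS hXg => (hA.2.2 X hXS hXg).trans hcard⟩

/-- (b1) An element of `S` of order dividing `p` that centralizes a member `A` of the family lies in `A`. -/
theorem mem_of_commute_of_mem_maxGood {p : ℕ} {S A : Subgroup G} (hA : A ∈ maxGood (goodElem p G) S)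
    {x : G} (hxS : x ∈ S) (hxp : x ^ p = 1) (hxA : ∀ a ∈ A, a * x = x * a) : x ∈ A := by
  have hcomm : ∀ a ∈ A, ∀ k ∈ zpowers x, a * k = k * a := by
    intro a ha k hk
    obtain ⟨m, rfl⟩ := mem_zpowers_iff.mp hk
    exact ((show Commute a x from hxA a ha).zpow_right m).eq
  have hgood : goodElem p G (A ⊔ zpowers x) := goodElem_sup hA.2.1 (goodElem_zpowers hxp) hcomm
  have hle : A ⊔ zpowers x ≤ S := sup_le hA.1 ((zpowers_le).2 hxS)
  have hcard : Nat.card ↥(A ⊔ zpowers x) ≤ Nat.card A := hA.2.2 _ hle hgood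
  have heq : A = A ⊔ zpowers x := Subgroup.eq_of_le_of_card_ge le_sup_left hcard
  rw [heq]
  exact (le_sup_right : zpowers x ≤ A ⊔ zpowers x) (mem_zpowers x)

/-- elements of order dividing `p` in `Z(J_e(S))` lie in every member of the family -/
theorem omegaZ_one_le {p : ℕ} {S A : Subgroup G} (hA : A ∈ maxGood (goodElem p G) S) :
    omegaZ p S 1 ≤ A := by
  intro z hz
  have hzp : z ^ p = 1 := by
    have := hz.2
    rwa [pow_one] at this
  exact mem_of_commute_of_mem_maxGood hA (ZZ_le p S hz.1) hzp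
    (fun a ha => (ZZ_commute_mem hA hz.1 ha).symm)

/-- If `N` conjugates `K` into itself elementwise then `N ≤ N_G(K)`. -/
theorem le_normalizer_of_forall_conj_mem {N K : Subgroup G}
    (h : ∀ g ∈ N, ∀ x ∈ K, g * x * g⁻¹ ∈ K) : N ≤ normalizer (K : Set G) := by
  intro g hg
  rw [mem_normalizer_iff]
  intro x
  constructor
  · exact h g hg x
  · intro hx
    have := h g⁻¹ (N.inv_mem hg) _ hx
    simpa [mul_assoc] using this

/-- `N_G(K) ≤ N_G(C_G(K))`. -/
theorem normalizer_le_normalizer_centralizer (K : Subgroup G) :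
    normalizer (K : Set G) ≤ normalizer ((centralizer (K : Set G) : Subgroup G) : Set G) := by
  apply le_normalizer_of_forall_conj_mem
  intro g hg x hx
  rw [mem_centralizer_iff] at hx ⊢
  intro k hk
  have hk' : g⁻¹ * k * g ∈ K := by
    have := (mem_normalizer_iff.mp (inv_mem hg) k).mp hk
    simpa using this
  have := hx _ hk'
  calc k * (g * x * g⁻¹) = g * ((g⁻¹ * k * g) * x) * g⁻¹ := by group
    _ = g * (x * (g⁻¹ * k * g)) * g⁻¹ := by rw [this]
    _ = g * x * g⁻¹ * k := by group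

/-- An element normalizing `P` normalizes the join of the members inside `P`. -/
theorem normalizer_le_normalizer_sSup {good : Subgroup G → Prop}
    (hconj : ∀ (A : Subgroup G) (g : G), good A → good (cj g A)) {S P : Subgroup G} (hPS : P ≤ S) :
    normalizer (P : Set G) ≤ normalizer ((sSup (maxGoodIn good S P) : Subgroup G) : Set G) := by
  apply le_normalizer_of_forall_conj_mem
  intro g hg x hx
  have hmap : (sSup (maxGoodIn good S P)).map (MulAut.conj g).toMonoidHom ≤
      sSup (maxGoodIn good S P) := by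
    rw [Subgroup.map_le_iff_le_comap]
    apply sSup_le
    intro A hA
    rw [← Subgroup.map_le_iff_le_comap]
    exact le_sSup (cj_mem_maxGoodIn hconj hPS hg hA)
  have : (MulAut.conj g).toMonoidHom x ∈ (sSup (maxGoodIn good S P)).map (MulAut.conj g).toMonoidHom :=
    Subgroup.mem_map_of_mem _ hx
  have h2 := hmap this
  simpa [MulAut.conj_apply] using h2

end Cfsg.Agent.Helper21.ZJe
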