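import Cfsg.Agent.Helper51.Timmesfeld
import Cfsg.Agent.Helper21.ZJe2

/-!
# `Z(J_e(S))`: the three auxiliary lemmas of the main induction (helper21)

* `pow_hom_of_normalClosure`: in the minimal counterexample `B / Y` has exponent `p`, so `⁅B, B⁆` has
  exponent `p` and the `p`-th power map is multiplicative on `B`;
* `comap_pCore_le_comap_pCore`: `C_G(V) / C_G(B)` is a `p`-group, so `O_p(G mod C_G(V)) ≤ O_p(G mod C_G(B))`;
* `le_centralizer_of_quadratic`: the Timmesfeld-replacement step: if every member of the family acting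
  quadratically on the normal elementary abelian subgroup `V` contains `V`, then every member centralizes `V`.
-/

set_option autoImplicit false

namespace Cfsg.Agent.Helper21.ZJe

open Subgroup Cfsg.Agent.Lib.ZJ
open scoped commutatorElement

universe u

variable {G : Type u} [Group G]

/-- Step 5: the `p`-th power map on `B`. -/
theorem pow_hom_of_normalClosure {p : ℕ} (hp : p.Prime) (hp2 : p ≠ 2) {B Y Z1 : Subgroup G}
    (hBn : B.Normal) (hYn : Y.Normal)
    (hcl2 : ⁅⁅B, B⁆, B⁆ = ⊥) (hYc : B ≤ centralizer (Y : Set G))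
    (hZ1B : Z1 ≤ B) (hZ1 : ∀ z ∈ Z1, z ^ p ∈ Y)
    (hcl : ∀ N : Subgroup G, N.Normal → Z1 ≤ N → B ≤ N) :
    (∀ x ∈ B, x ^ p ∈ Y) ∧ (∀ x ∈ B, ∀ y ∈ B, ⁅y, x⁆ ^ p = 1) ∧
      (∀ x ∈ B, ∀ y ∈ B, (x * y) ^ p = x ^ p * y ^ p) := by
  have hcen : ⁅B, B⁆ ≤ centralizer (B : Set G) :=
    (Subgroup.commutator_eq_bot_iff_le_centralizer).1 hcl2
  -- commutators are central in `B`
  have hcomm : ∀ x ∈ B, ∀ y ∈ B, ∀ w ∈ B, Commute ⁅y, x⁆ w := by
    intro x hx y hy w hw
    have := mem_centralizer_iff.mp (hcen (commutator_mem_commutator hy hx)) w hw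
    exact this.symm
  -- if `y ^ p ∈ Y` then `⁅y, x⁆ ^ p = 1`
  have hcp : ∀ x ∈ B, ∀ y ∈ B, y ^ p ∈ Y → ⁅y, x⁆ ^ p = 1 := by
    intro x hx y hy hyp
    rw [← commutatorElement_pow_left (hcomm x hx y hy y hy) p]
    have h1 : x * y ^ p = y ^ p * x := (mem_centralizer_iff.mp (hYc hx) _ hyp).symm
    rw [commutatorElement_eq_one_iff_mul_comm]
    exact h1.symm
  have hmul : ∀ x ∈ B, ∀ y ∈ B, y ^ p ∈ Y → (x * y) ^ p = x ^ p * y ^ p := by
    intro x hx y hy hyp
    exact mul_pow_prime_of_commute_commutator hp hp2 (hcomm x hx y hy x hx) (hcomm x hx y hy y hy)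
      (hcp x hx y hy hyp)
  let T : Subgroup G :=
    { carrier := {b | b ∈ B ∧ b ^ p ∈ Y}
      one_mem' := ⟨B.one_mem, by rw [one_pow]; exact Y.one_mem⟩
      mul_mem' := by
        rintro x y ⟨hx, hx'⟩ ⟨hy, hy'⟩
        refine ⟨B.mul_mem hx hy, ?_⟩
        rw [hmul x hx y hy hy']
        exact Y.mul_mem hx' hy'
      inv_mem' := by
        rintro x ⟨hx, hx'⟩
        refine ⟨B.inv_mem hx, ?_⟩
        rw [inv_pow]
        exact Y.inv_mem hx' }
  have hTn : T.Normal := by
    constructor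
    rintro b ⟨hb, hb'⟩ g
    refine ⟨hBn.conj_mem b hb g, ?_⟩
    rw [conj_pow]
    exact hYn.conj_mem _ hb' g
  have hZ1T : Z1 ≤ T := fun z hz => ⟨hZ1B hz, hZ1 z hz⟩
  have hBT : B ≤ T := hcl T hTn hZ1T
  have h1 : ∀ x ∈ B, x ^ p ∈ Y := fun x hx => (hBT hx).2
  exact ⟨h1, fun x hx y hy => hcp x hx y hy (h1 y hy), fun x hx y hy => hmul x hx y hy (h1 y hy)⟩

variable [Finite G]

/-- Step 12: if the `p'`-elements of `C_G(V)` centralize `B`, then the preimage of `O_p(G / C_G(V))` lies in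
the preimage of `O_p(G / C_G(B))`. -/
theorem comap_pCore_le_comap_pCore {p : ℕ} [Fact p.Prime] (B V : Subgroup G) [B.Normal] [V.Normal]
    (h : ∀ g ∈ centralizer (V : Set G), (orderOf g).Coprime p → g ∈ centralizer (B : Set G)) :
    (Cfsg.pCore p (G ⧸ centralizer (V : Set G))).comap (QuotientGroup.mk' (centralizer (V : Set G))) ≤
      (Cfsg.pCore p (G ⧸ centralizer (B : Set G))).comap
        (QuotientGroup.mk' (centralizer (B : Set G))) := by
  have hp : p.Prime := Fact.out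
  set CV := centralizer (V : Set G) with hCV
  set CB := centralizer (B : Set G) with hCB
  set LV := (Cfsg.pCore p (G ⧸ CV)).comap (QuotientGroup.mk' CV) with hLV
  have hpCn : (Cfsg.pCore p (G ⧸ CV)).Normal := by
    have := Cfsg.Agent.Lib.pCore_characteristic (G := G ⧸ CV) p
    infer_instance
  have hLVn : LV.Normal := Subgroup.Normal.comap hpCn _
  set N := LV.map (QuotientGroup.mk' CB) with hN
  have hNn : N.Normal := Subgroup.Normal.map hLVn _ (QuotientGroup.mk'_surjective CB)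
  have hNp : IsPGroup p N := by
    rintro ⟨y, hy⟩
    obtain ⟨x, hx0, rfl⟩ := hy
    have hx : QuotientGroup.mk' CV x ∈ Cfsg.pCore p (G ⧸ CV) := hx0
    obtain ⟨a, ha⟩ := (Cfsg.Agent.Lib.isPGroup_pCore (G := G ⧸ CV) p) ⟨_, hx⟩
    have ha' : (QuotientGroup.mk' CV x) ^ p ^ a = 1 := by
      have := congrArg Subtype.val ha
      simpa using this
    rw [← map_pow, QuotientGroup.mk'_apply, QuotientGroup.eq_one_iff] at ha'
    set y0 := x ^ p ^ a with hy0
    have hn0 : orderOf y0 ≠ 0 := (orderOf_pos y0).ne'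
    obtain ⟨b, m, hm, hn⟩ := Nat.exists_eq_pow_mul_and_not_dvd hn0 p hp.ne_one
    set z := y0 ^ p ^ b with hz
    have hzCV : z ∈ CV := pow_mem ha' _
    have hzm : z ^ m = 1 := by
      rw [hz, ← pow_mul, ← hn, pow_orderOf_eq_one]
    have hzcop : (orderOf z).Coprime p := by
      have h1 : orderOf z ∣ m := orderOf_dvd_of_pow_eq_one hzm
      have h2 : Nat.Coprime m p := ((Nat.Prime.coprime_iff_not_dvd hp).2 hm).symm
      exact Nat.Coprime.coprime_dvd_left h1 h2
    have hzCB : z ∈ CB := h z hzCV hzcop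
    refine ⟨a + b, ?_⟩
    apply Subtype.ext
    simp only [Subgroup.coe_pow, Subgroup.coe_one]
    rw [← map_pow, QuotientGroup.mk'_apply, QuotientGroup.eq_one_iff, pow_add, pow_mul]
    exact hzCB
  have hle : N ≤ Cfsg.pCore p (G ⧸ CB) := Cfsg.Agent.Lib.le_pCore hNn hNp
  intro x hx
  rw [Subgroup.mem_comap]
  exact hle (Subgroup.mem_map_of_mem _ hx)

/-- Step 13 (Timmesfeld replacement): `V` a normal elementary abelian subgroup inside the `p`-group `S`.
If every member of the family acting quadratically on `V` contains `V`, then every member centralizes `V`. -/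
theorem le_centralizer_of_quadratic {p : ℕ} [Fact p.Prime] {S V : Subgroup G} (hS : IsPGroup p S)
    [hVn : V.Normal] (hVS : V ≤ S) (hVg : goodElem p G V)
    (hquad : ∀ A ∈ maxGood (goodElem p G) S,
      (∀ a ∈ A, ⁅⁅V, zpowers a⁆, zpowers a⁆ = ⊥) → V ≤ A)
    {A' : Subgroup G} (hA' : A' ∈ maxGood (goodElem p G) S) : A' ≤ centralizer (V : Set G) := by
  have hVc : ∀ x ∈ V, ∀ y ∈ V, x * y = y * x := ((goodElem_iff V).1 hVg).1
  have hVcomm : IsMulCommutative V := (Cfsg.Agent.Lib.ZJ.isMulCommutative_iff V).2 hVc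
  have hA'c : ∀ x ∈ A', ∀ y ∈ A', x * y = y * x := ((goodElem_iff A').1 hA'.2.1).1
  have hAV : A' ≤ normalizer (V : Set G) := by
    rw [Subgroup.normalizer_eq_top_iff.2 hVn]; exact le_top
  have hab : ⁅A', A'⁆ ≤ centralizer (V : Set G) := by
    rw [commutator_eq_bot_of_comm hA'c]; exact bot_le
  -- for `D ≤ A'`: `D ⊔ C_V(D)` is good, and `D ⊓ C_V(D) ≤ C_V(A')`
  have hgoodD : ∀ D : Subgroup G, D ≤ A' → goodElem p G (D ⊔ Helper51.cD V D) := by
    intro D hD
    refine goodElem_sup (goodElem_of_le hA'.2.1 hD) (goodElem_of_le hVg inf_le_left) ?_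
    intro d hd k hk
    exact (Helper51.mem_cD.mp hk).2 d hd
  have hleS : ∀ D : Subgroup G, D ≤ A' → D ⊔ Helper51.cD V D ≤ S := fun D hD =>
    sup_le (hD.trans hA'.1) (inf_le_left.trans hVS)
  have hinf : ∀ D : Subgroup G, D ≤ A' → D ⊓ Helper51.cD V D ≤ Helper51.cD V A' := by
    intro D hD x hx
    rw [Helper51.mem_cD]
    refine ⟨hx.2.1, fun a ha => hA'c a ha x (hD hx.1)⟩
  have hBO : ∀ D : Subgroup G, D ≤ A' → Helper51.mu V D ≤ Helper51.mu V A' := by
    intro D hD
    unfold Helper51.mu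
    calc Nat.card D * Nat.card (Helper51.cD V D)
        ≤ Nat.card ↥(D ⊔ Helper51.cD V D) * Nat.card ↥(D ⊓ Helper51.cD V D) :=
          Helper51.card_mul_card_le_sup_mul_inf D _
      _ ≤ Nat.card A' * Nat.card (Helper51.cD V A') :=
          Nat.mul_le_mul (hA'.2.2 _ (hleS D hD) (hgoodD D hD)) (Subgroup.card_le_of_le (hinf D hD))
  obtain ⟨h1, h2⟩ := Helper51.timmesfeld_replacement V A' hVcomm hAV hab hBO V le_rfl
  set U := ⁅V, A'⁆ with hU
  set D := A' ⊓ centralizer ((U : Subgroup G) : Set G) with hD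
  have hDA' : D ≤ A' := inf_le_left
  set A2 := D ⊔ Helper51.cD V D with hA2
  have hUV : U ≤ V := Subgroup.commutator_le_left V A'
  -- `A2` is a member of the family
  have hA2mem : A2 ∈ maxGood (goodElem p G) S := by
    refine mem_maxGood_of_card_le hA' (hleS D hDA') (hgoodD D hDA') ?_
    have e1 : Nat.card A' * Nat.card (Helper51.cD V A') =
        Nat.card D * Nat.card (Helper51.cD V D) := h1.symm
    have e2 : Nat.card D * Nat.card (Helper51.cD V D) ≤
        Nat.card A2 * Nat.card ↥(D ⊓ Helper51.cD V D) := Helper51.card_mul_card_le_sup_mul_inf D _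
    have e3 : Nat.card A2 * Nat.card ↥(D ⊓ Helper51.cD V D) ≤
        Nat.card A2 * Nat.card (Helper51.cD V A') :=
      Nat.mul_le_mul_left _ (Subgroup.card_le_of_le (hinf D hDA'))
    have e4 : Nat.card A' * Nat.card (Helper51.cD V A') ≤ Nat.card A2 * Nat.card (Helper51.cD V A') := by
      rw [e1]; exact e2.trans e3
    exact Nat.le_of_mul_le_mul_right e4 Nat.card_pos
  -- `A2` centralizes `U`
  have hVcen : V ≤ centralizer ((U : Subgroup G) : Set G) := by
    intro v hv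
    rw [mem_centralizer_iff]
    intro u hu
    exact hVc u (hUV hu) v hv
  have hA2U : A2 ≤ centralizer ((U : Subgroup G) : Set G) :=
    sup_le inf_le_right (inf_le_left.trans hVcen)
  have hDK : ∀ d ∈ D, ∀ k ∈ Helper51.cD V D, d * k = k * d := fun d hd k hk =>
    (Helper51.mem_cD.mp hk).2 d hd
  -- `A2` acts quadratically on `V`
  have hquadA2 : ∀ a ∈ A2, ⁅⁅V, zpowers a⁆, zpowers a⁆ = ⊥ := by
    intro a ha
    have hza : zpowers a ≤ A2 := (zpowers_le).2 ha
    have h3 : ⁅V, zpowers a⁆ ≤ U := by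
      rw [Subgroup.commutator_le]
      intro v hv x hx
      obtain ⟨d, hd, k, hk, rfl⟩ := exists_mul_of_mem_sup_of_comm hDK (hza hx)
      have hkV : k ∈ V := hk.1
      have hvk : v⁻¹ * k⁻¹ = k⁻¹ * v⁻¹ := hVc _ (V.inv_mem hv) _ (V.inv_mem hkV)
      have e : ⁅v, d * k⁆ = ⁅v, d⁆ := by
        simp only [commutatorElement_def, mul_inv_rev]
        calc v * (d * k) * v⁻¹ * (k⁻¹ * d⁻¹) = v * d * k * (v⁻¹ * k⁻¹) * d⁻¹ := by group
          _ = v * d * k * (k⁻¹ * v⁻¹) * d⁻¹ := by rw [hvk]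
          _ = v * d * v⁻¹ * d⁻¹ := by group
      rw [e]
      exact commutator_mem_commutator hv (hDA' hd)
    rw [eq_bot_iff]
    calc ⁅⁅V, zpowers a⁆, zpowers a⁆ ≤ ⁅U, centralizer ((U : Subgroup G) : Set G)⁆ :=
          Subgroup.commutator_mono h3 (hza.trans hA2U)
      _ = ⊥ := by
          rw [Subgroup.commutator_eq_bot_iff_le_centralizer, Subgroup.le_centralizer_iff]
  have hVA2 : V ≤ A2 := hquad A2 hA2mem hquadA2
  have hA2c : ∀ x ∈ A2, ∀ y ∈ A2, x * y = y * x := ((goodElem_iff A2).1 hA2mem.2.1).1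
  -- hence `D` centralizes `V`
  have hVcD : V ≤ centralizer (D : Set G) := by
    intro v hv
    rw [mem_centralizer_iff]
    intro d hd
    exact hA2c d ((le_sup_left : D ≤ A2) hd) v (hVA2 hv)
  have hcDV : Helper51.cD V D = V := inf_eq_left.2 hVcD
  rw [hcDV] at h2
  -- `U ≤ ⁅U, A'⁆`
  have hUU : U ≤ ⁅U, A'⁆ := by
    rw [hU, Subgroup.commutator_le]
    intro v hv a ha
    have hv' : v ∈ U ⊔ Helper51.cD V A' := by rw [← h2]; exact hv
    have hUK : ∀ u ∈ U, ∀ c ∈ Helper51.cD V A', u * c = c * u := fun u hu c hc =>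
      hVc u (hUV hu) c hc.1
    obtain ⟨u, hu, c, hc, rfl⟩ := exists_mul_of_mem_sup_of_comm hUK hv'
    have hca : a * c = c * a := (Helper51.mem_cD.mp hc).2 a ha
    have hca' : c * a * c⁻¹ = a := by rw [← hca]; group
    have e : ⁅u * c, a⁆ = ⁅u, a⁆ := by
      simp only [commutatorElement_def, mul_inv_rev]
      calc u * c * a * (c⁻¹ * u⁻¹) * a⁻¹ = u * (c * a * c⁻¹) * u⁻¹ * a⁻¹ := by group
        _ = u * a * u⁻¹ * a⁻¹ := by rw [hca']
    rw [e]
    exact commutator_mem_commutator hu ha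
  have hUbot : U = ⊥ := eq_bot_of_le_commutator hS (hUV.trans hVS) hA'.1 hUU
  rw [Subgroup.le_centralizer_iff, ← Subgroup.commutator_eq_bot_iff_le_centralizer]
  exact hUbot

end Cfsg.Agent.Helper21.ZJe
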