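import Cfsg.Agent.Helper21.ZJe3

/-!
# `Ω_i(Z(J_e(S))) ⊓ B` is normal in a `p`-stable group (helper21)

Double induction: on the exponent layer `i`, then on `|B|` (`B` a normal `p`-subgroup).  In a minimal
counterexample `B = ⟨Z₁^G⟩` has class at most two, `Y = Ω_i(Z) ⊓ B` is normal (outer induction) and central
in `B`, `B / Y` has exponent `p`, hence `⁅B, B⁆` has exponent `p` and lies in every member of the family,
so the elementary replacement theorem applies.  The endgame uses the Timmesfeld replacement theorem.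
-/

set_option autoImplicit false

namespace Cfsg.Agent.Helper21.ZJe

open Subgroup Cfsg.Agent.Lib.ZJ Cfsg.Agent.Lib
open scoped commutatorElement

universe u

variable {G : Type u} [Group G]

theorem centralizer_le_normalizer_of_le {B K : Subgroup G} (hK : K ≤ B) :
    centralizer (B : Set G) ≤ normalizer (K : Set G) := by
  intro c hc
  rw [mem_normalizer_iff]
  intro x
  constructor
  · intro hx
    have h3 : c * x * c⁻¹ = x := by
      have := (mem_centralizer_iff.1 hc) x (hK hx)
      rw [← this]; group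
    rw [h3]; exact hx
  · intro hx
    have hxB : c * x * c⁻¹ ∈ B := hK hx
    have hcomm := (mem_centralizer_iff.1 hc) _ hxB
    have h3 : x = c * x * c⁻¹ := by
      have h4 : c * x = c * (c * x * c⁻¹) := by rw [← hcomm]; group
      exact mul_left_cancel h4
    rw [h3]; exact hx

theorem normalizer_inf_normalizer_le (H K : Subgroup G) :
    normalizer (H : Set G) ⊓ normalizer (K : Set G) ≤ normalizer ((H ⊓ K : Subgroup G) : Set G) := by
  intro g hg
  rw [mem_normalizer_iff]
  intro x
  rw [mem_inf, mem_inf, (mem_normalizer_iff.mp hg.1) x, (mem_normalizer_iff.mp hg.2) x]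

variable [Finite G] {p : ℕ} [Fact p.Prime]

/-- If all members of the family lie in `P ≤ S`, then `N_G(P)` normalizes `Ω_i(Z(J_e(S)))`. -/
theorem normalizer_le_normalizer_omegaZ {S P : Subgroup G} (hPS : P ≤ S)
    (hall : maxGoodIn (goodElem p G) S P = maxGood (goodElem p G) S) (i : ℕ) :
    normalizer (P : Set G) ≤ normalizer ((omegaZ p S i : Subgroup G) : Set G) := by
  have hconj : ∀ (A : Subgroup G) (g : G), goodElem p G A → goodElem p G (cj g A) := fun A g hA =>
    ((intrinsic_elem p).map_iff (MulAut.conj g).toMonoidHom (MulAut.conj g).injective A).2 hA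
  have h1 : normalizer (P : Set G) ≤ normalizer ((JJ p S : Subgroup G) : Set G) := by
    have := normalizer_le_normalizer_sSup hconj hPS (good := goodElem p G)
    rw [hall] at this
    exact this
  have h2 : normalizer (P : Set G) ≤
      normalizer ((centralizer ((JJ p S : Subgroup G) : Set G) : Subgroup G) : Set G) :=
    h1.trans (normalizer_le_normalizer_centralizer _)
  apply le_normalizer_of_forall_conj_mem
  intro g hg z hz
  refine ⟨⟨(mem_normalizer_iff.mp (h1 hg) z).mp hz.1.1, (mem_normalizer_iff.mp (h2 hg) z).mp hz.1.2⟩, ?_⟩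
  rw [conj_pow, hz.2]; group

theorem le_normalizer_omegaZ (S : Subgroup G) (i : ℕ) :
    S ≤ normalizer ((omegaZ p S i : Subgroup G) : Set G) :=
  Subgroup.le_normalizer.trans (normalizer_le_normalizer_omegaZ le_rfl (maxGoodIn_self S) i)

/-- Main lemma: `Ω_i(Z(J_e(S))) ⊓ B` is normal for every normal `p`-subgroup `B`. -/
theorem omegaZ_inf_normal_aux (hp2 : p ≠ 2) {S : Sylow p G} (h : Hyp (goodElem p G) S)
    (hst : ∀ (P : Subgroup G) [P.Normal], IsPGroup p P → Cfsg.IsPStableOn p P) :
    ∀ (i n : ℕ) (B : Subgroup G), B.Normal → IsPGroup p B → Nat.card B = n →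
      (omegaZ p (S : Subgroup G) i ⊓ B).Normal := by
  have hp : p.Prime := Fact.out
  intro i
  induction i with
  | zero =>
    intro n B _ _ _
    rw [omegaZ_zero, bot_inf_eq]
    infer_instance
  | succ i ihi =>
  intro n
  induction n using Nat.strong_induction_on with
  | _ n ih =>
  intro B hBn hBp hn
  by_contra hnot
  set Z := omegaZ p (S : Subgroup G) (i + 1) with hZ
  set Z1 := Z ⊓ B with hZ1
  have hBS : B ≤ (S : Subgroup G) := normal_pGroup_le_sylow hBn hBp S
  have hZcomm : ∀ x ∈ Z, ∀ y ∈ Z, x * y = y * x := fun x hx y hy => ZZ_comm hx.1 hy.1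
  have hSZ : (S : Subgroup G) ≤ normalizer (Z : Set G) := le_normalizer_omegaZ _ _
  -- Step 1: `B` is the normal closure of `Z1`
  have hB1 : Subgroup.normalClosure (Z1 : Set G) = B := by
    by_contra hne
    have hle : Subgroup.normalClosure (Z1 : Set G) ≤ B :=
      Subgroup.normalClosure_le_normal (show (Z1 : Set G) ⊆ B from fun x hx => hx.2)
    have hlt : Subgroup.normalClosure (Z1 : Set G) < B := lt_of_le_of_ne hle hne
    have hcard : Nat.card (Subgroup.normalClosure (Z1 : Set G)) < n := hn ▸ card_lt_of_lt hlt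
    have := ih _ hcard (Subgroup.normalClosure (Z1 : Set G)) inferInstance (hBp.to_le hle) rfl
    have heq : Z ⊓ Subgroup.normalClosure (Z1 : Set G) = Z1 :=
      le_antisymm (inf_le_inf_left Z hle) (le_inf inf_le_left Subgroup.le_normalClosure)
    rw [heq] at this
    exact hnot this
  have hcl : ∀ N : Subgroup G, N.Normal → Z1 ≤ N → B ≤ N := by
    intro N hN hle
    rw [← hB1]
    exact Subgroup.normalClosure_le_normal hle
  -- Step 2
  have hBne : B ≠ ⊥ := by
    intro hb
    apply hnot
    rw [hZ1, hb, inf_bot_eq]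
    infer_instance
  have hB'n : (⁅B, B⁆ : Subgroup G).Normal := Subgroup.commutator_normal B B
  have hB'le : ⁅B, B⁆ ≤ B := Subgroup.commutator_le_left B B
  have hWn : (Z ⊓ ⁅B, B⁆).Normal :=
    ih _ (hn ▸ card_commutator_lt hBp hBne) ⁅B, B⁆ hB'n (hBp.to_le hB'le) rfl
  set W := Z ⊓ ⁅B, B⁆ with hW
  -- Step 3
  have hBW : B ≤ centralizer (W : Set G) := by
    apply hcl _ inferInstance
    intro z hz
    rw [Subgroup.mem_centralizer_iff]
    intro w hw
    exact hZcomm w hw.1 z hz.1
  have hBZ1 : ⁅B, Z1⁆ ≤ W := by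
    rw [Subgroup.commutator_le]
    intro b hb z hz
    refine ⟨?_, Subgroup.commutator_mem_commutator hb hz.2⟩
    have hbN := hSZ (hBS hb)
    have h1 : b * z * b⁻¹ ∈ Z := (Subgroup.mem_normalizer_iff.1 hbN z).1 hz.1
    rw [commutatorElement_def]
    exact Z.mul_mem h1 (Z.inv_mem hz.1)
  have hB'W : ⁅B, B⁆ ≤ W := by
    have h1 : Z1 ≤ Helper70.centralizerMod B W := (Helper70.le_centralizerMod_iff B W Z1).2 hBZ1
    have hnorm : (Helper70.centralizerMod B W).Normal := by
      unfold Helper70.centralizerMod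
      have : (B.map (QuotientGroup.mk' W)).Normal :=
        Subgroup.Normal.map hBn _ (QuotientGroup.mk'_surjective W)
      exact Subgroup.Normal.comap inferInstance _
    have h2 := hcl _ hnorm h1
    exact (Helper70.le_centralizerMod_iff B W B).1 h2
  have hcl2 : ⁅⁅B, B⁆, B⁆ = ⊥ := by
    rw [Subgroup.commutator_eq_bot_iff_le_centralizer]
    intro x hx
    have hxW := hB'W hx
    rw [Subgroup.mem_centralizer_iff]
    intro b hb
    have := hBW hb
    rw [Subgroup.mem_centralizer_iff] at this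
    exact (this x hxW).symm
  -- Step 4 (new): `Y = Ω_i(Z) ⊓ B`
  set Y := omegaZ p (S : Subgroup G) i ⊓ B with hY
  have hYn : Y.Normal := ihi _ B hBn hBp rfl
  have hYc : B ≤ centralizer (Y : Set G) := by
    apply hcl _ inferInstance
    intro z hz
    rw [Subgroup.mem_centralizer_iff]
    intro y hy
    exact ZZ_comm hy.1.1 hz.1.1
  have hZ1p : ∀ z ∈ Z1, z ^ p ∈ Y := fun z hz => ⟨pow_mem_omegaZ hz.1, B.pow_mem hz.2 p⟩
  obtain ⟨hpY, hcp, hpow⟩ :=
    pow_hom_of_normalClosure hp hp2 hBn hYn hcl2 hYc (inf_le_right : Z1 ≤ B) hZ1p hcl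
  -- Step 6: `⁅B, B⁆` has exponent `p` and lies in every member of the family
  have hB'p : ∀ w ∈ ⁅B, B⁆, w ^ p = 1 := by
    have hcen : ⁅B, B⁆ ≤ centralizer (B : Set G) :=
      (Subgroup.commutator_eq_bot_iff_le_centralizer).1 hcl2
    let T : Subgroup G :=
      { carrier := {w | w ∈ ⁅B, B⁆ ∧ w ^ p = 1}
        one_mem' := ⟨one_mem _, one_pow _⟩
        mul_mem' := by
          rintro x y ⟨hx, hx'⟩ ⟨hy, hy'⟩
          refine ⟨mul_mem hx hy, ?_⟩
          have hxy : Commute x y := (mem_centralizer_iff.mp (hcen hx) y (hB'le hy)).symm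
          rw [hxy.mul_pow, hx', hy', one_mul]
        inv_mem' := by
          rintro x ⟨hx, hx'⟩
          exact ⟨inv_mem hx, by rw [inv_pow, hx', inv_one]⟩ }
    have hle : ⁅B, B⁆ ≤ T := by
      rw [Subgroup.commutator_le]
      intro x hx y hy
      exact ⟨commutator_mem_commutator hx hy, hcp y hy x hx⟩
    intro w hw
    exact (hle hw).2
  have hB'A : ∀ A ∈ maxGood (goodElem p G) (S : Subgroup G), ⁅B, B⁆ ≤ A := by
    intro A hA w hw
    have hwZ : w ∈ Z := (hB'W hw).1
    exact mem_of_commute_of_mem_maxGood hA (hBS (hB'le hw)) (hB'p w hw)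
      (fun a ha => (ZZ_commute_mem hA hwZ.1 ha).symm)
  -- Step 7
  obtain ⟨A0, hA0⟩ := h.nonempty
  have hex : ∃ U ∈ maxGood (goodElem p G) (S : Subgroup G), ⁅B, B⁆ ≤ U ∧ ¬ B ≤ U := by
    by_contra hcon
    push Not at hcon
    apply hnot
    have hBall : ∀ U ∈ maxGood (goodElem p G) (S : Subgroup G), B ≤ U :=
      fun U hU => hcon U hU (hB'A U hU)
    have hBZ : B ≤ Z := by
      intro b hb
      have hbJ : b ∈ JJ p (S : Subgroup G) := le_JJ hA0 (hBall A0 hA0 hb)
      have hJb : JJ p (S : Subgroup G) ≤ centralizer ({b} : Set G) := by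
        apply sSup_le
        intro A hA a ha
        rw [mem_centralizer_iff]
        intro y hy
        rw [Set.mem_singleton_iff] at hy
        rw [hy]
        exact ((goodElem_iff A).1 hA.2.1).1 b (hBall A hA hb) a ha
      have hbC : b ∈ centralizer ((JJ p (S : Subgroup G) : Subgroup G) : Set G) := by
        rw [mem_centralizer_iff]
        intro j hj
        exact ((mem_centralizer_iff.mp (hJb hj)) b rfl).symm
      have hbp : b ^ p = 1 := ((goodElem_iff A0).1 hA0.2.1).2 b (hBall A0 hA0 hb)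
      refine ⟨⟨hbJ, hbC⟩, ?_⟩
      rw [pow_succ', pow_mul, hbp, one_pow]
    rw [hZ1, inf_eq_right.2 hBZ]
    exact hBn
  have hSB : (S : Subgroup G) ≤ normalizer (B : Set G) := by
    rw [Subgroup.normalizer_eq_top_iff.2 hBn]; exact le_top
  obtain ⟨A, hA, -, hBA, hBNA⟩ := h.repl B hBS hSB hcl2 hex
  -- Step 9 (as in the abelian case)
  set C := centralizer (B : Set G) with hC
  have hCn : C.Normal := inferInstance
  set L0 := (Cfsg.pCore p (G ⧸ C)).comap (QuotientGroup.mk' C) with hL0
  have hquadL0 : ∀ A' ∈ maxGood (goodElem p G) (S : Subgroup G), B ≤ normalizer (A' : Set G) →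
      A' ≤ L0 := by
    intro A' hA' hBN a ha
    have hstB := @hst B hBn hBp
    apply hstB a
    rw [eq_bot_iff]
    have h1 : ⁅B, zpowers a⁆ ≤ A' :=
      (Subgroup.commutator_mono le_rfl ((Subgroup.zpowers_le).2 ha)).trans
        (commutator_le_of_le_normalizer hBN)
    calc ⁅⁅B, zpowers a⁆, zpowers a⁆ ≤ ⁅A', A'⁆ :=
          Subgroup.commutator_mono h1 ((Subgroup.zpowers_le).2 ha)
      _ = ⊥ := commutator_eq_bot_of_comm (h.comm A' hA'.2.1)
  have hAL0 : A ≤ L0 := hquadL0 A hA hBNA
  have hpCn : (Cfsg.pCore p (G ⧸ C)).Normal := by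
    have := pCore_characteristic (G := G ⧸ C) p
    infer_instance
  have hL0n : L0.Normal := Subgroup.Normal.comap hpCn _
  set P0 := (S : Subgroup G) ⊓ L0 with hP0
  have hfrat : normalizer (P0 : Set G) ⊔ L0 = ⊤ := by
    have := Sylow.normalizer_sup_eq_top (Helper53.sylowInfNormal S L0)
    rw [Helper53.coe_sylowInfNormal, Subgroup.subgroupOf_map_subtype] at this
    exact this
  have hCL0 : C ≤ L0 := by
    intro c hc
    rw [hL0, Subgroup.mem_comap]
    have : (QuotientGroup.mk' C c) = 1 := (QuotientGroup.eq_one_iff c).2 hc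
    rw [this]; exact one_mem _
  have hP0L0 : P0 ≤ L0 := inf_le_right
  have hL0eq : L0 ≤ C ⊔ P0 := by
    have hK : C ⊔ P0 ≤ L0 := sup_le hCL0 hP0L0
    have h1 : (C ⊔ P0).relIndex L0 ∣ C.relIndex L0 := Subgroup.relIndex_dvd_of_le_left L0 le_sup_left
    have h2 : (C ⊔ P0).relIndex L0 ∣ P0.relIndex L0 := Subgroup.relIndex_dvd_of_le_left L0 le_sup_right
    have h3 : ∃ k : ℕ, C.relIndex L0 = p ^ k := by
      have hker : C = (⊥ : Subgroup (G ⧸ C)).comap (QuotientGroup.mk' C) := by
        rw [MonoidHom.comap_bot, QuotientGroup.ker_mk']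
      have hmap : L0.map (QuotientGroup.mk' C) = Cfsg.pCore p (G ⧸ C) :=
        Subgroup.map_comap_eq_self_of_surjective (QuotientGroup.mk'_surjective C) _
      have h4 : C.relIndex L0 = Nat.card (Cfsg.pCore p (G ⧸ C)) := by
        conv_lhs => rw [hker]
        rw [Subgroup.relIndex_comap, hmap, Subgroup.relIndex_bot_left]
      rw [h4]
      exact (IsPGroup.iff_card).1 (isPGroup_pCore p)
    have h5 : ¬ p ∣ P0.relIndex L0 := by
      rw [hP0, Subgroup.inf_relIndex_right]
      exact Helper53.not_dvd_relIndex_sylow_of_normal S L0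
    obtain ⟨k, hk⟩ := h3
    rw [hk] at h1
    obtain ⟨j, -, hj⟩ := (Nat.dvd_prime_pow (Fact.out : p.Prime)).1 h1
    have hj0 : j = 0 := by
      by_contra hj0
      apply h5
      have : p ∣ (C ⊔ P0).relIndex L0 := by rw [hj]; exact dvd_pow_self p hj0
      exact this.trans h2
    rw [hj0, pow_zero] at hj
    exact Subgroup.relIndex_eq_one.1 hj
  -- a subgroup of `B` normalized by `N_G(P0)` is normal in `G`
  have hnormal_of : ∀ K : Subgroup G, K ≤ B → normalizer (P0 : Set G) ≤ normalizer (K : Set G) →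
      K.Normal := by
    intro K hKB hNK
    have hCK : C ≤ normalizer (K : Set G) := centralizer_le_normalizer_of_le hKB
    have hP0K : P0 ≤ normalizer (K : Set G) := Subgroup.le_normalizer.trans hNK
    have htop : normalizer (K : Set G) = ⊤ := by
      rw [eq_top_iff, ← hfrat]
      exact sup_le hNK (hL0eq.trans (sup_le hCK hP0K))
    exact Subgroup.normalizer_eq_top_iff.1 htop
  have hBnorm : normalizer (P0 : Set G) ≤ normalizer (B : Set G) := by
    rw [Subgroup.normalizer_eq_top_iff.2 hBn]; exact le_top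
  have hPS : P0 ≤ (S : Subgroup G) := inf_le_left
  -- Step 10: `B` centralizes the join `J0` of the members inside `P0`
  set J0 := sSup (maxGoodIn (goodElem p G) (S : Subgroup G) P0) with hJ0
  have hJ0J : J0 ≤ JJ p (S : Subgroup G) := sSup_le_sSup fun A' hA' => hA'.1
  have hBJ0 : B ≤ centralizer (J0 : Set G) := by
    have hN : normalizer (P0 : Set G) ≤
        normalizer ((B ⊓ centralizer (J0 : Set G) : Subgroup G) : Set G) := by
      have h1 := (normalizer_le_normalizer_sSup h.conj hPS (good := goodElem p G)).trans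
        (normalizer_le_normalizer_centralizer _)
      exact (le_inf hBnorm h1).trans (normalizer_inf_normalizer_le _ _)
    have hD0n := hnormal_of _ inf_le_left hN
    have hZ1D0 : Z1 ≤ B ⊓ centralizer (J0 : Set G) := by
      intro z hz
      exact ⟨hz.2, (Subgroup.centralizer_le (by exact_mod_cast hJ0J)) hz.1.1.2⟩
    exact (hcl _ hD0n hZ1D0).trans inf_le_right
  -- Step 11: `V = X0 ⊓ B`
  set X0 := sInf (maxGoodIn (goodElem p G) (S : Subgroup G) P0) with hX0
  have hAin : A ∈ maxGoodIn (goodElem p G) (S : Subgroup G) P0 := ⟨hA, le_inf hA.1 hAL0⟩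
  have hX0A : X0 ≤ A := sInf_le hAin
  set V := X0 ⊓ B with hV
  have hVB : V ≤ B := inf_le_right
  have hVn : V.Normal := by
    apply hnormal_of V hVB
    have h1 := normalizer_le_normalizer_sInf h.conj hPS (good := goodElem p G)
    exact (le_inf h1 hBnorm).trans (normalizer_inf_normalizer_le _ _)
  have hVg : goodElem p G V := goodElem_of_le hA.2.1 (inf_le_left.trans hX0A)
  have hVp : IsPGroup p V := hBp.to_le hVB
  have hΩV : ∀ b ∈ B, b ^ p = 1 → b ∈ V := by
    intro b hb hbp
    have hbX : b ∈ X0 := by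
      rw [hX0, Subgroup.mem_sInf]
      intro A' hA'
      exact mem_of_commute_of_mem_maxGood hA'.1 (hBS hb) hbp
        (fun a ha => (mem_centralizer_iff.mp (hBJ0 hb)) a (le_sSup hA' ha))
    exact ⟨hbX, hb⟩
  -- Step 12
  have hLV : (Cfsg.pCore p (G ⧸ centralizer (V : Set G))).comap
      (QuotientGroup.mk' (centralizer (V : Set G))) ≤ L0 := by
    apply comap_pCore_le_comap_pCore B V
    intro g hg hcop
    rw [mem_centralizer_iff]
    intro b hb
    have := commute_of_coprime_of_pow_hom hBp hpow (g := g) (fun b hb => hBn.conj_mem b hb g) hcop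
      (fun b hb hbp => ((mem_centralizer_iff.mp hg) b (hΩV b hb hbp)).symm) b hb
    exact this.symm
  -- Step 13
  have hquad : ∀ A2 ∈ maxGood (goodElem p G) (S : Subgroup G),
      (∀ a ∈ A2, ⁅⁅V, zpowers a⁆, zpowers a⁆ = ⊥) → V ≤ A2 := by
    intro A2 hA2 hq
    have hA2L0 : A2 ≤ L0 := by
      intro a ha
      apply hLV
      rw [Subgroup.mem_comap]
      exact @hst V hVn hVp a (hq a ha)
    have hA2in : A2 ∈ maxGoodIn (goodElem p G) (S : Subgroup G) P0 := ⟨hA2, le_inf hA2.1 hA2L0⟩
    exact inf_le_left.trans (sInf_le hA2in)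
  have hcentV : ∀ A' ∈ maxGood (goodElem p G) (S : Subgroup G), A' ≤ centralizer (V : Set G) :=
    fun A' hA' => le_centralizer_of_quadratic S.isPGroup' (hVB.trans hBS) hVg hquad hA'
  -- Step 14
  have hVA : ∀ A' ∈ maxGood (goodElem p G) (S : Subgroup G), V ≤ A' := by
    intro A' hA' v hv
    exact mem_of_commute_of_mem_maxGood hA' (hBS (hVB hv)) (((goodElem_iff V).1 hVg).2 v hv)
      (fun a ha => ((mem_centralizer_iff.mp (hcentV A' hA' ha)) v hv).symm)
  -- Step 15: `B` normalizes every member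
  have hBN : ∀ A' ∈ maxGood (goodElem p G) (S : Subgroup G), B ≤ normalizer (A' : Set G) := by
    intro A' hA'
    apply le_normalizer_of_forall_conj_mem
    intro b hb a ha
    set y := a * b⁻¹ * a⁻¹ with hy
    have hyB : y ∈ B := hBn.conj_mem _ (B.inv_mem hb) a
    have hbpZ : b ^ p ∈ ZZ p (S : Subgroup G) := (hpY b hb).1.1
    have hcomm : b ^ p * a = a * b ^ p := ZZ_commute_mem hA' hbpZ ha
    have hyp : y ^ p = (b ^ p)⁻¹ := by
      rw [hy, conj_pow, inv_pow]
      have : a * (b ^ p)⁻¹ = (b ^ p)⁻¹ * a := by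
        have h1 : (b ^ p)⁻¹ * (b ^ p * a) * (b ^ p)⁻¹ = (b ^ p)⁻¹ * (a * b ^ p) * (b ^ p)⁻¹ := by
          rw [hcomm]
        have h2 : (b ^ p)⁻¹ * (b ^ p * a) * (b ^ p)⁻¹ = a * (b ^ p)⁻¹ := by group
        have h3 : (b ^ p)⁻¹ * (a * b ^ p) * (b ^ p)⁻¹ = (b ^ p)⁻¹ * a := by group
        rw [← h2, h1, h3]
      rw [this]; group
    have hwp : (b * y) ^ p = 1 := by
      rw [hpow b hb y hyB, hyp, mul_inv_cancel]
    have hwV : b * y ∈ V := hΩV _ (B.mul_mem hb hyB) hwp
    have hwA : b * y ∈ A' := hVA A' hA' hwV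
    have : b * a * b⁻¹ = (b * y) * a := by rw [hy]; group
    rw [this]
    exact A'.mul_mem hwA ha
  -- Step 16: every member lies in `P0`
  have hall : maxGoodIn (goodElem p G) (S : Subgroup G) P0 = maxGood (goodElem p G) (S : Subgroup G) := by
    ext A'
    constructor
    · exact fun hA' => hA'.1
    · exact fun hA' => ⟨hA', le_inf hA'.1 (hquadL0 A' hA' (hBN A' hA'))⟩
  -- Step 17
  have hNZ1 : normalizer (P0 : Set G) ≤ normalizer (Z1 : Set G) :=
    (le_inf (normalizer_le_normalizer_omegaZ hPS hall (i + 1)) hBnorm).trans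
      (normalizer_inf_normalizer_le _ _)
  exact hnot (hnormal_of Z1 inf_le_right hNZ1)

end Cfsg.Agent.Helper21.ZJe
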