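import Cfsg.Agent.Lib.ZJ6
import Cfsg.Agent.S0652
import Cfsg.Agent.Helper21.ZJe4

/-!
# Glauberman's ZJ-theorem for `Z(J_e(S))` (elementary abelian Thompson subgroup) (helper21)

`Cfsg.centerThompsonOf p S = Z(J_e(S))` is normal in a `p`-stable group `G` with
`C_G(O_p(G)) ≤ O_p(G)`, `p` odd.
-/

set_option autoImplicit false

namespace Cfsg.Agent.Helper21.ZJe

open Subgroup Cfsg.Agent.Lib.ZJ Cfsg.Agent.Lib
open scoped commutatorElement

universe u

variable {G : Type u} [Group G]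

theorem thompsonSubgroupOf_eq_JJ (p : ℕ) (P : Subgroup G) :
    Cfsg.thompsonSubgroupOf p P = JJ p P := by
  unfold Cfsg.thompsonSubgroupOf Cfsg.thompsonSubgroup JJ
  rw [map_sSup', ← maxGoodT_elem, image_map_subtype_maxGoodT (intrinsic_elem p)]

theorem centerThompsonOf_eq_ZZ (p : ℕ) (P : Subgroup G) :
    Cfsg.centerThompsonOf p P = ZZ p P := by
  unfold Cfsg.centerThompsonOf ZZ
  rw [thompsonSubgroupOf_eq_JJ]

theorem centerThompsonOf_le (p : ℕ) (P : Subgroup G) : Cfsg.centerThompsonOf p P ≤ P := by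
  rw [centerThompsonOf_eq_ZZ]
  exact ZZ_le p P

variable [Finite G] {p : ℕ} [Fact p.Prime]

/-- `Z(J_e(S)) = Ω_k(Z(J_e(S)))` for `k` large. -/
theorem exists_omegaZ_eq_ZZ {S : Subgroup G} (hS : IsPGroup p S) :
    ∃ k : ℕ, omegaZ p S k = ZZ p S := by
  obtain ⟨k, hk⟩ := IsPGroup.iff_card.1 hS
  refine ⟨k, le_antisymm (omegaZ_le_ZZ p S k) ?_⟩
  intro z hz
  refine ⟨hz, ?_⟩
  have hzS : z ∈ S := ZZ_le p S hz
  have h1 : (⟨z, hzS⟩ : S) ^ Nat.card S = 1 := pow_card_eq_one'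
  rw [hk] at h1
  exact congrArg Subtype.val h1

theorem le_normalizer_ZZ {S : Subgroup G} (hS : IsPGroup p S) :
    S ≤ normalizer ((ZZ p S : Subgroup G) : Set G) := by
  obtain ⟨k, hk⟩ := exists_omegaZ_eq_ZZ hS
  rw [← hk]
  exact le_normalizer_omegaZ S k

theorem normalizer_le_normalizer_ZZ {S : Subgroup G} (hS : IsPGroup p S) :
    normalizer (S : Set G) ≤ normalizer ((ZZ p S : Subgroup G) : Set G) := by
  obtain ⟨k, hk⟩ := exists_omegaZ_eq_ZZ hS
  rw [← hk]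
  exact normalizer_le_normalizer_omegaZ le_rfl (maxGoodIn_self S) k

/-- `Z(J_e(S)) ≤ O_p(G)` in a `p`-stable group with `C_G(O_p(G)) ≤ O_p(G)`. -/
theorem ZZ_le_pCore (S : Sylow p G)
    (hc : centralizer (Cfsg.pCore p G : Set G) ≤ Cfsg.pCore p G)
    (hst : ∀ (P : Subgroup G) [P.Normal], IsPGroup p P → Cfsg.IsPStableOn p P) :
    ZZ p (S : Subgroup G) ≤ Cfsg.pCore p G := by
  have hQn : (Cfsg.pCore p G).Normal := by
    have := pCore_characteristic (G := G) p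
    infer_instance
  have hQp : IsPGroup p (Cfsg.pCore p G) := isPGroup_pCore p
  set Q := Cfsg.pCore p G with hQ
  set Z := ZZ p (S : Subgroup G) with hZ
  have hZcomm : ∀ x ∈ Z, ∀ y ∈ Z, x * y = y * x := fun x hx y hy => ZZ_comm hx hy
  have hSZ : (S : Subgroup G) ≤ normalizer (Z : Set G) := le_normalizer_ZZ S.2
  have hQS : Q ≤ (S : Subgroup G) := pCore_le_sylow S
  intro z hz
  have hstQ := @hst Q hQn hQp
  have h1 : ⁅Q, zpowers z⁆ ≤ Z :=
    (Subgroup.commutator_mono le_rfl ((Subgroup.zpowers_le).2 hz)).trans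
      (commutator_le_of_le_normalizer (hQS.trans hSZ))
  have h2 : ⁅⁅Q, zpowers z⁆, zpowers z⁆ = ⊥ := by
    rw [eq_bot_iff]
    calc ⁅⁅Q, zpowers z⁆, zpowers z⁆ ≤ ⁅Z, Z⁆ :=
          Subgroup.commutator_mono h1 ((Subgroup.zpowers_le).2 hz)
      _ = ⊥ := commutator_eq_bot_of_comm hZcomm
  have h3 := hstQ z h2
  exact comap_pCore_quotient_centralizer_le hc (Subgroup.mem_comap.2 h3)

theorem hyp_goodElem (hp2 : p ≠ 2) (S : Sylow p G) : Hyp (goodElem p G) S :=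
  hyp_of_replTop (intrinsic_elem p) S
    (fun B _ h1 h2 => Cfsg.Agent.S0652.result S.isPGroup' hp2 ⊤ B h1 h2)

/-- **Glauberman's ZJ-theorem** for `Z(J_e(S))`. -/
theorem ZZ_normal (hp2 : p ≠ 2)
    (hc : centralizer (Cfsg.pCore p G : Set G) ≤ Cfsg.pCore p G)
    (hst : ∀ (P : Subgroup G) [P.Normal], IsPGroup p P → Cfsg.IsPStableOn p P) (S : Sylow p G) :
    (ZZ p (S : Subgroup G)).Normal := by
  have hQn : (Cfsg.pCore p G).Normal := by
    have := pCore_characteristic (G := G) p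
    infer_instance
  have hQp : IsPGroup p (Cfsg.pCore p G) := isPGroup_pCore p
  obtain ⟨k, hk⟩ := exists_omegaZ_eq_ZZ (S := (S : Subgroup G)) S.2
  have h := omegaZ_inf_normal_aux hp2 (hyp_goodElem hp2 S) hst k _ (Cfsg.pCore p G) hQn hQp rfl
  rw [hk, inf_eq_left.2 (ZZ_le_pCore S hc hst)] at h
  exact h

theorem centerThompsonOf_normal (hp2 : p ≠ 2)
    (hc : centralizer (Cfsg.pCore p G : Set G) ≤ Cfsg.pCore p G)
    (hst : ∀ (P : Subgroup G) [P.Normal], IsPGroup p P → Cfsg.IsPStableOn p P) (S : Sylow p G) :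
    (Cfsg.centerThompsonOf p (S : Subgroup G)).Normal := by
  rw [centerThompsonOf_eq_ZZ]
  exact ZZ_normal hp2 hc hst S

end Cfsg.Agent.Helper21.ZJe
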