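import Cfsg.Agent.Lib.ZJ7
import Cfsg.Agent.Helper21.ZJe5

/-!
# Transport of `Z(J_e(S))` and the factorization `G = O_{p'}(G) N_G(Z(J_e(S)))` (helper21)
-/

set_option autoImplicit false

namespace Cfsg.Agent.Helper21.ZJe

open Subgroup Cfsg.Agent.Lib.ZJ Cfsg.Agent.Lib
open scoped commutatorElement

universe u

section

variable {G H : Type u} [Group G] [Group H]

theorem JJ_map (p : ℕ) (f : G →* H) (S : Subgroup G)
    (hinj : Function.Injective (f.comp S.subtype)) : JJ p (S.map f) = (JJ p S).map f := by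
  unfold JJ
  rw [maxGood_map_of_injOn f S hinj (intrinsic_elem p), map_sSup']

theorem ZZ_map (p : ℕ) (f : G →* H) (S : Subgroup G)
    (hinj : Function.Injective (f.comp S.subtype)) : ZZ p (S.map f) = (ZZ p S).map f := by
  unfold ZZ
  rw [JJ_map p f S hinj]
  apply le_antisymm
  · rintro x ⟨⟨z, hz, rfl⟩, hx2⟩
    refine ⟨z, ⟨hz, ?_⟩, rfl⟩
    show z ∈ centralizer ((JJ p S : Subgroup G) : Set G)
    have hx2 : f z ∈ centralizer (((JJ p S).map f : Subgroup H) : Set H) := hx2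
    rw [mem_centralizer_iff]
    intro y hy
    have h1 := (mem_centralizer_iff.1 hx2) (f y) ⟨y, hy, rfl⟩
    rw [← map_mul, ← map_mul] at h1
    exact eq_of_map_eq_of_mem f S hinj (mul_mem (JJ_le p S hy) (JJ_le p S hz))
      (mul_mem (JJ_le p S hz) (JJ_le p S hy)) h1
  · rintro _ ⟨z, ⟨hz1, hz2⟩, rfl⟩
    refine ⟨⟨z, hz1, rfl⟩, ?_⟩
    show f z ∈ centralizer (((JJ p S).map f : Subgroup H) : Set H)
    have hz2 : z ∈ centralizer ((JJ p S : Subgroup G) : Set G) := hz2
    rw [mem_centralizer_iff]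
    rintro _ ⟨y, hy, rfl⟩
    rw [← map_mul, ← map_mul, (mem_centralizer_iff.1 hz2) y hy]

/-- `Z(J_e(S))` is carried to `Z(J_e(f S))` by a homomorphism injective on `S`. -/
theorem centerThompsonOf_map (p : ℕ) (f : G →* H) (S : Subgroup G)
    (hinj : Function.Injective (f.comp S.subtype)) :
    Cfsg.centerThompsonOf p (S.map f) = (Cfsg.centerThompsonOf p S).map f := by
  rw [centerThompsonOf_eq_ZZ, centerThompsonOf_eq_ZZ, ZZ_map p f S hinj]

end

variable {G : Type u} [Group G] [Finite G] {p : ℕ} [Fact p.Prime]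

/-- The image of `Z(J_e(P))` in `G / O_{p'}(G)` is normal when the quotient is `p`-stable with
`C(O_p) ≤ O_p`. -/
theorem map_centerThompsonOf_normal (hp : p ≠ 2)
    (hcb : centralizer (Cfsg.pCore p (G ⧸ Cfsg.pPrimeCore p G) : Set (G ⧸ Cfsg.pPrimeCore p G)) ≤
      Cfsg.pCore p (G ⧸ Cfsg.pPrimeCore p G))
    (hstb : ∀ (Pb : Subgroup (G ⧸ Cfsg.pPrimeCore p G)) [Pb.Normal], IsPGroup p Pb →
      Cfsg.IsPStableOn p Pb) (P : Sylow p G) :
    ((Cfsg.centerThompsonOf p (P : Subgroup G)).map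
      (QuotientGroup.mk' (Cfsg.pPrimeCore p G))).Normal := by
  set K := Cfsg.pPrimeCore p G with hK
  set π := QuotientGroup.mk' K with hπ
  have hπs : Function.Surjective π := QuotientGroup.mk'_surjective K
  have hker : π.ker = K := QuotientGroup.ker_mk' K
  have hKc : (Nat.card K).Coprime p := card_pPrimeCore_coprime p
  have hZn := centerThompsonOf_normal hp hcb hstb (P.mapSurjective hπs)
  rw [Sylow.coe_mapSurjective] at hZn
  have hdisj : (P : Subgroup G) ⊓ π.ker = ⊥ := by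
    rw [hker]
    apply (Subgroup.disjoint_of_coprime_natCard _).eq_bot
    obtain ⟨n, hn⟩ := IsPGroup.iff_card.1 P.2
    rw [hn]
    exact (Nat.Coprime.pow_right n hKc).symm
  have hinj := injective_comp_subtype_of_inf_ker π (P : Subgroup G) hdisj
  rw [centerThompsonOf_map p π (P : Subgroup G) hinj] at hZn
  exact hZn

/-- `Z(J_e(P)) O_{p'}(G)` is normal. -/
theorem centerThompsonOf_sup_pPrimeCore_normal (hp : p ≠ 2)
    (hcb : centralizer (Cfsg.pCore p (G ⧸ Cfsg.pPrimeCore p G) : Set (G ⧸ Cfsg.pPrimeCore p G)) ≤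
      Cfsg.pCore p (G ⧸ Cfsg.pPrimeCore p G))
    (hstb : ∀ (Pb : Subgroup (G ⧸ Cfsg.pPrimeCore p G)) [Pb.Normal], IsPGroup p Pb →
      Cfsg.IsPStableOn p Pb) (P : Sylow p G) :
    (Cfsg.centerThompsonOf p (P : Subgroup G) ⊔ Cfsg.pPrimeCore p G).Normal := by
  have h := map_centerThompsonOf_normal hp hcb hstb P
  have h2 : Cfsg.centerThompsonOf p (P : Subgroup G) ⊔ Cfsg.pPrimeCore p G =
      ((Cfsg.centerThompsonOf p (P : Subgroup G)).map
        (QuotientGroup.mk' (Cfsg.pPrimeCore p G))).comap (QuotientGroup.mk' (Cfsg.pPrimeCore p G)) := by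
    rw [Subgroup.comap_map_eq, QuotientGroup.ker_mk']
  rw [h2]
  exact Subgroup.Normal.comap h _

/-- `G = O_{p'}(G) N_G(Z(J_e(P)))`. -/
theorem pPrimeCore_sup_normalizer_zje (hp : p ≠ 2)
    (hcb : centralizer (Cfsg.pCore p (G ⧸ Cfsg.pPrimeCore p G) : Set (G ⧸ Cfsg.pPrimeCore p G)) ≤
      Cfsg.pCore p (G ⧸ Cfsg.pPrimeCore p G))
    (hstb : ∀ (Pb : Subgroup (G ⧸ Cfsg.pPrimeCore p G)) [Pb.Normal], IsPGroup p Pb →
      Cfsg.IsPStableOn p Pb) (P : Sylow p G) :
    Cfsg.pPrimeCore p G ⊔ normalizer (Cfsg.centerThompsonOf p (P : Subgroup G) : Set G) = ⊤ := by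
  set K := Cfsg.pPrimeCore p G with hK
  set π := QuotientGroup.mk' K with hπ
  have hker : π.ker = K := QuotientGroup.ker_mk' K
  have hKc : (Nat.card K).Coprime p := card_pPrimeCore_coprime p
  have hZn := map_centerThompsonOf_normal hp hcb hstb P
  set Z := Cfsg.centerThompsonOf p (P : Subgroup G) with hZ
  have hZp : IsPGroup p Z := P.2.to_le (centerThompsonOf_le _ _)
  rw [eq_top_iff]
  intro x _
  have hx : π x ∈ normalizer ((Z.map π : Subgroup (G ⧸ K)) : Set (G ⧸ K)) := by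
    rw [Subgroup.normalizer_eq_top]
    exact Subgroup.mem_top _
  obtain ⟨g, hg, hgx⟩ :=
    Cfsg.Agent.Helper54.exists_mem_normalizer_map_eq π (by rw [hker]; exact hKc) Z hZp x hx
  have h1 : x * g⁻¹ ∈ K := by
    rw [← hker, MonoidHom.mem_ker, map_mul, map_inv, hgx, mul_inv_cancel]
  have h2 : x = (x * g⁻¹) * g := by group
  rw [h2]
  exact Subgroup.mul_mem_sup h1 hg

end Cfsg.Agent.Helper21.ZJe
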