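import Cfsg.Agent.Helper64.GT
import Cfsg.Agent.Helper21.ZJe6

/-!
# `Z(J_e(S))` (elementary abelian Thompson subgroup) is a `GTFunctor` (helper21)
-/

set_option autoImplicit false

namespace Cfsg.Agent.Helper21.ZJe

open Subgroup Cfsg.Agent.Lib.ZJ Cfsg.Agent.Lib
open scoped commutatorElement

universe u

variable {G : Type u} [Group G]

theorem maxGood_goodElem_nonempty [Finite G] (p : ℕ) (R : Subgroup G) :
    (maxGood (goodElem p G) R).Nonempty := by
  rw [← image_map_subtype_maxGoodT (intrinsic_elem p)]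
  exact (maxGoodT_nonempty (intrinsic_elem p)).image _

/-- A central element of order dividing `p` lies in `Z(J_e(R))`. -/
theorem mem_ZZ_of_central [Finite G] {p : ℕ} {R : Subgroup G} {z : G} (hzR : z ∈ R)
    (hzc : ∀ y ∈ R, y * z = z * y) (hzp : z ^ p = 1) : z ∈ ZZ p R := by
  obtain ⟨A0, hA0⟩ := maxGood_goodElem_nonempty p R
  have hzA : ∀ A ∈ maxGood (goodElem p G) R, z ∈ A := fun A hA =>
    mem_of_commute_of_mem_maxGood hA hzR hzp (fun a ha => hzc a (hA.1 ha))
  refine ⟨le_JJ hA0 (hzA A0 hA0), ?_⟩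
  show z ∈ centralizer ((JJ p R : Subgroup G) : Set G)
  rw [mem_centralizer_iff]
  intro y hy
  exact hzc y (JJ_le p R hy)

/-- `Z(J_e(R))` is nontrivial for a nontrivial finite `p`-subgroup `R`. -/
theorem centerThompsonOf_ne_bot [Finite G] {p : ℕ} [Fact p.Prime] {R : Subgroup G}
    (hR : IsPGroup p R) (hR1 : R ≠ ⊥) : Cfsg.centerThompsonOf p R ≠ ⊥ := by
  have hp : p.Prime := Fact.out
  have : Nontrivial R := (Subgroup.nontrivial_iff_ne_bot R).2 hR1
  have hc : Nontrivial (Subgroup.center R) := hR.center_nontrivial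
  have hcp : IsPGroup p (Subgroup.center R) := hR.to_subgroup _
  obtain ⟨n, hn⟩ := IsPGroup.iff_card.1 hcp
  have hn0 : n ≠ 0 := by
    intro h0
    rw [h0, pow_zero] at hn
    have := (Nat.card_eq_one_iff_unique.1 hn).1
    exact not_subsingleton _ this
  have hdvd : p ∣ Nat.card (Subgroup.center R) := by
    rw [hn]
    exact dvd_pow_self p hn0
  obtain ⟨⟨z, hz⟩, hzo⟩ := exists_prime_orderOf_dvd_card' p hdvd
  have hzo' : orderOf (z : G) = p := by
    have h1 : orderOf (⟨z, hz⟩ : Subgroup.center R) = orderOf z := Subgroup.orderOf_mk z hz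
    rw [Subgroup.orderOf_coe z, ← h1, hzo]
  have hz1 : (z : G) ≠ 1 := by
    intro h
    rw [h, orderOf_one] at hzo'
    exact hp.one_lt.ne hzo'
  have hzp : (z : G) ^ p = 1 := by
    rw [← hzo']
    exact pow_orderOf_eq_one _
  have hzc : ∀ y ∈ R, y * (z : G) = (z : G) * y := by
    intro y hy
    have := (Subgroup.mem_center_iff.1 hz) ⟨y, hy⟩
    exact congrArg Subtype.val this
  intro hbot
  apply hz1
  have hmem : (z : G) ∈ Cfsg.centerThompsonOf p R := by
    rw [centerThompsonOf_eq_ZZ]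
    exact mem_ZZ_of_central z.2 hzc hzp
  rw [hbot, Subgroup.mem_bot] at hmem
  exact hmem

theorem gtFunctor_centerThompsonOf {p : ℕ} [Fact p.Prime] (hp2 : p ≠ 2) :
    Cfsg.Agent.Helper64.GTFunctor.{u} p (fun K _ S => Cfsg.centerThompsonOf p S) where
  le := fun _ _ S => centerThompsonOf_le p S
  ne_bot := fun _ _ _ _ hS hS1 => centerThompsonOf_ne_bot hS hS1
  map := fun _ _ _ _ _ _ f S hinj => centerThompsonOf_map p f S hinj
  normal := fun _ _ _ hc hst S => centerThompsonOf_normal hp2 hc hst S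

/-- **Glauberman–Thompson** (elementary abelian version of `J`): for odd `p`, if `N_G(Z(J_e(P)))` has
a normal `p`-complement, so does `G`. -/
theorem hasNormalPComplement_of_normalizer_zje [Finite G] {p : ℕ}
    [Fact p.Prime] (hp2 : p ≠ 2) (P : Sylow p G)
    (hN : Cfsg.HasNormalPComplement p
      (Subgroup.normalizer (Cfsg.centerThompsonOf p (P : Subgroup G) : Set G))) :
    Cfsg.HasNormalPComplement p G :=
  Cfsg.Agent.Helper64.hasNormalPComplement_of_gtFunctor hp2 (gtFunctor_centerThompsonOf hp2) G P hN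

end Cfsg.Agent.Helper21.ZJe
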