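import Cfsg.Agent.S1969
import Cfsg.Agent.Helper37.InvolvesQuotient
import Cfsg.Agent.Helper10.S2794Core
import Cfsg.Agent.Helper10.ZJFunctor
import Cfsg.Agent.Helper11.ThompsonIso
import Cfsg.Agent.Helper97.QdCore
import Cfsg.Agent.Helper97.QdDickson
import Cfsg.Agent.Helper97.QdGraph
import Cfsg.Agent.Helper21.ZJe7

/-!
# `Z(J_e(·))` as an isomorphism-invariant `p`-group functor; control of strong fusion (helper21)
-/

set_option autoImplicit false

namespace Cfsg.Agent.Helper21.ZJe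

open Subgroup Cfsg.Agent.Lib.ZJ Cfsg.Agent.Lib

universe u v w

/-- the type-level functor `Q ↦ Z(J_e(Q))`, `J_e` generated by the elementary abelian subgroups of
largest order -/
def zjE (p : ℕ) : ∀ (Q : Type u) [Group Q], Subgroup Q :=
  fun Q _ => Cfsg.thompsonSubgroup p Q ⊓ centralizer (Cfsg.thompsonSubgroup p Q : Set Q)

theorem inducedFunctor_zjE {G : Type u} [Group G] (p : ℕ) (P : Subgroup G) :
    Cfsg.inducedFunctor (G := G) (zjE p) P = Cfsg.centerThompsonOf p P := by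
  unfold Cfsg.inducedFunctor zjE Cfsg.centerThompsonOf Cfsg.thompsonSubgroupOf
  exact Cfsg.Agent.Helper10.ZJF.map_centralizer_subtype_inf P _

theorem map_inf_centralizer_equiv {Q : Type u} {R : Type v} [Group Q] [Group R] (φ : Q ≃* R)
    (J : Subgroup Q) :
    (J ⊓ centralizer (J : Set Q)).map φ.toMonoidHom
      = J.map φ.toMonoidHom ⊓ centralizer ((J.map φ.toMonoidHom : Subgroup R) : Set R) := by
  ext x
  constructor
  · rintro ⟨y, hy, rfl⟩
    obtain ⟨hyJ, hyC⟩ := Subgroup.mem_inf.1 hy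
    refine Subgroup.mem_inf.2 ⟨Subgroup.mem_map_of_mem _ hyJ, ?_⟩
    rw [Subgroup.mem_centralizer_iff]
    rintro _ ⟨z, hz, rfl⟩
    have := (Subgroup.mem_centralizer_iff.1 hyC) z hz
    show φ z * φ y = φ y * φ z
    rw [← map_mul, ← map_mul, this]
  · intro hx
    obtain ⟨⟨y, hyJ, rfl⟩, hC⟩ := Subgroup.mem_inf.1 hx
    refine ⟨y, Subgroup.mem_inf.2 ⟨hyJ, ?_⟩, rfl⟩
    rw [Subgroup.mem_centralizer_iff]
    intro z hz
    apply φ.injective
    have := (Subgroup.mem_centralizer_iff.1 hC) _ (Subgroup.mem_map_of_mem φ.toMonoidHom hz)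
    rw [map_mul, map_mul]
    exact this

theorem zjE_map_equiv (p : ℕ) {Q : Type u} {R : Type v} [Group Q] [Group R] (φ : Q ≃* R) :
    (zjE p Q).map φ.toMonoidHom = zjE p R := by
  unfold zjE
  rw [map_inf_centralizer_equiv, Cfsg.Agent.Helper11.thompsonSubgroup_map_equiv p φ]

theorem zjE_ne_bot {p : ℕ} [Fact p.Prime] (Q : Type u) [Group Q] [Finite Q] (hQ : IsPGroup p Q)
    [Nontrivial Q] : zjE p Q ≠ ⊥ := by
  have hQ' : IsPGroup p (⊤ : Subgroup Q) := hQ.to_subgroup _
  have h1 : Cfsg.centerThompsonOf p (⊤ : Subgroup Q) ≠ ⊥ :=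
    centerThompsonOf_ne_bot hQ' top_ne_bot
  rw [← inducedFunctor_zjE] at h1
  unfold Cfsg.inducedFunctor at h1
  have h2 : (zjE p ↥(⊤ : Subgroup Q)).map (⊤ : Subgroup Q).subtype = zjE p Q :=
    zjE_map_equiv p (Subgroup.topEquiv : (⊤ : Subgroup Q) ≃* Q)
  rw [h2] at h1
  exact h1

theorem isCharPFunctor_zjE (p : ℕ) [Fact p.Prime] : Cfsg.IsCharPFunctor.{u} p (zjE p) := by
  refine ⟨?_, ?_⟩
  · intro Q _ _ hQ hnt
    exact zjE_ne_bot Q hQ
  · intro Q R _ _ _ _ φ
    exact zjE_map_equiv p φ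

/-! ### Sections -/

theorem involves_of_injective {H : Type u} {X : Type v} {Y : Type w} [Group H] [Group X] [Group Y]
    (j : X →* Y) (hj : Function.Injective j) (h : Cfsg.Involves H X) : Cfsg.Involves H Y := by
  obtain ⟨K', R', hn, ⟨e⟩⟩ := h
  have := hn
  refine Cfsg.Agent.Helper10.S2794Core.involves_of_inj_surj (j.comp K'.subtype)
    (hj.comp K'.subtype_injective)
    (e.toMonoidHom.comp (QuotientGroup.mk' (R'.subgroupOf K'))) ?_
  exact e.surjective.comp (QuotientGroup.mk'_surjective _)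

theorem involves_trans {H : Type u} {X : Type v} {Y : Type w} [Group H] [Group X] [Group Y]
    (h1 : Cfsg.Involves H X) (h2 : Cfsg.Involves X Y) : Cfsg.Involves H Y := by
  obtain ⟨K, R, hn, ⟨e⟩⟩ := h2
  have := hn
  have h3 : Cfsg.Involves H (↥K ⧸ R.subgroupOf K) :=
    involves_of_injective e.symm.toMonoidHom e.symm.injective h1
  have h4 : Cfsg.Involves H ↥K := Cfsg.Agent.Helper37.involves_of_involves_quotient _ h3
  exact involves_of_injective K.subtype K.subtype_injective h4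

theorem involves_sl2_qd (p : ℕ) [Fact p.Prime] :
    Cfsg.Involves (Matrix.SpecialLinearGroup (Fin 2) (ZMod p)) ↥(Cfsg.qd p) := by
  have heq : Cfsg.qd p = Cfsg.qdOver (ZMod p) := Cfsg.Agent.Helper97.QdGraph.qd_eq_qdOver
  let e : ↥(Cfsg.qd p) ≃* ↥(Cfsg.qdOver (ZMod p)) := MulEquiv.subgroupCongr heq
  refine Cfsg.Agent.Helper10.S2794Core.involves_of_inj_surj (MonoidHom.id ↥(Cfsg.qd p))
    Function.injective_id ((Cfsg.Agent.Helper46.qdBlock (F := ZMod p)).comp e.toMonoidHom) ?_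
  exact Cfsg.Agent.Helper46.qdBlock_surjective.comp e.surjective

/-! ### Control of strong fusion at a given Sylow subgroup -/

theorem controls_at_of_familyControls_singleton {G : Type u} [Group G] {p : ℕ} [Fact p.Prime]
    [Finite G] {W : Subgroup G → Subgroup G} (hW : Cfsg.IsConjugacyFunctor p W)
    (hctl : Cfsg.FamilyControlsStrongFusionIn p {W} ⊤) (T : Sylow p G) (A : Set G)
    (hA : A ⊆ ((T : Subgroup G) : Set G)) (g : G)
    (hgA : (fun a => g * a * g⁻¹) '' A ⊆ ((T : Subgroup G) : Set G)) :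
    ∃ x ∈ normalizer ((W (T : Subgroup G) : Subgroup G) : Set G),
      ∀ a ∈ A, g * a * g⁻¹ = x * a * x⁻¹ := by
  have h𝓦 : ∀ W' ∈ ({W} : Set (Subgroup G → Subgroup G)), Cfsg.IsConjugacyFunctor p W' := by
    intro W' hW'
    rw [Set.mem_singleton_iff] at hW'
    rw [hW']; exact hW
  have hgA' : Cfsg.Agent.Helper33.conjR g⁻¹ A ⊆ ((T : Subgroup G) : Set G) := by
    rintro _ ⟨a, ha, rfl⟩
    rw [inv_inv]
    exact hgA ⟨a, ha, rfl⟩
  have hidx : ¬ p ∣ (T : Subgroup G).relIndex ⊤ := by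
    rw [Subgroup.relIndex_top_right]; exact T.not_dvd_index
  obtain ⟨g', hch, hag⟩ := Cfsg.Agent.Helper33.reach_of_ctlIn h𝓦 hctl le_top T.2 hidx
    (Subgroup.mem_top g⁻¹) hA hgA'
  have hK : Cfsg.Agent.Helper33.KW ({W} : Set (Subgroup G → Subgroup G)) ⊤ (T : Subgroup G) ⊆
      ((Subgroup.normalizer ((W (T : Subgroup G) : Subgroup G) : Set G) : Subgroup G) : Set G) := by
    rintro z ⟨W', hW', hz⟩
    rw [Set.mem_singleton_iff] at hW'
    rw [hW'] at hz
    exact (Subgroup.mem_inf.mp hz).2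
  have hg'N := hch.mem_of_subset hK
  refine ⟨g'⁻¹, Subgroup.inv_mem _ hg'N, ?_⟩
  intro a ha
  have := hag a ha
  rw [inv_inv] at this ⊢
  exact this.symm

/-- **Glauberman's ZJ-theorem, fusion form**: in an `SL₂(p)`-free group (`p` odd), `N_G(Z(J_e(P)))`
controls strong fusion in `P`. -/
theorem zje_controls_strong_fusion {G : Type u} [Group G] [Finite G] {p : ℕ} [Fact p.Prime]
    (hp : p ≠ 2)
    (hfree : ¬ Cfsg.Involves (Matrix.SpecialLinearGroup (Fin 2) (ZMod p)) G) (P : Sylow p G)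
    (A : Set G) (hA : A ⊆ ((P : Subgroup G) : Set G)) (g : G)
    (hgA : (fun a => g * a * g⁻¹) '' A ⊆ ((P : Subgroup G) : Set G)) :
    ∃ x ∈ normalizer (Cfsg.centerThompsonOf p (P : Subgroup G) : Set G),
      ∀ a ∈ A, g * a * g⁻¹ = x * a * x⁻¹ := by
  have hD : Cfsg.Agent.Helper97.QdCore.DicksonPair p := by
    intro K _ _ _ L s hsL hsp hs1 hS
    exact Cfsg.Agent.Helper97.QdDickson.dickson_pair_finite p hp K L s hsL hsp hs1 hS
  have hqd : ¬ Cfsg.Involves ↥(Cfsg.qd p) G := fun h =>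
    hfree (involves_trans (involves_sl2_qd p) h)
  have hW := isCharPFunctor_zjE.{u} p
  have hloc : ∀ (K R : Subgroup G) [hR : (R.subgroupOf K).Normal],
      Subgroup.centralizer ((Cfsg.pCore p (↥K ⧸ R.subgroupOf K) : Subgroup (↥K ⧸ R.subgroupOf K)) :
        Set (↥K ⧸ R.subgroupOf K)) ≤ Cfsg.pCore p (↥K ⧸ R.subgroupOf K) →
      ∀ T : Sylow p (↥K ⧸ R.subgroupOf K),
        (Cfsg.inducedFunctor (G := (↥K ⧸ R.subgroupOf K)) (zjE p)
          ((T : Subgroup (↥K ⧸ R.subgroupOf K)))).Normal := by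
    intro K R hR hcon T
    rw [inducedFunctor_zjE]
    have hfreeX : ¬ Cfsg.Involves ↥(Cfsg.qd p) (↥K ⧸ R.subgroupOf K) := by
      intro h
      apply hqd
      apply Cfsg.Agent.Helper10.S2794Core.involves_of_involves_subgroup' K
      exact Cfsg.Agent.Helper37.involves_of_involves_quotient (R.subgroupOf K) h
    exact centerThompsonOf_normal hp hcon
      (fun V _ hV => Cfsg.Agent.Helper97.QdCore.isPStableOn_of_qdFree hp hD hfreeX V hV) T
  have h𝓦 : ∀ W' ∈ ({zjE p} : Set (∀ (Q : Type u) [Group Q], Subgroup Q)),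
      Cfsg.IsCharPFunctor.{u} p W' := by
    intro W' hW'
    rw [Set.mem_singleton_iff] at hW'
    rw [hW']; exact hW
  have hΦ := Cfsg.Agent.Helper33.isoInvariant_CSFProp h𝓦
  have hsecG : Cfsg.Agent.Helper33.SectionProp (Cfsg.Agent.Helper33.CSFProp p {zjE p}) G := by
    intro K R _ hfin hcon
    have := hfin
    obtain ⟨T⟩ : Nonempty (Sylow p (↥K ⧸ R.subgroupOf K)) := inferInstance
    show Cfsg.FamilyControlsStrongFusionIn p (Cfsg.Agent.Helper33.FamW {zjE p} _) ⊤
    unfold Cfsg.Agent.Helper33.FamW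
    rw [Set.image_singleton]
    exact Cfsg.Agent.Helper33.familyControls_singleton_of_normal _ T (hloc K R hcon T)
  have hctl := Cfsg.Agent.Helper33.familyControls_of_constrained_sections h𝓦 _ G rfl hsecG
  unfold Cfsg.Agent.Helper33.FamW at hctl
  rw [Set.image_singleton] at hctl
  have h := controls_at_of_familyControls_singleton
    (Cfsg.Agent.Helper33.isConjugacyFunctor_inducedFunctor hW G) hctl P A hA g hgA
  rw [inducedFunctor_zjE] at h
  exact h

end Cfsg.Agent.Helper21.ZJe
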